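import Cfsg.Agent.Lib.Perm.Small.CentralizerTest

/-!
# Simple groups of order 95040: finite checks for the prime eleven
-/

set_option autoImplicit false
set_option linter.all false

namespace CfsgLib.Char.MTwelveOrder

open CfsgLib.Perm.PrimeBlock

theorem eleven_n : ∀ j < 786, 8640 % (11 * j + 1) = 0 → j ∈ [0, 1, 4, 13, 29, 49, 157] := by
  decide +kernel

theorem eleven_possible : ∀ n ∈ [45, 144, 320, 540, 1728], ∀ e ∈ [2, 5, 10], (8640 / n) % e = 0 →
    possible 95040 8640 11 e (8640 / n / e) 309 = true →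
      (n = 144 ∧ (e = 5 ∨ e = 10)) ∨ (n = 1728 ∧ e = 5) := by
  decide +kernel

theorem eleven_params {n e : ℕ} (hn : n ∣ 8640) (he : e ∈ [2, 5, 10]) (h1 : n % 11 = 1) (h2 : 1 < n)
    (he0 : (8640 / n) % e = 0) (hp : possible 95040 8640 11 e (8640 / n / e) 309 = true) :
    n = 12 ∨ (n = 144 ∧ (e = 5 ∨ e = 10)) ∨ (n = 1728 ∧ e = 5) := by
  have hle := Nat.le_of_dvd (by norm_num) hn
  have hn' : n = 11 * (n / 11) + 1 := by omega
  have hj := eleven_n (n / 11) (by omega) (by rw [← hn']; exact Nat.mod_eq_zero_of_dvd hn)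
  have hmem : n = 12 ∨ n ∈ [45, 144, 320, 540, 1728] := by
    simp only [List.mem_cons, List.not_mem_nil, or_false] at hj ⊢
    omega
  rcases hmem with h | h
  · exact Or.inl h
  · exact Or.inr (eleven_possible n h e he he0 hp)

/-- The possible orders of the centralizer of an involution centralizing a Sylow 11-subgroup. -/
def centOrders : List ℕ := [22, 44, 66, 88, 110, 132, 176, 198, 220, 264, 330, 352, 396, 440, 528,
  594, 660, 704, 792, 880, 990, 1056, 1188, 1320, 1584, 1760, 1980, 2112, 2376, 2640, 2970, 3168,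
  3520, 3960, 4752, 5280, 5940, 6336]

theorem centOrders_spec : ∀ k < 333, 95040 % (22 * k) = 0 → 22 * k ∈ centOrders := by
  decide +kernel

/-- The states of partial assignments: value sum, square sum, numerator. -/
def states (p d : ℕ) : List ℤ → List (ℤ × ℤ × ℤ)
  | [] => [(1, 1, 1)]
  | s :: r =>
    (((states p d r).flatMap fun x => (valsCent p d s).map fun S =>
        (x.1 + S, x.2.1 + S * S, x.2.2 * s + S * S * r.prod)).filter
      fun y => decide (y.2.1 ≤ (d : ℤ))).eraseDups

/-- One state gives no integral class constant at any admissible centralizer order. -/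
def stateFails (e c : ℕ) (D den : ℤ) (x : ℤ × ℤ × ℤ) : Bool :=
  let T : ℤ := x.1
  let t : ℤ := ((10 / e : ℕ) : ℤ)
  let q : ℤ := x.2.1 + t * (T * T)
  let num : ℤ := ((95040 * c : ℕ) : ℤ) * (x.2.2 * D - T * T * den)
  !(decide (T.natAbs < D.natAbs)) || !((T - D) % 4 == 0) || !((t * T + 1) % 11 == 0) ||
    centOrders.all fun d => decide ((d : ℤ) < q) || !(num % ((d : ℤ) * (d : ℤ) * (den * D)) == 0)

/-- All assignments for all degree lists fail. -/
def allFail (e c : ℕ) : Bool :=
  ((combos (cands 95040 8640 11 c 309) (e - 1)).filter fun l =>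
      okAbs 95040 8640 (1 + l.sum).natAbs && ((1 + l.sum) % ((11 : ℕ) : ℤ) == (e : ℤ) % ((11 : ℕ) : ℤ))).all
    fun l => (states 11 7311 l).all (stateFails e c (1 + l.sum) l.prod)

theorem fracSum_snd : ∀ a : List (ℤ × ℤ), (fracSum a).2 = (a.map Prod.fst).prod
  | [] => by simp [fracSum]
  | (s, S) :: r => by
    simp only [fracSum, List.map_cons, List.prod_cons, fracSum_snd r]
    ring

theorem mem_states (p d : ℕ) : ∀ (l : List ℤ) (a : List (ℤ × ℤ)), a ∈ assignsCent p d l →
    1 + (a.map fun x => x.2 * x.2).sum ≤ (d : ℤ) →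
      (1 + (a.map Prod.snd).sum, 1 + (a.map fun x => x.2 * x.2).sum, (fracSum a).1) ∈ states p d l ∧
        a.map Prod.fst = l
  | [], a, h, _ => by
    simp only [assignsCent, List.mem_singleton] at h
    subst h
    simp [states, fracSum]
  | s :: r, a, h, hq => by
    simp only [assignsCent, List.mem_flatMap, List.mem_map] at h
    obtain ⟨S, hS, b, hb, rfl⟩ := h
    simp only [List.map_cons, List.sum_cons] at hq ⊢
    obtain ⟨ih, hmap⟩ := mem_states p d r b hb (by nlinarith [mul_self_nonneg S])
    refine ⟨?_, by rw [hmap]⟩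
    simp only [states, List.mem_eraseDups, List.mem_filter, List.mem_flatMap, List.mem_map, decide_eq_true_eq]
    refine ⟨⟨_, ih, S, hS, ?_⟩, by linarith⟩
    simp only [fracSum, fracSum_snd, hmap, Prod.mk.injEq]
    refine ⟨by ring, by ring, trivial⟩

theorem allFail_five : allFail 5 12 = true := by decide +kernel

theorem allFail_ten : allFail 10 6 = true := by decide +kernel

end CfsgLib.Char.MTwelveOrder
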