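import Cfsg.Agent.Lib.Spor.M12
import Cfsg.Agent.Lib.Spor.SylowTwoMathieu
import Cfsg.Prelude.Def_Spor_Mathieu

/-!
# The stabilizers of the dodecads and the fixed model of the Mathieu group of degree twelve
-/

set_option autoImplicit false

namespace CfsgLib.Char.MTwelveOrder

open Cfsg MulAction CfsgLib.Spor
open scoped Pointwise

theorem mem_M12_iff (g : Equiv.Perm GolayPt) : g ∈ Spor.M12 ↔
    g ∈ M24 ∧ g • Spor.squareDodecad = Spor.squareDodecad := by
  simp only [Spor.M12, Subgroup.mem_inf, MulAction.mem_stabilizer_iff]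

theorem mem_stab {d : Finset GolayPt} (x : M24) :
    x ∈ stabilizer M24 d ↔ (x : Equiv.Perm GolayPt) • d = d := by
  rw [MulAction.mem_stabilizer_iff]
  rfl

/-- Conjugation onto the model. -/
def toSquare {d : Finset GolayPt} {g : Equiv.Perm GolayPt} (hg : g ∈ M24) (hd : g • d = Spor.squareDodecad) :
    stabilizer M24 d ≃* Spor.M12 where
  toFun x := ⟨g * ((x : M24) : Equiv.Perm GolayPt) * g⁻¹, by
    refine (mem_M12_iff _).2 ⟨M24.mul_mem (M24.mul_mem hg (x : M24).2) (M24.inv_mem hg), ?_⟩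
    rw [mul_smul, mul_smul, ← hd, inv_smul_smul, (mem_stab _).1 x.2]⟩
  invFun y := ⟨⟨g⁻¹ * (y : Equiv.Perm GolayPt) * g,
      M24.mul_mem (M24.mul_mem (M24.inv_mem hg) ((mem_M12_iff _).1 y.2).1) hg⟩, by
    refine (mem_stab _).2 ?_
    simp only [mul_smul]
    rw [hd, ((mem_M12_iff _).1 y.2).2, inv_smul_eq_iff, hd]⟩
  left_inv x := Subtype.ext (Subtype.ext (by simp [mul_assoc]))
  right_inv y := Subtype.ext (by simp [mul_assoc])
  map_mul' x y := Subtype.ext (by simp [mul_assoc])

/-- Every stabilizer of a dodecad is the fixed model. -/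
theorem nonempty_stabilizer_iso {d : Finset GolayPt} (hd : d ∈ dodecads) :
    Nonempty (stabilizer M24 d ≃* Spor.M12) := by
  obtain ⟨g, hg⟩ := exists_smul_dodecad hd squareDodecad_mem
  exact ⟨toSquare g.2 hg⟩

end CfsgLib.Char.MTwelveOrder
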