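import Cfsg.Agent.Lib.Char.MTwelveOrder.Classes
import Cfsg.Agent.Lib.Char.MTwelveOrder.Transport
import Cfsg.Agent.Lib.Spor.MTwelveCent.Iso

/-!
# Simple groups of order 95040: reduction to a model of the centralizer of a central involution
-/

set_option autoImplicit false
set_option linter.all false

open Cfsg CfsgLib.Spor.MTwelveCent
open scoped Pointwise

namespace CfsgLib.Char.MTwelveOrder

universe u

variable {G : Type u} [Group G] [Finite G] [IsSimpleGroup G]

/-- A simple group of this order is `M₁₂` once its central involution has a model centralizer. -/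
theorem iso_of_models (h : Nat.card G = 95040)
    (hm : ∀ L : Local G, ∃ z : G, ∃ ψ : ℕ → G, Model z ψ) : Nonempty (G ≃* ↥Spor.M12) := by
  haveI := Fintype.ofFinite G
  obtain ⟨L⟩ := exists_local (G := G) h
  obtain ⟨z, ψ, M⟩ := hm L
  exact isoM12_of_model (noncomm h) M

/-- The same for the stabilizer of a dodecad. -/
theorem iso_stabilizer_of_models (h : Nat.card G = 95040)
    (hm : ∀ L : Local G, ∃ z : G, ∃ ψ : ℕ → G, Model z ψ) {d : Finset GolayPt} (hd : d ∈ dodecads) :
    Nonempty (G ≃* ↥(MulAction.stabilizer M24 d)) := by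
  obtain ⟨e⟩ := iso_of_models h hm
  obtain ⟨e'⟩ := nonempty_stabilizer_iso hd
  exact ⟨e.trans e'.symm⟩

end CfsgLib.Char.MTwelveOrder
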