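import Cfsg.Agent.Lib.Char.MTwelveOrder.LocalModelExtra
import Cfsg.Agent.Lib.Spor.ExtraSymThree.Setup
import Cfsg.Agent.Lib.Spor.ExtraSymThree.ToTwelve

/-!
# The centralizer of the first involution is that of the Mathieu group of degree twelve
-/

set_option autoImplicit false
set_option linter.all false
set_option maxRecDepth 100000

namespace CfsgLib.Char.MTwelveOrder

open Subgroup CfsgLib.Spor.ExtraSymThree

/-- A group of order six with two different involutions. -/
theorem sym_three_of_six {A : Type*} [Group A] [Finite A] (h : Nat.card A = 6) {s t : A} (hs : s * s = 1)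
    (ht : t * t = 1) (hs1 : s ≠ 1) (ht1 : t ≠ 1) (hne : s ≠ t) : Nonempty (A ≃* Equiv.Perm (Fin 3)) := by
  classical
  have hnc : s * t ≠ t * s := by
    intro e
    let i : Fin 2 × Fin 2 → A := fun p => s ^ (p.1 : ℕ) * t ^ (p.2 : ℕ)
    let V : Subgroup A :=
      { carrier := {g | ∃ p, i p = g}
        one_mem' := ⟨(0, 0), by simp [i]⟩
        mul_mem' := by
          rintro _ _ ⟨⟨a, b⟩, rfl⟩ ⟨⟨a', b'⟩, rfl⟩
          refine ⟨(a + a', b + b'), ?_⟩
          have hts : ∀ m n : ℕ, t ^ m * s ^ n = s ^ n * t ^ m := fun m n =>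
            ((show Commute t s from e.symm).pow_pow m n).eq
          have p2 : ∀ (g : A), g * g = 1 → ∀ x y : Fin 2, g ^ ((x + y : Fin 2) : ℕ) = g ^ (x : ℕ) * g ^ (y : ℕ) :=
            fun g hg x y => by fin_cases x <;> fin_cases y <;> simp [hg]
          simp only [i, p2 s hs, p2 t ht]
          rw [mul_assoc (s ^ (a : ℕ)), mul_assoc (s ^ (a : ℕ)), ← mul_assoc (s ^ (a' : ℕ)), ← hts, mul_assoc]
        inv_mem' := by
          rintro _ ⟨⟨a, b⟩, rfl⟩
          refine ⟨(a, b), ?_⟩
          fin_cases a <;> fin_cases b <;>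
            simp [i, inv_eq_of_mul_eq_one_right hs, inv_eq_of_mul_eq_one_right ht, e] }
    have h1 : i (1, 0) = s := by simp [i]
    have h2 : i (0, 1) = t := by simp [i]
    have hinj : Function.Injective fun p => (⟨i p, p, rfl⟩ : V) := by
      intro p q hpq
      have hpq' : i p = i q := congrArg Subtype.val hpq
      obtain ⟨a, b⟩ := p
      obtain ⟨a', b'⟩ := q
      have hst : s * t ≠ 1 := fun h => hne
        ((eq_inv_of_mul_eq_one_left h).trans (inv_eq_of_mul_eq_one_right ht))
      have hsn : s * t ≠ s := fun h => ht1 (mul_eq_left.1 h)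
      have htn : s * t ≠ t := fun h => hs1 (mul_eq_right.1 h)
      fin_cases a <;> fin_cases b <;> fin_cases a' <;> fin_cases b' <;>
        simp [i, hs1, ht1, hne, hst, hsn, htn, hs1.symm, ht1.symm, hne.symm, hst.symm, hsn.symm, htn.symm] at hpq' ⊢
    have hV : Nat.card V = 4 := by
      rw [← Nat.card_eq_of_bijective _ ⟨hinj, fun g => ⟨g.2.choose, Subtype.ext g.2.choose_spec⟩⟩]
      simp
    have := V.card_subgroup_dvd_card
    rw [hV, h] at this
    norm_num at this
  let φ : A →* Equiv.Perm (A ⧸ zpowers s) := MulAction.toPermHom A (A ⧸ zpowers s)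
  have hidx : Nat.card (A ⧸ zpowers s) = 3 := by
    have h1 := (zpowers s).card_mul_index
    rw [Nat.card_zpowers, orderOf_eq_prime (by rw [pow_two, hs]) hs1, h, index_eq_card] at h1
    omega
  have hinj : Function.Injective φ := by
    rw [← MonoidHom.ker_eq_bot_iff, eq_bot_iff]
    intro g hg
    have hgs : g ∈ zpowers s := by
      have h1 : g • ((1 : A) : A ⧸ zpowers s) = ((1 : A) : A ⧸ zpowers s) := by
        simpa [φ] using Equiv.Perm.ext_iff.1 (MonoidHom.mem_ker.1 hg) ((1 : A) : A ⧸ zpowers s)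
      have h2 : ((g * 1 : A) : A ⧸ zpowers s) = ((1 : A) : A ⧸ zpowers s) := h1
      simpa using QuotientGroup.eq.1 h2
    obtain ⟨k, rfl⟩ := mem_zpowers_iff.1 hgs
    rw [mem_bot]
    rcases Int.emod_two_eq_zero_or_one k with hk | hk
    · rw [← zpow_mod_orderOf, orderOf_eq_prime (by rw [pow_two, hs]) hs1, Nat.cast_ofNat, hk, zpow_zero]
    · exfalso
      have hsk : s ^ k = s := by
        rw [← zpow_mod_orderOf, orderOf_eq_prime (by rw [pow_two, hs]) hs1, Nat.cast_ofNat, hk, zpow_one]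
      rw [hsk] at hg
      have h1 : s • ((t : A) : A ⧸ zpowers s) = ((t : A) : A ⧸ zpowers s) := by
        simpa [φ] using Equiv.Perm.ext_iff.1 (MonoidHom.mem_ker.1 hg) ((t : A) : A ⧸ zpowers s)
      have h2 : ((s * t : A) : A ⧸ zpowers s) = ((t : A) : A ⧸ zpowers s) := h1
      obtain ⟨m, hm⟩ := mem_zpowers_iff.1 (QuotientGroup.eq.1 h2)
      rw [mul_inv_rev, inv_eq_of_mul_eq_one_right hs, inv_eq_of_mul_eq_one_right ht, ← zpow_mod_orderOf,
        orderOf_eq_prime (by rw [pow_two, hs]) hs1, Nat.cast_ofNat] at hm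
      rcases Int.emod_two_eq_zero_or_one m with h' | h' <;> rw [h'] at hm
      · rw [zpow_zero] at hm
        refine hs1 ?_
        calc s = t * (t * s * t) * t := by
              rw [← mul_assoc, ← mul_assoc, ht, one_mul, mul_assoc, ht, mul_one]
          _ = 1 := by rw [← hm, mul_one, ht]
      · rw [zpow_one] at hm
        exact hnc (by rw [show s * t = t * s * t * t by rw [← hm], mul_assoc (t * s), ht, mul_one])
  refine ⟨((MulEquiv.ofBijective φ (hinj.bijective_of_nat_card_le ?_))).trans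
    (Equiv.permCongrHom (Finite.equivFinOfCardEq hidx))⟩
  rw [Nat.card_perm, hidx, h]
  rfl

theorem lCode_facts :
    (∀ c < 192, isInvL false false c = true → centN false false c = 16 → ∀ g < 192,
      lMul false false g c ≠ lMul false false (lMul false false c 1) g) := by decide +kernel

namespace Local

/-- The centralizer of a central involution is a Mathieu model. -/
theorem exists_model {G : Type*} [Group G] [Finite G] (L : Local G) :
    ∃ z ψ, CfsgLib.Spor.MTwelveCent.Model (G := G) z ψ := by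
  classical
  obtain ⟨L', huy⟩ := L.exists_comm
  obtain ⟨a, c, d, F⟩ := L'.exists_extraFrame huy
  haveI : Fact (Nat.Prime 2) := ⟨Nat.prime_two⟩
  haveI : Fact (Nat.Prime 3) := ⟨Nat.prime_three⟩
  set C := centralizer ({L'.u} : Set G) with hC
  have hC192 : Nat.card C = 192 := L'.cent_u
  haveI hn : (F.E.subgroupOf C).Normal := ⟨fun n hn g => by
    rw [mem_subgroupOf] at hn ⊢
    exact F.norm (mem_centralizer_singleton_iff.1 g.2) hn⟩
  have hEC : Nat.card (F.E.subgroupOf C) = 32 := by
    rw [Nat.card_congr (subgroupOfEquivOfLe F.E_le).toEquiv, F.card_E]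
  have hidx : (F.E.subgroupOf C).index = 6 := by
    have := (F.E.subgroupOf C).card_mul_index
    rw [hEC, hC192] at this
    omega
  obtain ⟨s, t, ⟨hsu, hss, hsE⟩, ⟨htu, htt, htE⟩, hst⟩ := F.exists_two
  set sC : C := ⟨s, mem_centralizer_singleton_iff.2 hsu⟩ with hsC
  set tC : C := ⟨t, mem_centralizer_singleton_iff.2 htu⟩ with htC
  -- the two-core
  have hcore : Cfsg.pCore 2 C = F.E.subgroupOf C := by
    have hle : F.E.subgroupOf C ≤ Cfsg.pCore 2 C :=
      CfsgLib.Coprime.le_pCore (IsPGroup.of_card (n := 5) (by rw [hEC]; norm_num))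
    refine (eq_of_le_of_card_ge hle ?_).symm
    haveI := CfsgLib.Coprime.pCore_normal' (G := C) 2
    obtain ⟨n, hn2⟩ := IsPGroup.iff_card.1 (CfsgLib.Coprime.pCore_isPGroup (G := C) 2)
    have hd := (Cfsg.pCore 2 C).card_subgroup_dvd_card
    have hge := Subgroup.card_le_of_le hle
    have hdd := Subgroup.card_dvd_of_le hle
    rw [hn2] at hd hge hdd ⊢
    rw [hC192] at hd
    rw [hEC] at hge hdd ⊢
    by_contra hlt
    have hn6 : n = 6 := by
      have h5 : ¬ n ≤ 5 := fun h => hlt (Nat.pow_le_pow_right (by norm_num) h)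
      have h6 : n ≤ 6 := by
        have h1 : 2 ^ n ∣ 64 := (Nat.Coprime.pow_left n (by norm_num : Nat.Coprime 2 3)).dvd_of_dvd_mul_right
          (by rwa [show (64 : ℕ) * 3 = 192 by norm_num])
        exact (Nat.pow_dvd_pow_iff_le_right (by norm_num : 1 < 2)).1 (show 2 ^ n ∣ 2 ^ 6 from h1)
      omega
    subst hn6
    have hidx3 : (Cfsg.pCore 2 C).index = 3 := by
      have := (Cfsg.pCore 2 C).card_mul_index
      rw [hn2, hC192] at this
      omega
    have hin : ∀ z : C, z * z = 1 → z ∈ Cfsg.pCore 2 C := by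
      intro z hz
      rw [← QuotientGroup.eq_one_iff (N := Cfsg.pCore 2 C)]
      have h3 := pow_card_eq_one' (x := (z : C ⧸ Cfsg.pCore 2 C))
      rw [← index_eq_card, hidx3, pow_succ, pow_two, ← QuotientGroup.mk_mul, hz, QuotientGroup.mk_one, one_mul] at h3
      exact h3
    -- two cosets cannot fit
    have h2 : ((F.E.subgroupOf C).subgroupOf (Cfsg.pCore 2 C)).index = 2 := by
      have := ((F.E.subgroupOf C).subgroupOf (Cfsg.pCore 2 C)).card_mul_index
      rw [Nat.card_congr (subgroupOfEquivOfLe hle).toEquiv, hEC, hn2] at this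
      omega
    have hs' : (⟨sC, hin sC (Subtype.ext hss)⟩ : Cfsg.pCore 2 C) ∉ (F.E.subgroupOf C).subgroupOf (Cfsg.pCore 2 C) :=
      fun h => hsE h
    have ht' : (⟨tC, hin tC (Subtype.ext htt)⟩ : Cfsg.pCore 2 C) ∉ (F.E.subgroupOf C).subgroupOf (Cfsg.pCore 2 C) :=
      fun h => htE h
    have h := mul_mem_iff_of_index_two h2 (a := (⟨sC, hin sC (Subtype.ext hss)⟩ : Cfsg.pCore 2 C)⁻¹)
      (b := ⟨tC, hin tC (Subtype.ext htt)⟩)
    exact hst (h.2 (iff_of_false (fun h' => hs' (by simpa using inv_mem h')) ht'))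
  haveI := CfsgLib.Coprime.pCore_normal' (G := C) 2
  have hmemO : ∀ g : C, g ∈ Cfsg.pCore 2 C ↔ (g : G) ∈ F.E := fun g => by rw [hcore, mem_subgroupOf]
  obtain ⟨e⟩ : Nonempty (C ⧸ Cfsg.pCore 2 C ≃* Equiv.Perm (Fin 3)) := by
    refine sym_three_of_six (s := (sC : C ⧸ Cfsg.pCore 2 C)) (t := (tC : C ⧸ Cfsg.pCore 2 C)) ?_ ?_ ?_ ?_ ?_ ?_
    · rw [← index_eq_card, hcore, hidx]
    · rw [← QuotientGroup.mk_mul, show sC * sC = 1 from Subtype.ext hss, QuotientGroup.mk_one]
    · rw [← QuotientGroup.mk_mul, show tC * tC = 1 from Subtype.ext htt, QuotientGroup.mk_one]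
    · exact fun h => hsE ((hmemO sC).1 ((QuotientGroup.eq_one_iff sC).1 h))
    · exact fun h => htE ((hmemO tC).1 ((QuotientGroup.eq_one_iff tC).1 h))
    · exact fun h => hst ((hmemO _).1 (QuotientGroup.eq.1 h))
  have hQ : F.E = (Cfsg.pCore 2 C).map C.subtype := by
    rw [hcore, subgroupOf_map_subtype, inf_eq_left.2 F.E_le]
  obtain ⟨X⟩ : Nonempty (Sylow 3 C) := inferInstance
  have hX : Nat.card (X : Subgroup C) = 3 := by
    rw [X.card_eq_multiplicity, hC192]
    have : (192 : ℕ).factorization 3 = 1 := by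
      rw [show (192 : ℕ) = 3 ^ 1 * 64 by norm_num, Nat.factorization_mul (by norm_num) (by norm_num)]
      simp [Nat.Prime.factorization_pow Nat.prime_three, Nat.Prime.factorization_self Nat.prime_three,
        Nat.factorization_eq_zero_of_not_dvd (show ¬ (3 : ℕ) ∣ 64 by norm_num)]
    rw [this, pow_one]
  haveI : IsCyclic (X : Subgroup C) := isCyclic_of_prime_card hX
  obtain ⟨x₀, hx₀⟩ := IsCyclic.exists_generator (α := (X : Subgroup C))
  have hx3 : x₀ * x₀ * x₀ = 1 := by
    have h := pow_card_eq_one' (x := x₀)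
    rwa [hX, pow_succ, pow_two] at h
  have hxord : orderOf x₀ = 3 := by rw [orderOf_eq_card_of_forall_mem_zpowers hx₀, hX]
  have hCQX : F.E ⊓ centralizer (((X : Subgroup C).map C.subtype : Subgroup G) : Set G) = zpowers L'.u := by
    refine le_antisymm (fun g hg => ?_) ?_
    · obtain ⟨hgE, hgX⟩ := mem_inf.1 hg
      have hxE : ((x₀ : C) : G) ∉ F.E := by
        intro h
        have hd : orderOf (⟨_, h⟩ : F.E) ∣ 32 := F.card_E ▸ orderOf_dvd_natCard _
        rw [← Subgroup.orderOf_coe] at hd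
        simp only [Subgroup.orderOf_coe, hxord] at hd
        norm_num at hd
      have := F.free (x := ((x₀ : C) : G)) (mem_centralizer_singleton_iff.1 (x₀ : C).2) hxE
        (congrArg (fun z : (X : Subgroup C) => ((z : C) : G)) hx3) hgE
        (mem_centralizer_iff.1 hgX _ ⟨(x₀ : C), x₀.2, rfl⟩)
      rcases this with rfl | rfl
      · exact one_mem _
      · exact mem_zpowers _
    · rw [zpowers_le]
      refine mem_inf.2 ⟨F.u_mem, mem_centralizer_iff.2 ?_⟩
      rintro _ ⟨z, -, rfl⟩
      exact mem_centralizer_singleton_iff.1 z.2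
  have hnwc : ∃ g : G, g * L'.u * g⁻¹ ∈ F.E ∧ g * L'.u * g⁻¹ ≠ L'.u := by
    obtain ⟨g, hg⟩ := isConj_iff.1 F.fused
    refine ⟨g, ?_, ?_⟩
    · rw [hg]
      have h := mul_mem (F.code_mem (q := 2) (by norm_num)) (F.code_mem (q := 8) (by norm_num))
      rwa [F.at_two, show qVal L'.u L'.y a c d 8 = c by simp [qVal, qBit]] at h
    · rw [hg]
      intro h
      have h8 : qVal L'.u L'.y a c d (qMul 2 8) = qVal L'.u L'.y a c d 1 := by
        rw [← F.rel.mul, F.at_two, show qVal L'.u L'.y a c d 8 = c by simp [qVal, qBit], h, F.at_one]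
      exact absurd (F.inj _ (qMul_lt _ (by norm_num) _ (by norm_num)) _ (by norm_num) h8) (by decide)
  obtain ⟨sw, ε, ψ, M, k, hk192, hk32, hk0, hk1, hconj⟩ :=
    exists_lModel L'.u_order C hC F.E hQ F.isExtraspecial F.card_E e X hCQX hnwc
  have hk : k < 32 := hk32 ▸ Nat.mod_lt _ (by norm_num)
  obtain ⟨hε, -⟩ := twist_false M hk hk1 hconj
  subst hε
  cases sw
  · exfalso
    obtain ⟨j, hj, ej⟩ := M.surj L'.y (mem_centralizer_singleton_iff.2 huy.symm)
    obtain ⟨g, hg, eg⟩ := F.trans _ (F.mem 3 (by decide)).1 (F.mem 3 (by decide)).2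
    obtain ⟨i, hi, ei⟩ := M.surj g (mem_centralizer_singleton_iff.2 hg)
    have hinv : isInvL false false j = true := by
      simp only [isInvL, Bool.and_eq_true, bne_iff_ne, ne_eq, beq_iff_eq]
      refine ⟨fun h => L'.y_ne (by rw [← ej, h, M.one]), (lMulT_eq hj hj).symm.trans (M.inj _ (lMul_lt hj hj) 0 (by norm_num) ?_)⟩
      rw [← M.mul j hj j hj, ej, M.one, L'.y_sq]
    have hcent : centN false false j = 16 := by
      rw [centN, ← M.card_filter (fun x => x * ψ j = ψ j * x) _ fun q hq => by rw [eq_comm, M.comm_iff hj hq], ej,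
        ← F.cent]
      exact Nat.card_congr (Equiv.subtypeEquivRight fun x => by
        rw [mem_inf, mem_centralizer_singleton_iff (g := L'.y)])
    refine lCode_facts j hj hinv hcent i hi (M.inj _ (lMul_lt hi hj) _ (lMul_lt (lMul_lt hj (by norm_num)) hi) ?_)
    rw [← M.mul i hi j hj, ← M.mul _ (lMul_lt hj (by norm_num)) i hi, ← M.mul j hj 1 (by norm_num), ei, ej, M.at_s]
    rw [show qVal L'.u L'.y a c d 3 = L'.y * L'.u by
      rw [show (3 : ℕ) = qMul 1 2 from rfl, F.flip, F.at_two, huy]] at eg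
    exact mul_inv_eq_iff_eq_mul.1 eg
  · exact ⟨_, _, M.toModel⟩

end Local

end CfsgLib.Char.MTwelveOrder
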