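import Cfsg.Agent.Lib.Char.MTwelveOrder.Link
import Cfsg.Agent.Lib.Char.Perm

/-!
# Simple groups of order 95040: the basic table
-/

set_option autoImplicit false
set_option linter.all false
set_option maxHeartbeats 1000000

open Cfsg CfsgLib.Perm.PrimeBlock CfsgLib.Block Finset CfsgLib.Char.MEleven.Order
open scoped ComplexConjugate

namespace CfsgLib.Char.MTwelveOrder

universe u

variable {G : Type u} [Group G] [Fintype G] [IsSimpleGroup G]

/-- The known part of the character table. -/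
structure Base (G : Type u) [Group G] [Fintype G] where
  E : ElevenSetup G
  F : FiveSetup E 4 2
  y : G
  y_order : orderOf y = 2
  y_mem : y ∈ Subgroup.centralizer ((F.Q : Subgroup G) : Set G)
  cent_y : Nat.card (Subgroup.centralizer ({y} : Set G)) = 240
  b45 : IrrCharacter G
  b54 : IrrCharacter G
  b120 : IrrCharacter G
  b144 : IrrCharacter G
  t1 : IrrCharacter G
  t2 : IrrCharacter G
  t_ne : t1 ≠ t2
  X_nodup : [b45, b54, b120, b144].Nodup
  X_eq : E.S.X = [b45, b54, b120, b144].toFinset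
  Y_eq : E.S.Y = {t1, t2}
  sd_X : [b45, b54, b120, b144].map (sd E.S) = [45, -54, -120, 144]
  eps : E.S.ε = 1
  D_eq : E.S.D = 16
  f_X : [b45, b54, b120, b144].map (fun χ => iv χ E.f) = [0, -1, 0, -1]
  f_Y : iv t1 E.f = 1 ∧ iv t2 E.f = 1
  y_X : [b45, b54, b120, b144].map (fun χ => iv χ y) = [5, 6, 0, 4]
  y_Y : iv t1 y = 4 ∧ iv t2 y = 4

/-- The exceptional values at an element of order eleven are irrational. -/
theorem ElevenSetup.theta_irrational (E : ElevenSetup G) (hε : E.S.ε = 1) {θ θ' : IrrCharacter G}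
    (hne : θ ≠ θ') (hY : E.S.Y = {θ, θ'}) {a : ℤ} {b : ℕ} (hb : b ≠ 0)
    (he : (b : ℂ) * (θ : G → ℂ) E.x = a) : False := by
  classical
  haveI : Fact (Nat.Prime 11) := ⟨by norm_num⟩
  haveI := Fintype.ofFinite (IrrCharacter G)
  obtain ⟨t, ht⟩ := exists_int_of_rational (CfsgLib.Char.isCharacter_isIntegral
    (CfsgLib.Char.isCharacter_irr θ) E.x) hb he
  have hs : (θ : G → ℂ) E.x + (θ' : G → ℂ) E.x = -1 := by
    have hv := E.S.value_Y E.x E.x_mem E.x_ne 1 (one_mem _) (by rw [orderOf_one]; norm_num)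
    rw [hY, hε] at hv
    simpa [Finset.sum_pair hne] using hv
  have ht' : (θ' : G → ℂ) E.x = ((-1 - t : ℤ) : ℂ) := by push_cast; linear_combination hs - ht
  have hxX : ∀ χ ∈ E.S.X, (χ : G → ℂ) E.x = (E.S.εX χ : ℂ) := fun χ hχ => by
    have := E.S.value_X χ hχ E.x E.x_mem E.x_ne 1 (one_mem _) (by rw [orderOf_one]; norm_num)
    rwa [mul_one] at this
  have hall : ∀ χ : IrrCharacter G, (χ : G → ℂ) E.x = (iv χ E.x : ℂ) := by
    intro χ
    refine iv_spec ?_
    by_cases h1 : χ = oneChar G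
    · exact ⟨1, by rw [h1]; show (1 : ℂ) = _; simp⟩
    by_cases h2 : χ ∈ E.S.X
    · exact ⟨_, hxX χ h2⟩
    by_cases h3 : χ ∈ E.S.Y
    · rw [hY] at h3
      simp only [Finset.mem_insert, Finset.mem_singleton] at h3
      rcases h3 with rfl | rfl
      · exact ⟨_, ht⟩
      · exact ⟨_, ht'⟩
    · exact ⟨0, by rw [E.S.outside E.cent_P χ h1 h2 h3 E.x E.x_mem E.x_ne]; simp⟩
  have hcol := sum_iv_sq hall
  rw [centralizer_of_order E.card_P E.x_order, E.cent_P,
    ← Finset.sum_subset (Finset.subset_univ ({oneChar G} ∪ E.S.X ∪ E.S.Y)) (fun χ _ hχ => by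
      simp only [Finset.mem_union, Finset.mem_singleton, not_or] at hχ
      rw [iv_eq (r := 0) (by rw [E.S.outside E.cent_P χ hχ.1.1 hχ.1.2 hχ.2 E.x E.x_mem E.x_ne]; simp)]
      ring),
    Finset.sum_union (Finset.disjoint_union_left.2
      ⟨Finset.disjoint_singleton_left.2 E.S.one_notMem_Y, E.S.disjoint⟩),
    Finset.sum_union (Finset.disjoint_singleton_left.2 E.S.one_notMem_X), Finset.sum_singleton,
    iv_oneChar, Finset.sum_congr rfl (s₁ := E.S.X) (g := fun _ => (1 : ℤ)) (fun χ hχ => by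
      rw [iv_eq (hxX χ hχ)]; rcases E.S.sign_X χ hχ with e | e <;> simp [e]),
    Finset.sum_const, show E.S.X.card = 4 by have := E.S.card_X; omega, hY, Finset.sum_pair hne,
    iv_eq ht, iv_eq ht'] at hcol
  simp at hcol
  obtain ⟨m, hm⟩ : (2 : ℤ) ∣ t * t + t := by
    rcases Int.even_or_odd t with ⟨j, hj⟩ | ⟨j, hj⟩ <;> subst hj
    · exact ⟨2 * j * j + j, by ring⟩
    · exact ⟨2 * j * j + 3 * j + 1, by ring⟩
  have h5 : 4 * m = 5 := by linarith
  omega

/-- A centralizer of index at most 44 cannot belong to this involution. -/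
theorem FiveSetup.big_impossible {E : ElevenSetup G} {c : ℕ} (F : FiveSetup E 4 c) (h : Nat.card G = 95040)
    {X' : List (IrrCharacter G)} (hp : List.Perm X' E.S.X.toList) (hl : X'.map (sd E.S) = listA)
    {y : G} (hy : orderOf y = 2)
    (hd : (((Nat.card (Subgroup.centralizer ({y} : Set G))) = 2160 ∨
        Nat.card (Subgroup.centralizer ({y} : Set G)) = 2880) ∧ 1 + (X'.map (sv E.S y)).sum = -8) ∨
      Nat.card (Subgroup.centralizer ({y} : Set G)) = 4320 ∨
      Nat.card (Subgroup.centralizer ({y} : Set G)) = 8640) : False := by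
  classical
  haveI : Fact (Nat.Prime 11) := ⟨by norm_num⟩
  haveI := Fintype.ofFinite (IrrCharacter G)
  have hG := noncomm h
  set H := Subgroup.centralizer ({y} : Set G) with hH
  set k := H.index with hk
  have hkd : Nat.card H * k = 95040 := by rw [hk, Subgroup.card_mul_index, h]
  have hk44 : k = 44 ∨ k = 33 ∨ k = 22 ∨ k = 11 := by
    rcases hd with ⟨e | e, -⟩ | e | e <;> rw [e] at hkd <;> omega
  let π : G → ℂ := CfsgLib.Char.permChar G (G ⧸ H)
  have hπ : IsCharacter G π := CfsgLib.Char.isCharacter_permChar (G ⧸ H)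
  choose m hm using fun ψ => CfsgLib.Char.classInner_char_irr_nat hπ ψ
  have hexp := CfsgLib.Char.classFun_expand (f := π) (fun g h => by
    obtain ⟨n, ρ, hρ⟩ := hπ
    rw [← hρ]; exact Representation.char_conj ρ g h)
  have hval : ∀ g, π g = ∑ ψ : IrrCharacter G, (m ψ : ℂ) * (ψ : G → ℂ) g := fun g => by
    conv_lhs => rw [hexp]
    simp only [Finset.sum_apply, Pi.smul_apply, smul_eq_mul, hm]
  have hm1 : m (oneChar G) = 1 := by
    have h1 := hm (oneChar G)
    have h2 := CfsgLib.Char.classInner_permChar_one (G := G) (G ⧸ H)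
    have h3 : Nat.card (MulAction.orbitRel.Quotient G (G ⧸ H)) = 1 := by
      haveI := (MulAction.pretransitive_iff_subsingleton_quotient G (G ⧸ H)).1 inferInstance
      haveI : Nonempty (MulAction.orbitRel.Quotient G (G ⧸ H)) := ⟨Quotient.mk'' ((1 : G) : G ⧸ H)⟩
      exact Nat.card_eq_one_iff_unique.2 ⟨inferInstance, inferInstance⟩
    rw [show classInner π ((oneChar G : IrrCharacter G) : G → ℂ) = _ from h2, h3] at h1
    exact_mod_cast h1.symm
  set W := Finset.univ \ ({oneChar G} ∪ E.S.X ∪ E.S.Y) with hW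
  obtain ⟨θ, θ', hne, hY⟩ := Finset.card_eq_two.1 (show E.S.Y.card = 2 by rw [E.S.card_Y])
  have hθ : θ ∈ E.S.Y := by rw [hY]; simp
  have hr1 := rel_one E.S hθ
  have hru := rel_val E.S hθ (g := y) (by rw [hy]; norm_num) (fun χ => val_invol hG χ hy)
  rw [← Finset.sum_map_toList, ← (hp.map _).sum_eq] at hr1 hru
  rw [hl] at hr1
  norm_num [listA] at hr1
  have hεD : E.S.ε = 1 ∧ E.S.D = 16 := by rcases E.S.sign with e | e <;> rw [e] at hr1 ⊢ <;> omega
  rw [hεD.1, one_mul] at hru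
  have hdθ : dg θ = 16 := (E.S.degree_Y θ hθ).trans hεD.2
  have hdθ' : dg θ' = 16 := (E.S.degree_Y θ' (by rw [hY]; simp)).trans hεD.2
  have hsplit : ∀ φ : IrrCharacter G → ℂ, ∑ χ : IrrCharacter G, φ χ =
      φ (oneChar G) + ∑ χ ∈ E.S.X, φ χ + (φ θ + φ θ') + ∑ χ ∈ W, φ χ := by
    intro φ
    rw [← Finset.sum_sdiff (Finset.subset_univ ({oneChar G} ∪ E.S.X ∪ E.S.Y)), ← hW,
      Finset.sum_union (Finset.disjoint_union_left.2
        ⟨Finset.disjoint_singleton_left.2 E.S.one_notMem_Y, E.S.disjoint⟩),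
      Finset.sum_union (Finset.disjoint_singleton_left.2 E.S.one_notMem_X), Finset.sum_singleton,
      hY, Finset.sum_pair hne]
    ring
  have hWmem : ∀ χ ∈ W, χ ≠ oneChar G ∧ χ ∉ E.S.X ∧ χ ∉ E.S.Y := fun χ hχ => by
    simpa [hW, Finset.mem_union, not_or, and_assoc] using hχ
  have hone : ∀ g : G, ((oneChar G : IrrCharacter G) : G → ℂ) g = 1 := fun _ => rfl
  have hsum1 := hval 1
  rw [hsplit] at hsum1
  simp only [val_one, hm1, dg_one, hdθ, hdθ'] at hsum1
  rw [show π 1 = (k : ℂ) by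
    show ((Nat.card (MulAction.fixedBy (G ⧸ H) (1 : G)) : ℕ) : ℂ) = _
    rw [MulAction.fixedBy_one_eq_univ, Nat.card_univ, ← Subgroup.index_eq_card]] at hsum1
  set A := ∑ χ ∈ E.S.X, m χ * dg χ with hA
  set B := ∑ χ ∈ W, m χ * dg χ with hB
  have hNat : k = 1 + A + (16 * m θ + 16 * m θ') + B := by
    have : (k : ℂ) = ((1 + A + (16 * m θ + 16 * m θ') + B : ℕ) : ℂ) := by
      rw [hsum1, hA, hB]; push_cast; ring
    exact_mod_cast this
  have hXzero : ∀ χ ∈ E.S.X, m χ = 0 := by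
    intro χ hχ
    have h45 : 45 ≤ dg χ := by
      have hm' : sd E.S χ ∈ listA := hl ▸ List.mem_map_of_mem (hp.mem_iff.2 (Finset.mem_toList.2 hχ))
      have habs := natAbs_sd E.S hχ
      simp only [listA, List.mem_cons, List.not_mem_nil, or_false] at hm'
      omega
    have hle : m χ * dg χ ≤ A := Finset.single_le_sum (f := fun χ => m χ * dg χ) (fun _ _ => Nat.zero_le _) hχ
    rcases Nat.eq_zero_or_pos (m χ) with e | e
    · exact e
    · have : dg χ ≤ m χ * dg χ := Nat.le_mul_of_pos_left _ e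
      omega
  have hxzero : π E.x = 0 := by
    show ((Nat.card (MulAction.fixedBy (G ⧸ H) E.x) : ℕ) : ℂ) = 0
    haveI : IsEmpty (MulAction.fixedBy (G ⧸ H) E.x) := by
      refine ⟨fun ⟨q, hq⟩ => ?_⟩
      obtain ⟨g, rfl⟩ := QuotientGroup.mk_surjective q
      rw [MulAction.mem_fixedBy, MulAction.Quotient.smul_coe, smul_eq_mul, eq_comm, QuotientGroup.eq,
        ← mul_assoc] at hq
      have h11 := Subgroup.orderOf_dvd_natCard _ hq
      have hco : orderOf (g⁻¹ * E.x * g) = 11 := by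
        have := ((MulAut.conj g⁻¹).orderOf_eq E.x)
        simp only [MulAut.conj_apply, inv_inv] at this
        rw [this, E.x_order]
      rw [hco] at h11
      exact ElevenSetup.eleven_ndvd h hy h11
    simp [Nat.card_of_isEmpty]
  have hx := hval E.x
  rw [hxzero, hsplit, hone, hm1, Finset.sum_eq_zero (s := E.S.X) (fun χ hχ => by rw [hXzero χ hχ]; simp),
    Finset.sum_eq_zero (s := W) (fun χ hχ => by
      rw [E.S.outside E.cent_P χ (hWmem χ hχ).1 (hWmem χ hχ).2.1 (hWmem χ hχ).2.2 E.x E.x_mem E.x_ne,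
        mul_zero])] at hx
  have hs : (θ : G → ℂ) E.x + (θ' : G → ℂ) E.x = -1 := by
    have hv := E.S.value_Y E.x E.x_mem E.x_ne 1 (one_mem _) (by rw [orderOf_one]; norm_num)
    rw [hY, hεD.1] at hv
    simpa [Finset.sum_pair hne] using hv
  have hmm : m θ = 1 ∧ m θ' = 1 := by
    have heq : ((m θ : ℂ) - m θ') * (θ : G → ℂ) E.x = (((m θ' : ℤ) - 1 : ℤ) : ℂ) := by
      push_cast at hx ⊢
      linear_combination -hx - (m θ' : ℂ) * hs
    by_cases he : m θ = m θ'
    · rw [he, sub_self, zero_mul] at heq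
      have : (m θ' : ℤ) - 1 = 0 := by exact_mod_cast heq.symm
      omega
    · exfalso
      rcases Nat.lt_or_gt_of_ne he with hlt | hlt
      · refine E.theta_irrational hεD.1 hne hY (b := m θ' - m θ) (a := 1 - (m θ' : ℤ)) (by omega) ?_
        rw [Nat.cast_sub hlt.le]
        push_cast at heq ⊢
        linear_combination -heq
      · refine E.theta_irrational hεD.1 hne hY (b := m θ - m θ') (a := (m θ' : ℤ) - 1) (by omega) ?_
        rw [Nat.cast_sub hlt.le]
        push_cast at heq ⊢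
        linear_combination heq
  rw [hmm.1, hmm.2] at hNat
  have hB11 : B ≤ 11 := by omega
  obtain ⟨hdd, hT⟩ : ((Nat.card H = 2160 ∨ Nat.card H = 2880) ∧ 1 + (X'.map (sv E.S y)).sum = -8) := by
    rcases hd with e | e | e
    · exact e
    all_goals (rw [e] at hkd; omega)
  have hyv : ∀ χ : IrrCharacter G, (χ : G → ℂ) y = (iv χ y : ℂ) := fun χ => val_invol hG χ hy
  have hy1 := hval y
  rw [hsplit] at hy1
  simp only [hone, hm1, hyv] at hy1
  rw [Finset.sum_eq_zero (s := E.S.X) (fun χ hχ => by rw [hXzero χ hχ]; simp), hmm.1, hmm.2,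
    iv_Y E.S (θ' := θ) (by rw [hY]; simp : θ' ∈ E.S.Y) hθ (by rw [hy]; norm_num) hyv, hru, hT] at hy1
  have hcast : π y = ((1 + (-8 + -8) + ∑ χ ∈ W, (m χ : ℤ) * iv χ y : ℤ) : ℂ) := by
    rw [hy1]; push_cast; simp [iv_oneChar]; norm_num
  have hπy : 1 ≤ Nat.card (MulAction.fixedBy (G ⧸ H) y) := by
    haveI : Nonempty (MulAction.fixedBy (G ⧸ H) y) := ⟨⟨((1 : G) : G ⧸ H), by
      rw [MulAction.mem_fixedBy, MulAction.Quotient.smul_coe, smul_eq_mul, mul_one, eq_comm, QuotientGroup.eq,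
        inv_one, one_mul]
      exact Subgroup.mem_centralizer_singleton_iff.2 rfl⟩⟩
    exact Nat.card_pos
  have hle : ∑ χ ∈ W, (m χ : ℤ) * iv χ y ≤ (B : ℤ) := by
    rw [hB]; push_cast
    refine Finset.sum_le_sum fun χ hχ => mul_le_mul_of_nonneg_left ?_ (Int.natCast_nonneg _)
    have := (iv_bound hG χ (hWmem χ hχ).1 hy).1
    omega
  have hint : ((Nat.card (MulAction.fixedBy (G ⧸ H) y) : ℕ) : ℤ) =
      1 + (-8 + -8) + ∑ χ ∈ W, (m χ : ℤ) * iv χ y := by
    have h1 : ((Nat.card (MulAction.fixedBy (G ⧸ H) y) : ℕ) : ℂ) = _ := hcast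
    exact_mod_cast h1
  omega

/-- The basic table. -/
theorem exists_base (h : Nat.card G = 95040) : Nonempty (Base G) := by
  classical
  haveI : Fact (Nat.Prime 5) := ⟨by norm_num⟩
  haveI : Fact (Nat.Prime 11) := ⟨by norm_num⟩
  haveI : Fact (Nat.Prime 2) := ⟨Nat.prime_two⟩
  have hG := noncomm h
  obtain ⟨E⟩ := exists_elevenSetup h
  obtain ⟨e, c, ⟨F⟩⟩ := exists_fiveSetup h E
  have he : e = 4 := by
    rcases F.he with he2 | he4
    · subst he2; exact (F.e_ne_two h).elim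
    · exact he4
  subst he
  obtain ⟨X', hp, hcases⟩ := F.cases h
  rcases hcases with ⟨hl, hc⟩ | ⟨hl, hc⟩
  swap
  · exact (F.not_ten h hp hl hc).elim
  have hc' : c = 2 ∨ c = 12 := by rcases hc with e | ⟨e, -⟩ <;> [exact Or.inr e; exact Or.inl e]
  obtain ⟨y', hy'⟩ := exists_prime_orderOf_dvd_card'
    (G := Subgroup.centralizer ((F.Q : Subgroup G) : Set G)) 2
    (by rw [F.cent_Q]; rcases hc' with rfl | rfl <;> norm_num)
  have hy : orderOf (y' : G) = 2 := by rw [Subgroup.orderOf_coe, hy']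
  rcases F.y_cases h hp hl hc' hy y'.2 with ⟨hc2, hd, hw⟩ | hbig
  swap
  · exact (F.big_impossible h hp hl hy hbig).elim
  subst hc2
  have htup : X'.map (fun χ => (sd E.S χ, sv E.S E.f χ)) = tupleA := by
    rcases hc with e | ⟨-, e⟩
    · norm_num at e
    · exact e
  obtain ⟨b45, b54, b120, b144, rfl⟩ : ∃ a b c' d', X' = [a, b, c', d'] := by
    have hlen := congrArg List.length hl
    simp only [List.length_map, listA, List.length_cons, List.length_nil] at hlen
    exact ⟨X'[0], X'[1], X'[2], X'[3], List.ext_getElem (by simp [hlen]) fun i h1 h2 => by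
      simp only [List.length_cons, List.length_nil] at h2
      interval_cases i <;> rfl⟩
  have hnd : [b45, b54, b120, b144].Nodup := hp.nodup_iff.2 E.S.X.nodup_toList
  have hXeq : E.S.X = [b45, b54, b120, b144].toFinset := by
    rw [List.toFinset_eq_of_perm _ _ hp, Finset.toList_toFinset]
  obtain ⟨t1, t2, hne, hY⟩ := Finset.card_eq_two.1 (show E.S.Y.card = 2 by rw [E.S.card_Y])
  have ht1 : t1 ∈ E.S.Y := by rw [hY]; simp
  have ht2 : t2 ∈ E.S.Y := by rw [hY]; simp
  have hr1 := rel_one E.S ht1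
  have hrf := rel_val E.S ht1 (g := E.f) (by rw [E.f_order]; norm_num) F.val_f
  have hry := rel_val E.S ht1 (g := (y' : G)) (by rw [hy]; norm_num) (fun χ => val_invol hG χ hy)
  rw [hXeq, List.sum_toFinset _ hnd] at hr1 hrf hry
  rw [hl] at hr1
  norm_num [listA] at hr1
  have hεD : E.S.ε = 1 ∧ E.S.D = 16 := by rcases E.S.sign with e | e <;> rw [e] at hr1 ⊢ <;> omega
  have htup' : [b45, b54, b120, b144].map (sv E.S E.f) = [0, 1, 0, -1] := by
    have := congrArg (List.map Prod.snd) htup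
    simpa [tupleA] using this
  rw [htup', hεD.1, one_mul] at hrf
  rw [hw, hεD.1, one_mul] at hry
  norm_num [valsA] at hrf hry
  have hmemX : ∀ χ ∈ [b45, b54, b120, b144], χ ∈ E.S.X := fun χ hχ => by
    rw [hXeq]; exact List.mem_toFinset.2 hχ
  simp only [List.map_cons, List.map_nil, listA, valsA, List.cons.injEq, and_true] at hl hw htup'
  have key : ∀ χ ∈ [b45, b54, b120, b144], ∀ (g : G) (s v : ℤ), sd E.S χ = s → sv E.S g χ = v →
      iv χ g = sgnZ s * v := fun χ hχ g s v h1 h2 => by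
    rw [← h1, ← h2, E.mul_sgn_sv (hmemX χ hχ)]
  have hvY := fun (g : G) (hg : ¬ 11 ∣ orderOf g) (hv : ∀ χ : IrrCharacter G, (χ : G → ℂ) g = (iv χ g : ℂ)) =>
    iv_Y E.S ht2 ht1 hg hv
  refine ⟨⟨E, F, y', hy, y'.2, hd, b45, b54, b120, b144, t1, t2, hne, hnd, hXeq, hY, ?_, hεD.1, hεD.2, ?_,
    ⟨hrf, ?_⟩, ?_, ⟨hry, ?_⟩⟩⟩
  · simp [hl.1, hl.2.1, hl.2.2.1, hl.2.2.2]
  · simp [key b45 (by simp) E.f _ _ hl.1 htup'.1, key b54 (by simp) E.f _ _ hl.2.1 htup'.2.1,
      key b120 (by simp) E.f _ _ hl.2.2.1 htup'.2.2.1, key b144 (by simp) E.f _ _ hl.2.2.2 htup'.2.2.2, sgnZ]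
  · rw [hvY E.f (by rw [E.f_order]; norm_num) F.val_f]; exact hrf
  · simp [key b45 (by simp) y' _ _ hl.1 hw.1, key b54 (by simp) y' _ _ hl.2.1 hw.2.1,
      key b120 (by simp) y' _ _ hl.2.2.1 hw.2.2.1, key b144 (by simp) y' _ _ hl.2.2.2 hw.2.2.2, sgnZ]
  · rw [hvY y' (by rw [hy]; norm_num) (fun χ => val_invol hG χ hy)]; exact hry

end CfsgLib.Char.MTwelveOrder
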