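import Cfsg.Agent.Lib.Char.MTwelveOrder.Eleven

/-!
# Bounds on values from invariants of small subgroups
-/

set_option autoImplicit false
set_option linter.all false

open Cfsg CfsgLib.Perm.PrimeBlock CfsgLib.Block Finset CfsgLib.Char.MEleven.Order

namespace CfsgLib.Char.MTwelveOrder

universe u

variable {G : Type u} [Group G] [Finite G] [Fintype G]

/-- The values on a subgroup of order 55 with self-centralizing Sylow 11-subgroup. -/
theorem bound_fiftyfive {ψ : G → ℂ} (hψ : IsCharacter G ψ) (P : Sylow 11 G)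
    (hP : Nat.card (P : Subgroup G) = 11)
    (hC : Nat.card (Subgroup.centralizer ((P : Subgroup G) : Set G)) = 11)
    (hN : Nat.card (Subgroup.normalizer ((P : Subgroup G) : Set G)) = 55)
    {d s α : ℤ} (hd : ψ 1 = (d : ℂ)) (hs : ∀ x ∈ (P : Subgroup G), x ≠ 1 → ψ x = (s : ℂ))
    (hα : ∀ g ∈ Subgroup.normalizer ((P : Subgroup G) : Set G), orderOf g = 5 → ψ g = (α : ℂ)) :
    0 ≤ d + 10 * s + 44 * α ∧ 11 * α ≤ d + 10 * s := by
  classical
  haveI : Fact (Nat.Prime 11) := ⟨by norm_num⟩
  set N := Subgroup.normalizer ((P : Subgroup G) : Set G) with hNdef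
  have hPN : (P : Subgroup G) ≤ N := Subgroup.le_normalizer
  have hCP : Subgroup.centralizer ((P : Subgroup G) : Set G) = (P : Subgroup G) := by
    haveI : IsMulCommutative (P : Subgroup G) := (isCyclic_of_prime_card hP).isMulCommutative
    exact (Subgroup.eq_of_le_of_card_ge (Subgroup.le_centralizer _) (by rw [hC, hP])).symm
  set SP : Finset G := Finset.univ.filter (fun g => g ∈ (P : Subgroup G)) with hSP
  set SN : Finset G := Finset.univ.filter (fun g => g ∈ N) with hSN
  obtain ⟨a, b, hab, e1, e2⟩ := invariants_mono hψ hPN SP SN (by simp [hSP]) (by simp [hSN])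
  rw [hN] at e1
  rw [hP] at e2
  have hcP : SP.card = 11 := by
    rw [hSP, ← Fintype.card_subtype, ← Nat.card_eq_fintype_card]; exact hP
  have hcN : SN.card = 55 := by
    rw [hSN, ← Fintype.card_subtype, ← Nat.card_eq_fintype_card]; exact hN
  have hsum1 : ∑ g ∈ SP, ψ g = ((d + 10 * s : ℤ) : ℂ) := by
    have h1 : (1 : G) ∈ SP := by simp [hSP, one_mem]
    rw [← Finset.add_sum_erase _ _ h1, hd, Finset.sum_congr rfl (g := fun _ => (s : ℂ)) (fun g hg => by
      obtain ⟨hg1, hg2⟩ := Finset.mem_erase.1 hg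
      exact hs g (by simpa [hSP] using hg2) hg1), Finset.sum_const, Finset.card_erase_of_mem h1, hcP,
      nsmul_eq_mul]
    push_cast
    ring
  have hfive : ∀ g ∈ N, g ∉ (P : Subgroup G) → orderOf g = 5 := by
    intro g hg hgP
    have h55 : orderOf g ∣ 55 := hN ▸ Subgroup.orderOf_dvd_natCard _ hg
    have key : ∀ n < 56, n ∣ 55 → n = 1 ∨ n = 5 ∨ n = 11 ∨ n = 55 := by decide
    rcases key _ (Nat.lt_succ_of_le (Nat.le_of_dvd (by norm_num) h55)) h55 with h | h | h | h
    · exact absurd (orderOf_eq_one_iff.1 h ▸ one_mem _) hgP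
    · exact h
    · exfalso
      obtain ⟨Q, hQ⟩ := (IsPGroup.of_card (p := 11) (n := 1) (G := Subgroup.zpowers (⟨g, hg⟩ : N))
        (by rw [Nat.card_zpowers, Subgroup.orderOf_mk, h, pow_one])).exists_le_sylow
      haveI : ((P : Subgroup G).subgroupOf N).Normal := Subgroup.normal_in_normalizer
      have hPQ : IsPGroup 11 ((P : Subgroup G).subgroupOf N) := IsPGroup.of_card (n := 1) (by
        rw [Nat.card_congr (Subgroup.subgroupOfEquivOfLe hPN).toEquiv, hP, pow_one])
      obtain ⟨R, hR⟩ := hPQ.exists_le_sylow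
      have hcard : ∀ T : Sylow 11 N, Nat.card (T : Subgroup N) = 11 := fun T => by
        rw [T.card_eq_multiplicity, hN, show (55 : ℕ) = 5 * 11 by norm_num,
          Nat.factorization_mul (by norm_num) (by norm_num), Nat.prime_five.factorization,
          (by norm_num : Nat.Prime 11).factorization]
        simp
      have hReq : ((P : Subgroup G).subgroupOf N) = (R : Subgroup N) :=
        Subgroup.eq_of_le_of_card_ge hR (by
          rw [hcard R, Nat.card_congr (Subgroup.subgroupOfEquivOfLe hPN).toEquiv, hP])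
      haveI : Unique (Sylow 11 N) := R.unique_of_normal (hReq ▸ inferInstance)
      obtain rfl := Subsingleton.elim Q R
      have hm : (⟨g, hg⟩ : N) ∈ (P : Subgroup G).subgroupOf N := hReq ▸ hQ (Subgroup.mem_zpowers _)
      exact hgP (Subgroup.mem_subgroupOf.1 hm)
    · exfalso
      refine hgP (hCP ▸ Subgroup.mem_centralizer_iff.2 fun x hx => ?_)
      have hgen : Subgroup.zpowers g = N := Subgroup.eq_of_le_of_card_ge (Subgroup.zpowers_le.2 hg)
        (by rw [hN, Nat.card_zpowers, h])
      obtain ⟨k, hk⟩ : x ∈ Subgroup.zpowers g := hgen ▸ hPN hx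
      rw [← hk]
      exact ((Commute.refl g).zpow_left k).eq
  have hsum2 : ∑ g ∈ SN, ψ g = ((d + 10 * s + 44 * α : ℤ) : ℂ) := by
    have hsub : SP ⊆ SN := fun g hg => by
      simp only [hSP, hSN, Finset.mem_filter, Finset.mem_univ, true_and] at hg ⊢; exact hPN hg
    rw [← Finset.sum_sdiff hsub, hsum1, Finset.sum_congr rfl (g := fun _ => (α : ℂ)) (fun g hg => by
      simp only [hSP, hSN, Finset.mem_sdiff, Finset.mem_filter, Finset.mem_univ, true_and] at hg
      exact hα g hg.1 (hfive g hg.1 hg.2)), Finset.sum_const, Finset.card_sdiff_of_subset hsub, hcP, hcN,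
      nsmul_eq_mul]
    push_cast
    ring
  rw [hsum2] at e1
  rw [hsum1] at e2
  have f1 : d + 10 * s + 44 * α = (a * 55 : ℕ) := by exact_mod_cast e1
  have f2 : d + 10 * s = (b * 11 : ℕ) := by exact_mod_cast e2
  push_cast at f1 f2
  omega

/-- The value at an involution inverting an element of order five. -/
theorem bound_inverter {ψ : G → ℂ} (hψ : IsCharacter G ψ) (hcf : IsClassFunction G ψ)
    {f u : G} (hf : orderOf f = 5) (hu : orderOf u = 2) (hinv : u * f * u⁻¹ = f⁻¹)
    {d α v : ℤ} (hd : ψ 1 = (d : ℂ))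
    (hα : ψ f + ψ (f ^ 2) + ψ (f ^ 3) + ψ (f ^ 4) = ((4 * α : ℤ) : ℂ))
    (hv : ψ u = (v : ℂ)) : 0 ≤ d + 4 * α + 5 * v ∧ 5 * v ≤ d + 4 * α := by
  classical
  have hu2 : u * u = 1 := by rw [← sq, ← hu, pow_orderOf_eq_one]
  have hui : u⁻¹ = u := inv_eq_of_mul_eq_one_left hu2
  rw [hui] at hinv
  have hconj : ∀ w ∈ Subgroup.zpowers f, u * w * u = w⁻¹ := by
    rintro w ⟨k, rfl⟩
    show u * f ^ k * u = (f ^ k)⁻¹
    calc u * f ^ k * u = u * f ^ k * u⁻¹ := by rw [hui]
      _ = (u * f * u⁻¹) ^ k := (conj_zpow).symm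
      _ = _ := by rw [hui, hinv, inv_zpow]
  have hsw : ∀ w ∈ Subgroup.zpowers f, u * w = w⁻¹ * u := fun w hw => by
    rw [← hconj w hw]; simp [mul_assoc, hu2]
  set Z := Subgroup.zpowers f with hZ
  let H : Subgroup G :=
    { carrier := {g | g ∈ Z ∨ g * u ∈ Z}
      one_mem' := Or.inl (one_mem _)
      mul_mem' := by
        rintro a b ha hb
        rcases ha with ha | ha <;> rcases hb with hb | hb
        · exact Or.inl (mul_mem ha hb)
        · exact Or.inr (by rw [mul_assoc]; exact mul_mem ha hb)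
        · refine Or.inr ?_
          have e : a * b * u = a * u * b⁻¹ := by
            rw [mul_assoc a u, hsw _ (inv_mem hb), inv_inv, ← mul_assoc]
          rw [e]; exact mul_mem ha (inv_mem hb)
        · refine Or.inl ?_
          have e : a * b = a * u * (b * u)⁻¹ := by
            have h1 := hsw _ (inv_mem hb)
            rw [inv_inv, mul_assoc, hu2, mul_one] at h1
            rw [mul_assoc, h1]
          rw [e]; exact mul_mem ha (inv_mem hb)
      inv_mem' := by
        rintro a (ha | ha)
        · exact Or.inl (inv_mem ha)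
        · refine Or.inr ?_
          have h1 := hsw _ (inv_mem ha)
          rw [inv_inv, mul_assoc a, hu2, mul_one, mul_inv_rev, hui, ← mul_assoc, hu2, one_mul] at h1
          rw [h1]; exact ha }
  have hZH : Z ≤ H := fun g hg => Or.inl hg
  set SP : Finset G := Finset.univ.filter (fun g => g ∈ Z) with hSP
  set SH : Finset G := Finset.univ.filter (fun g => g ∈ H) with hSH
  have huZ : u ∉ Z := fun h => by
    have h1 := Subgroup.orderOf_dvd_natCard _ h
    rw [hZ, Nat.card_zpowers, hf, hu] at h1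
    norm_num at h1
  have hsplit : SH = SP ∪ SP.image (fun w => w * u) := by
    ext g
    simp only [hSH, hSP, Finset.mem_union, Finset.mem_image, Finset.mem_filter, Finset.mem_univ, true_and]
    constructor
    · rintro (h | h)
      · exact Or.inl h
      · exact Or.inr ⟨g * u, h, by rw [mul_assoc, hu2, mul_one]⟩
    · rintro (h | ⟨w, hw, rfl⟩)
      · exact Or.inl h
      · exact Or.inr (by rw [mul_assoc, hu2, mul_one]; exact hw)
  have hdisj : Disjoint SP (SP.image (fun w => w * u)) := by
    rw [Finset.disjoint_left]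
    intro g hg hg'
    obtain ⟨w, hw, rfl⟩ := Finset.mem_image.1 hg'
    simp only [hSP, Finset.mem_filter, Finset.mem_univ, true_and] at hg hw
    exact huZ (by have := mul_mem (inv_mem hw) hg; rwa [inv_mul_cancel_left] at this)
  have hcP : SP.card = 5 := by
    rw [hSP, ← Fintype.card_subtype, ← Nat.card_eq_fintype_card]
    exact (Nat.card_zpowers f).trans hf
  have hSPeq : SP = (Finset.range 5).image (fun j => f ^ j) := by
    symm
    refine Finset.eq_of_subset_of_card_le ?_ ?_
    · intro g hg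
      obtain ⟨j, -, rfl⟩ := Finset.mem_image.1 hg
      simp only [hSP, Finset.mem_filter, Finset.mem_univ, true_and]
      exact pow_mem (Subgroup.mem_zpowers f) j
    · rw [hcP, Finset.card_image_of_injOn, Finset.card_range]
      intro i hi j hj e
      simp only [Finset.coe_range, Set.mem_Iio] at hi hj
      exact pow_injOn_Iio_orderOf (by rw [hf]; exact hi) (by rw [hf]; exact hj) e
  have hsum1 : ∑ g ∈ SP, ψ g = ((d + 4 * α : ℤ) : ℂ) := by
    rw [hSPeq, Finset.sum_image fun i hi j hj e => pow_injOn_Iio_orderOf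
      (by rw [hf]; simpa using hi) (by rw [hf]; simpa using hj) e]
    simp only [Finset.sum_range_succ, Finset.sum_range_zero, zero_add, pow_zero, pow_one, hd]
    push_cast at hα ⊢
    linear_combination hα
  have hrefl : ∀ w ∈ Z, ψ (w * u) = (v : ℂ) := by
    intro w hw
    have h5 : w ^ 5 = 1 := by
      have h := Subgroup.orderOf_dvd_natCard _ hw
      rw [hZ, Nat.card_zpowers, hf] at h
      exact orderOf_dvd_iff_pow_eq_one.1 h
    have e : w * u = w ^ 3 * u * (w ^ 3)⁻¹ := by
      rw [mul_assoc (w ^ 3), hsw _ (inv_mem (pow_mem hw 3)), inv_inv, ← mul_assoc, ← pow_add,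
        show 3 + 3 = 5 + 1 by norm_num, pow_succ, h5, one_mul]
    rw [e, hcf, hv]
  obtain ⟨a, b, hab, e1, e2⟩ := invariants_mono hψ hZH SP SH (by simp [hSP]) (by simp [hSH])
  have hsum2 : ∑ g ∈ SH, ψ g = ((d + 4 * α + 5 * v : ℤ) : ℂ) := by
    rw [hsplit, Finset.sum_union hdisj, hsum1, Finset.sum_image fun _ _ _ _ h => mul_right_cancel h,
      Finset.sum_congr rfl (g := fun _ => (v : ℂ)) (fun w hw => hrefl w (by simpa [hSP] using hw)),
      Finset.sum_const, hcP, nsmul_eq_mul]
    push_cast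
    ring
  have hH : Nat.card H = 10 := by
    have h1 : Nat.card H = SH.card := by
      rw [Nat.card_eq_fintype_card, Fintype.card_subtype]
    rw [h1, hsplit, Finset.card_union_of_disjoint hdisj, Finset.card_image_of_injective _ (mul_left_injective u),
      hcP]
  have hZc : Nat.card Z = 5 := (Nat.card_zpowers f).trans hf
  rw [hsum2, hH] at e1
  rw [hsum1, hZc] at e2
  have f1 : d + 4 * α + 5 * v = (a * 10 : ℕ) := by exact_mod_cast e1
  have f2 : d + 4 * α = (b * 5 : ℕ) := by exact_mod_cast e2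
  push_cast at f1 f2
  omega

/-- A character of degree five vanishing off the section cannot exist. -/
theorem not_deg_five [IsSimpleGroup G] (hG : ¬ IsMulCommutative G) (h : Nat.card G = 95040)
    (θ : IrrCharacter G) (hd : dg θ = 5) {f z : G} (hf : orderOf f = 5) (hz : ¬ 5 ∣ orderOf z)
    (hz1 : z ≠ 1) (hc : Commute f z) : False := by
  classical
  have hne : (θ : G → ℂ) ≠ fun _ => 1 := by
    intro e
    have h1 := val_one θ
    rw [e, hd] at h1
    norm_num at h1
  have hv0 : ∀ j k : ℕ, ¬ 5 ∣ j → (θ : G → ℂ) (f ^ j * z ^ k) = 0 := by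
    intro j k hj
    refine vanish_five h θ (by rw [hd]) ?_
    have hfo : orderOf (f ^ j) = 5 := by
      rw [orderOf_pow' _ (by rintro rfl; simp at hj), hf]
      rw [((Nat.Prime.coprime_iff_not_dvd (by norm_num : Nat.Prime 5)).2 hj).gcd_eq_one, Nat.div_one]
    rw [((hc.pow_left j).pow_right k).orderOf_mul_eq_mul_orderOf_of_coprime (by
      rw [hfo]; exact (Nat.Prime.coprime_iff_not_dvd (by norm_num : Nat.Prime 5)).2
        fun hh => hz (hh.trans (orderOf_pow_dvd k))), hfo]
    exact dvd_mul_right 5 _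
  obtain ⟨m, ρ, hρ, he⟩ := θ.2
  obtain ⟨b, μ, hμ, hb, hpow⟩ := CfsgLib.Char.exists_eigen_data ρ (f * z)
  set n := orderOf z with hn
  have hcop : Nat.Coprime 5 n := (Nat.Prime.coprime_iff_not_dvd (by norm_num)).2 hz
  obtain ⟨A, hA1, hA2⟩ := Nat.chineseRemainder hcop 1 0
  obtain ⟨B, hB1, hB2⟩ := Nat.chineseRemainder hcop 0 1
  have hfA : (f * z) ^ A = f := by
    rw [hc.mul_pow, show f ^ A = f ^ 1 from pow_eq_pow_iff_modEq.2 (by rwa [hf]),
      show z ^ A = z ^ 0 from pow_eq_pow_iff_modEq.2 hA2, pow_zero, mul_one, pow_one]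
  have hzB : (f * z) ^ B = z := by
    rw [hc.mul_pow, show f ^ B = f ^ 0 from pow_eq_pow_iff_modEq.2 (by rwa [hf]),
      show z ^ B = z ^ 1 from pow_eq_pow_iff_modEq.2 hB2, pow_zero, one_mul, pow_one]
  have hval : ∀ j k : ℕ, (θ : G → ℂ) (f ^ j * z ^ k) = ∑ i, (μ i ^ A) ^ j * (μ i ^ B) ^ k := by
    intro j k
    rw [← he, show f ^ j * z ^ k = (f * z) ^ (A * j + B * k) by rw [pow_add, pow_mul, pow_mul, hfA, hzB], hpow]
    exact Finset.sum_congr rfl fun i _ => by rw [pow_add, pow_mul, pow_mul]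
  have hord : orderOf (f * z) = 5 * n := by
    rw [hc.orderOf_mul_eq_mul_orderOf_of_coprime (by rwa [hf]), hf]
  have hlam : ∀ i, (μ i ^ A) ^ 5 = 1 := by
    intro i
    obtain ⟨t, ht⟩ : n ∣ A := Nat.modEq_zero_iff_dvd.1 hA2
    rw [← pow_mul, ht, show n * t * 5 = orderOf (f * z) * t by rw [hord]; ring, pow_mul, hμ, one_pow]
  have hgeo : ∀ i, ∑ j ∈ Finset.range 5, (μ i ^ A) ^ j = if μ i ^ A = 1 then (5 : ℂ) else 0 := by
    intro i
    split_ifs with hh
    · simp [hh]
    · rw [geom_sum_eq hh, hlam, sub_self, zero_div]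
  have key : ∀ k : ℕ, (θ : G → ℂ) (z ^ k) =
      5 * ∑ i ∈ Finset.univ.filter (fun i => μ i ^ A = 1), (μ i ^ B) ^ k := by
    intro k
    have h1 : ∑ j ∈ Finset.range 5, (θ : G → ℂ) (f ^ j * z ^ k) =
        5 * ∑ i ∈ Finset.univ.filter (fun i => μ i ^ A = 1), (μ i ^ B) ^ k := by
      simp only [hval]
      rw [Finset.sum_comm, Finset.mul_sum, Finset.sum_filter]
      refine Finset.sum_congr rfl fun i _ => ?_
      rw [← Finset.sum_mul, hgeo]
      split_ifs <;> ring
    rw [← h1]
    simp only [Finset.sum_range_succ, Finset.sum_range_zero, zero_add, pow_zero, one_mul]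
    rw [hv0 1 k (by norm_num), hv0 2 k (by norm_num), hv0 3 k (by norm_num), hv0 4 k (by norm_num)]
    ring
  set F := Finset.univ.filter (fun i => μ i ^ A = 1) with hF
  have hF1 : F.card = 1 := by
    have h0 := key 0
    simp only [pow_zero, Finset.sum_const, nsmul_one] at h0
    rw [val_one, hd] at h0
    have : ((5 * F.card : ℕ) : ℂ) = ((5 : ℕ) : ℂ) := by push_cast at h0 ⊢; exact h0.symm
    have := Nat.cast_injective this
    omega
  obtain ⟨i₀, hi₀⟩ := Finset.card_eq_one.1 hF1
  have hz' := key 1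
  rw [pow_one, hi₀, Finset.sum_singleton, pow_one] at hz'
  have hnorm : ‖ρ.character z‖ = (Module.finrank ℂ (Fin m → ℂ) : ℝ) := by
    rw [he, hz', norm_mul]
    have hr : ‖μ i₀ ^ B‖ = 1 := by
      refine Complex.norm_eq_one_of_pow_eq_one (n := orderOf (f * z)) ?_ (orderOf_pos _).ne'
      rw [← pow_mul, mul_comm, pow_mul, hμ, one_pow]
    have h1 := Representation.char_one ρ
    rw [he, val_one, hd] at h1
    have h2 : Module.finrank ℂ (Fin m → ℂ) = 5 := by exact_mod_cast h1.symm
    rw [hr, h2]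
    norm_num
  obtain ⟨ω, hω⟩ := (CfsgLib.Char.norm_char_eq_iff ρ z).1 hnorm
  have hinj : Function.Injective ρ := by
    rw [← MonoidHom.ker_eq_bot_iff]
    refine (Subgroup.eq_bot_iff_forall _).2 fun g hg => eq_one_of_value θ hne ?_
    rw [← he]
    simp only [Representation.character, MonoidHom.mem_ker.1 hg, map_one]
  refine hz1 (center_trivial hG fun a => hinj ?_)
  rw [map_mul, map_mul, hω]
  ext v
  simp

/-- No character of degree ten if an involution centralizes an element of order five. -/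
theorem not_deg_ten [IsSimpleGroup G] (hG : ¬ IsMulCommutative G) (h : Nat.card G = 95040)
    (χ : IrrCharacter G) (hd : dg χ = 10) {f y : G} (hf : orderOf f = 5) (hy : orderOf y = 2)
    (hc : Commute f y) : False := by
  have hne : χ ≠ oneChar G := fun e => by rw [e, dg_one] at hd; norm_num at hd
  obtain ⟨hlt, h4⟩ := iv_bound hG χ hne hy
  have := dvd_value_sub (CfsgLib.Char.isCharacter_irr χ) (by norm_num : Nat.Prime 5) (by norm_num)
    hf hy hc (c := 0) (r := iv χ y) (fun j hj => by
      rw [vanish_five h χ (by rw [hd]; norm_num) ?_, Int.cast_zero]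
      have hfo : orderOf (f ^ j) = 5 := by
        rw [orderOf_pow' _ (by rintro rfl; simp at hj), hf]
        rw [((Nat.Prime.coprime_iff_not_dvd (by norm_num : Nat.Prime 5)).2 hj).gcd_eq_one, Nat.div_one]
      rw [(hc.pow_left j).orderOf_mul_eq_mul_orderOf_of_coprime (by rw [hfo, hy]; norm_num), hfo, hy]
      norm_num) (val_invol hG χ hy)
  omega

end CfsgLib.Char.MTwelveOrder
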