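import Cfsg.Agent.Lib.Char.MTwelveOrder.Pairs

/-!
# Admissible signed degrees with a larger centralizer
-/

set_option autoImplicit false
set_option linter.all false

open Cfsg CfsgLib.Perm.PrimeBlock CfsgLib.Block Finset CfsgLib.Char.MEleven.Order

namespace CfsgLib.Char.MTwelveOrder

universe u

variable {G : Type u} [Group G] [Finite G] [IsSimpleGroup G] [Fintype G]

theorem exists_regular_ne {p c : ℕ} [Fact p.Prime] {P : Subgroup G}
    (hC : Nat.card (Subgroup.centralizer (P : Set G)) = p * c) (hpc : ¬ p ∣ c) (hc1 : 1 < c) :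
    ∃ y ∈ Subgroup.centralizer (P : Set G), ¬ p ∣ orderOf y ∧ y ≠ 1 := by
  have hp : p.Prime := Fact.out
  obtain ⟨r, hr, hrc⟩ := Nat.exists_prime_and_dvd (by omega : c ≠ 1)
  haveI : Fact r.Prime := ⟨hr⟩
  obtain ⟨y, hy⟩ := exists_prime_orderOf_dvd_card' r
    (show r ∣ Nat.card (Subgroup.centralizer (P : Set G)) by rw [hC]; exact hrc.mul_left p)
  have hyo : orderOf (y : G) = r := by rw [Subgroup.orderOf_coe, hy]
  refine ⟨y, y.2, fun h => ?_, fun h => ?_⟩
  · rw [hyo] at h
    exact hpc ((Nat.prime_dvd_prime_iff_eq hp hr).1 h ▸ hrc)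
  · rw [h, orderOf_one] at hyo
    exact hr.one_lt.ne hyo

/-- The signed degrees are candidates, also for a centralizer larger than the Sylow subgroup. -/
theorem mem_cands_sd (hG : ¬ IsMulCommutative G) {p m e c B : ℕ} [Fact p.Prime]
    {P : Subgroup G} (S : Shape p e P) (hP : Nat.card P = p) (hg : Nat.card G = m * p)
    (hC : Nat.card (Subgroup.centralizer (P : Set G)) = p * c) (hpc : ¬ p ∣ c)
    (hB : Nat.card G ≤ B * B) {χ : IrrCharacter G} (hχ : χ ∈ S.X) :
    sd S χ ∈ cands (Nat.card G) m p c B := by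
  classical
  have hp : p.Prime := Fact.out
  have h1 := S.mem_cands_one hG hg hB hχ
  simp only [cands, List.mem_filter, Bool.and_eq_true, Bool.not_eq_true', Bool.and_eq_false_iff] at h1 ⊢
  refine ⟨h1.1, h1.2.1, ?_⟩
  by_contra hcon
  rw [decide_eq_false_iff_not, not_or, not_not, Bool.not_eq_false] at hcon
  obtain ⟨hc1, hk⟩ := hcon
  obtain ⟨y, hyC, hyr, hy1⟩ := exists_regular_ne hC hpc hc1
  obtain ⟨x', hx'⟩ := exists_prime_orderOf_dvd_card' (G := P) p (by rw [hP])
  have hx : (x' : G) ∈ P := x'.2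
  have hxo : orderOf (x' : G) = p := by rw [Subgroup.orderOf_coe, hx']
  have hne1 : (χ : G → ℂ) ≠ fun _ => 1 := fun h => S.one_notMem_X ((Subtype.ext h : χ = oneChar G) ▸ hχ)
  have hsg := S.sign_X χ hχ
  simp only [sd, dg, kills, Bool.or_eq_true, beq_iff_eq] at hk
  refine hy1 (eq_one_of_value χ hne1 ?_)
  rw [(charDegree_eq χ).1]
  refine eq_degree_of_const (CfsgLib.Char.isCharacter_irr χ) (lin_eq_one hG) hp hxo
    (Subgroup.mem_centralizer_iff.1 hyC _ hx) hyr (c := S.εX χ) (fun j k hj => ?_) (charDegree_eq χ).1 ?_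
  · exact S.value_X χ hχ _ (pow_mem hx j) (fun h => hj (hxo ▸ orderOf_dvd_of_pow_eq_one h)) _
      (pow_mem hyC k) (fun h => hyr (h.trans (orderOf_pow_dvd k)))
  · have := hp.two_le
    rcases hsg with hs | hs <;> rw [hs] at hk ⊢ <;> omega

theorem exists_ordered {p e : ℕ} [Fact p.Prime] {P : Subgroup G} (S : Shape p e P) (L : List ℤ)
    (hL : ∀ χ ∈ S.X, sd S χ ∈ L) :
    ∃ X' : List (IrrCharacter G), List.Perm X' S.X.toList ∧ X'.map (sd S) ∈ combos L (e - 1) := by
  classical
  obtain ⟨X', hperm, hmem⟩ := exists_combo (sd S) L S.X.toList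
    (fun χ hχ => hL χ (Finset.mem_toList.1 hχ))
  rw [Finset.length_toList, show S.X.card = e - 1 by have := S.card_X; omega] at hmem
  exact ⟨X', hperm, hmem⟩

/-- An ordering of the block with signed degrees in the list of degree lists. -/
theorem exists_degList (hG : ¬ IsMulCommutative G) {p m e c B : ℕ} [Fact p.Prime]
    {P : Subgroup G} (S : Shape p e P) (hP : Nat.card P = p) (hg : Nat.card G = m * p)
    (hep : e ∣ p - 1) (he : 2 ≤ e)
    (hC : Nat.card (Subgroup.centralizer (P : Set G)) = p * c) (hpc : ¬ p ∣ c)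
    (hB : Nat.card G ≤ B * B) :
    ∃ X' : List (IrrCharacter G), List.Perm X' S.X.toList ∧
      X'.map (sd S) ∈ (combos (cands (Nat.card G) m p c B) (e - 1)).filter (fun l =>
        okAbs (Nat.card G) m (1 + l.sum).natAbs && ((1 + l.sum) % (p : ℤ) == (e : ℤ) % (p : ℤ))) := by
  classical
  obtain ⟨X', hperm, hmem⟩ := exists_ordered S _ (fun χ hχ => mem_cands_sd hG S hP hg hC hpc hB hχ)
  refine ⟨X', hperm, List.mem_filter.2 ⟨hmem, ?_⟩⟩
  obtain ⟨θ, hθ⟩ := nonempty_Y S hep (by omega)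
  have hh := S.okAbs_Y hG hg hep he hθ
  rw [(hperm.map _).sum_eq, Finset.sum_map_toList, ← rel_one S hθ]
  simp only [Bool.and_eq_true, beq_iff_eq]
  exact hh

end CfsgLib.Char.MTwelveOrder
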