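import Mathlib

/-!
# Simple groups of order 95040: what the characters tell about the two involution centralizers
-/

set_option autoImplicit false
set_option linter.all false

namespace CfsgLib.Char.MTwelveOrder

universe u

/-- Two classes of involutions with the fusion numbers of the Mathieu group of degree twelve; `u` is central in
a Sylow subgroup, `y` is not. -/
structure Local (G : Type u) [Group G] where
  u : G
  y : G
  f : G
  u_order : orderOf u = 2
  y_order : orderOf y = 2
  f_order : orderOf f = 5
  cover : ∀ x : G, orderOf x = 2 → IsConj u x ∨ IsConj y x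
  not_conj : ¬ IsConj u y
  cent_u : Nat.card (Subgroup.centralizer ({u} : Set G)) = 192
  cent_y : Nat.card (Subgroup.centralizer ({y} : Set G)) = 240
  f_comm : f * y = y * f
  cent_f : Nat.card (Subgroup.centralizer ({f} : Set G)) = 10
  count_uu : Nat.card {x : G // IsConj u x ∧ x * u = u * x} = 31
  count_uy : Nat.card {x : G // IsConj u x ∧ x * y = y * x} = 15
  count_yu : Nat.card {x : G // IsConj y x ∧ x * u = u * x} = 12
  count_yy : Nat.card {x : G // IsConj y x ∧ x * y = y * x} = 36
  flip_u : ∀ x : G, IsConj u x → x * y = y * x → IsConj y (x * y)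
  flip_y : ∀ x : G, IsConj y x → x * u = u * x → IsConj y (x * u)
  no_root : ∀ g : G, g * g ≠ y

end CfsgLib.Char.MTwelveOrder
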