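import Cfsg.Agent.Lib.Char.MTwelveOrder.UColumn
import Cfsg.Agent.Lib.Char.MTwelveOrder.Local
import Cfsg.Agent.Lib.Char.SquareRoots

/-!
# Simple groups of order 95040: the classes of involutions and their products
-/

set_option autoImplicit false
set_option linter.all false
set_option maxHeartbeats 1600000

open Cfsg CfsgLib.Perm.PrimeBlock CfsgLib.Block Finset CfsgLib.Char.MEleven.Order
open scoped ComplexConjugate

namespace CfsgLib.Char.MTwelveOrder

universe u

variable {G : Type u} [Group G] [Fintype G] [IsSimpleGroup G]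

theorem Base.exceptional_indicator (B : Base G) :
    CfsgLib.Char.sqInd ((B.t1 : IrrCharacter G) : G → ℂ) = 0 ∧
      CfsgLib.Char.sqInd ((B.t2 : IrrCharacter G) : G → ℂ) = 0 := by
  classical
  haveI : Fact (Nat.Prime 11) := ⟨by norm_num⟩
  haveI := Fintype.ofFinite (IrrCharacter G)
  set E := B.E with hE
  have hsum : (B.t1 : G → ℂ) E.x + (B.t2 : G → ℂ) E.x = -1 := by
    have hv := E.S.value_Y E.x E.x_mem E.x_ne 1 (one_mem _) (by rw [orderOf_one]; norm_num)
    rw [hE, B.Y_eq, B.eps] at hv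
    simpa [hE, Finset.sum_pair B.t_ne] using hv
  have hX : ∀ χ ∈ E.S.X, (χ : G → ℂ) E.x * conj ((χ : G → ℂ) E.x) = 1 := fun χ hχ => by
    have h := E.S.value_X χ hχ E.x E.x_mem E.x_ne 1 (one_mem _) (by rw [orderOf_one]; norm_num)
    rw [mul_one] at h
    rw [h]
    rcases E.S.sign_X χ hχ with e | e <;> simp [e]
  have hcol := CfsgLib.Char.sum_irr_mul_conj E.x E.x
  rw [if_pos (IsConj.refl _), centralizer_of_order E.card_P E.x_order, E.cent_P, B.sum_all,
    Finset.sum_eq_zero (s := B.out) (fun χ hχ => by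
      obtain ⟨h1, h2, h3⟩ := B.mem_out.1 hχ
      rw [E.S.outside E.cent_P χ h1 h2 h3 E.x E.x_mem E.x_ne, zero_mul]),
    hX _ B.memX.1, hX _ B.memX.2.1, hX _ B.memX.2.2.1, hX _ B.memX.2.2.2,
    show ((oneChar G : IrrCharacter G) : G → ℂ) E.x = 1 from rfl, map_one, mul_one] at hcol
  have hnr : ∀ a b : ℂ, IsIntegral ℤ a → a + b = -1 → a * conj a + b * conj b = 6 → a.im ≠ 0 := by
    intro a b hint hab hsq him
    have ha : conj a = a := Complex.conj_eq_iff_im.2 him
    have hb : b = -1 - a := by linear_combination hab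
    have hbb : conj b = b := by rw [hb]; simp [ha]
    rw [ha, hbb, hb] at hsq
    obtain ⟨m, hm⟩ := exists_int_of_rational (z := a * a + a) ((hint.mul hint).add hint) (b := 2) (a := 5)
      (by norm_num) (by push_cast; linear_combination hsq)
    rw [hb] at hab
    have h5 : ((2 * m : ℤ) : ℂ) = ((5 : ℤ) : ℂ) := by push_cast; rw [← hm]; linear_combination hsq
    have : 2 * m = 5 := by exact_mod_cast h5
    omega
  have hsq : (B.t1 : G → ℂ) E.x * conj ((B.t1 : G → ℂ) E.x) + (B.t2 : G → ℂ) E.x * conj ((B.t2 : G → ℂ) E.x) = 6 := by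
    push_cast at hcol
    linear_combination hcol
  have hi := fun χ : IrrCharacter G => CfsgLib.Char.isCharacter_isIntegral (CfsgLib.Char.isCharacter_irr χ) E.x
  exact ⟨(CfsgLib.Char.sqInd_cases B.t1).2.2 ⟨E.x, hnr _ _ (hi _) hsum hsq⟩,
    (CfsgLib.Char.sqInd_cases B.t2).2.2 ⟨E.x, hnr _ _ (hi _) (by rw [add_comm]; exact hsum) (by rw [add_comm]; exact hsq)⟩⟩

omit [IsSimpleGroup G] in
theorem card_class {z : G} {d : ℕ} (hd : Nat.card (Subgroup.centralizer ({z} : Set G)) = d) :
    d * Nat.card {x : G // IsConj z x} = Nat.card G := by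
  rw [CfsgLib.Char.card_isConj, ← hd, Subgroup.card_mul_index]

omit [IsSimpleGroup G] in
theorem sq_one_of_conj {z x : G} (hz : orderOf z = 2) (h : IsConj z x) : x * x = 1 ∧ x ≠ 1 := by
  obtain ⟨g, rfl⟩ := isConj_iff.1 h
  have ho : orderOf (g * z * g⁻¹) = 2 := ((MulAut.conj g).orderOf_eq z).trans hz
  exact ⟨by rw [← sq, ← ho, pow_orderOf_eq_one], fun e => by rw [e, orderOf_one] at ho; norm_num at ho⟩

omit [IsSimpleGroup G] in
/-- The square roots of one: the identity and two classes. -/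
theorem roots_ge {u y : G} (hu : orderOf u = 2) (hy : orderOf y = 2) (hne : ¬ IsConj u y) :
    1 + Nat.card {x : G // IsConj u x} + Nat.card {x : G // IsConj y x} ≤ Nat.card {s : G // s * s = 1} ∧
    (Nat.card {s : G // s * s = 1} ≤ 1 + Nat.card {x : G // IsConj u x} + Nat.card {x : G // IsConj y x} →
      ∀ x : G, orderOf x = 2 → IsConj u x ∨ IsConj y x) := by
  classical
  set A := (Finset.univ.filter fun x : G => IsConj u x) with hA
  set C := (Finset.univ.filter fun x : G => IsConj y x) with hC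
  set S := (Finset.univ.filter fun x : G => x * x = 1) with hS
  have e1 : Nat.card {x : G // IsConj u x} = A.card := by rw [Nat.card_eq_fintype_card, Fintype.card_subtype]
  have e2 : Nat.card {x : G // IsConj y x} = C.card := by rw [Nat.card_eq_fintype_card, Fintype.card_subtype]
  have e3 : Nat.card {x : G // x * x = 1} = S.card := by rw [Nat.card_eq_fintype_card, Fintype.card_subtype]
  have hd : Disjoint A C := Finset.disjoint_left.2 fun x hx hx' => by
    simp only [hA, hC, Finset.mem_filter, Finset.mem_univ, true_and] at hx hx'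
    exact hne (hx.trans hx'.symm)
  have h1 : Disjoint ({1} : Finset G) (A ∪ C) := Finset.disjoint_singleton_left.2 fun h => by
    simp only [hA, hC, Finset.mem_union, Finset.mem_filter, Finset.mem_univ, true_and] at h
    rcases h with h | h
    · exact (sq_one_of_conj hu h).2 rfl
    · exact (sq_one_of_conj hy h).2 rfl
  have hsub : {1} ∪ (A ∪ C) ⊆ S := by
    intro x hx
    simp only [hA, hC, hS, Finset.mem_union, Finset.mem_singleton, Finset.mem_filter, Finset.mem_univ, true_and] at hx ⊢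
    rcases hx with rfl | hx | hx
    · exact mul_one 1
    · exact (sq_one_of_conj hu hx).1
    · exact (sq_one_of_conj hy hx).1
  have hcard : ({1} ∪ (A ∪ C)).card = 1 + A.card + C.card := by
    rw [Finset.card_union_of_disjoint h1, Finset.card_union_of_disjoint hd, Finset.card_singleton]; ring
  rw [e1, e2, e3, ← hcard]
  refine ⟨Finset.card_le_card hsub, fun hle x hx => ?_⟩
  have hxS : x ∈ S := by
    simp only [hS, Finset.mem_filter, Finset.mem_univ, true_and]
    rw [← sq, ← hx, pow_orderOf_eq_one]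
  rw [← Finset.eq_of_subset_of_card_le hsub hle] at hxS
  simp only [hA, hC, Finset.mem_union, Finset.mem_singleton, Finset.mem_filter, Finset.mem_univ, true_and] at hxS
  rcases hxS with rfl | h
  · rw [orderOf_one] at hx; norm_num at hx
  · exact h

omit [IsSimpleGroup G] in
/-- A structure constant of involutions as a number of elements. -/
theorem classConst_eq {a b z : G} (ha : orderOf a = 2) :
    CfsgLib.Char.classConst a b z = Nat.card {x : G // IsConj a x ∧ IsConj b (x * z)} := by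
  refine Nat.card_congr
    { toFun := fun p => ⟨p.1.1, p.2.1, ?_⟩
      invFun := fun x => ⟨(x.1, x.1 * z), x.2.1, x.2.2, ?_⟩
      left_inv := fun p => ?_
      right_inv := fun x => rfl }
  · have e : p.1.1 * z = p.1.2 :=
      calc p.1.1 * z = p.1.1 * (p.1.1 * p.1.2) := congrArg (p.1.1 * ·) p.2.2.2.symm
        _ = p.1.2 := by rw [← mul_assoc, (sq_one_of_conj ha p.2.1).1, one_mul]
    exact e.symm ▸ p.2.2.1
  · rw [← mul_assoc, (sq_one_of_conj ha x.2.1).1, one_mul]
  · refine Subtype.ext (Prod.ext rfl ?_)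
    exact calc p.1.1 * z = p.1.1 * (p.1.1 * p.1.2) := congrArg (p.1.1 * ·) p.2.2.2.symm
      _ = p.1.2 := by rw [← mul_assoc, (sq_one_of_conj ha p.2.1).1, one_mul]

omit [IsSimpleGroup G] in
theorem comm_iff_flip {u y a z x : G} (hu : orderOf u = 2) (hy : orderOf y = 2)
    (cover : ∀ w : G, orderOf w = 2 → IsConj u w ∨ IsConj y w) (ha : orderOf a = 2) (hz : orderOf z = 2)
    (hx : IsConj a x) :
    x * z = z * x ↔ (x = z ∨ IsConj u (x * z) ∨ IsConj y (x * z)) := by
  have hxx := (sq_one_of_conj ha hx).1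
  have hzz : z * z = 1 := by rw [← sq, ← hz, pow_orderOf_eq_one]
  constructor
  · intro hc
    by_cases hxz : x = z
    · exact Or.inl hxz
    refine Or.inr (cover _ (orderOf_eq_prime ?_ fun e => hxz ?_))
    · calc (x * z) ^ 2 = x * (z * x) * z := by rw [sq]; group
        _ = x * x * (z * z) := by rw [← hc]; group
        _ = 1 := by rw [hxx, hzz, one_mul]
    · calc x = x * z * z := by rw [mul_assoc, hzz, mul_one]
        _ = z := by rw [e, one_mul]
  · have key : ∀ w : G, orderOf w = 2 → IsConj w (x * z) → x * z = z * x := fun w hw hc => by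
      have h := (sq_one_of_conj hw hc).1
      calc x * z = (x * z)⁻¹ := (inv_eq_of_mul_eq_one_left h).symm
        _ = z * x := by rw [mul_inv_rev, inv_eq_of_mul_eq_one_left hzz, inv_eq_of_mul_eq_one_left hxx]
    rintro (rfl | h | h)
    · rfl
    · exact key u hu h
    · exact key y hy h

omit [IsSimpleGroup G] in
theorem count_comm {u y a z : G} (hu : orderOf u = 2) (hy : orderOf y = 2) (hne : ¬ IsConj u y)
    (cover : ∀ w : G, orderOf w = 2 → IsConj u w ∨ IsConj y w) (ha : orderOf a = 2) (hz : orderOf z = 2) :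
    Nat.card {x : G // IsConj a x ∧ x * z = z * x} = Nat.card {x : G // IsConj a x ∧ x = z} +
      CfsgLib.Char.classConst a u z + CfsgLib.Char.classConst a y z := by
  classical
  rw [classConst_eq ha, classConst_eq ha]
  simp only [Nat.card_eq_fintype_card, Fintype.card_subtype]
  have hzz : z * z = 1 := by rw [← sq, ← hz, pow_orderOf_eq_one]
  rw [← Finset.card_union_of_disjoint, ← Finset.card_union_of_disjoint]
  · congr 1
    ext x
    simp only [Finset.mem_union, Finset.mem_filter, Finset.mem_univ, true_and]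
    constructor
    · rintro ⟨h1, h2⟩
      have := (comm_iff_flip hu hy cover ha hz h1).1 h2
      tauto
    · intro h
      have h1 : IsConj a x := by tauto
      exact ⟨h1, (comm_iff_flip hu hy cover ha hz h1).2 (by tauto)⟩
  · rw [Finset.disjoint_left]
    intro x hx hx'
    simp only [Finset.mem_union, Finset.mem_filter, Finset.mem_univ, true_and] at hx hx'
    rcases hx with ⟨-, rfl⟩ | ⟨-, hx⟩
    · rw [hzz] at hx'
      exact (sq_one_of_conj hy hx'.2).2 rfl
    · exact hne (hx.trans hx'.2.symm)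
  · rw [Finset.disjoint_left]
    intro x hx hx'
    simp only [Finset.mem_filter, Finset.mem_univ, true_and] at hx hx'
    rw [hx.2, hzz] at hx'
    exact (sq_one_of_conj hu hx'.2).2 rfl

namespace Table

variable (T : Table G)

/-- The indicators. -/
theorem roots (h : Nat.card G = 95040) : ∃ n : IrrCharacter G → ℤ, (∀ χ, (n χ).natAbs ≤ 1) ∧ n (oneChar G) = 1 ∧
    n T.B.t1 = 0 ∧ n T.B.t2 = 0 ∧ ∀ [Fintype (IrrCharacter G)] (g : G),
      (Nat.card {s : G // s * s = g} : ℂ) = ∑ χ : IrrCharacter G, (n χ : ℂ) * (χ : G → ℂ) g := by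
  classical
  have hn : ∀ χ : IrrCharacter G, ∃ n : ℤ, CfsgLib.Char.sqInd (χ : G → ℂ) = n ∧ n.natAbs ≤ 1 := fun χ => by
    rcases (CfsgLib.Char.sqInd_cases χ).1 with e | e | e
    · exact ⟨0, by simp [e], by simp⟩
    · exact ⟨1, by simp [e], by simp⟩
    · exact ⟨-1, by simp [e], by simp⟩
  choose n hn hb using hn
  obtain ⟨e1, e2⟩ := T.B.exceptional_indicator
  rw [hn] at e1 e2
  refine ⟨n, hb, ?_, by exact_mod_cast e1, by exact_mod_cast e2, fun g => ?_⟩
  · have h1 := hn (oneChar G)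
    rw [show ((oneChar G : IrrCharacter G) : G → ℂ) = fun _ => (1 : ℂ) from rfl, CfsgLib.Char.sqInd_one] at h1
    exact_mod_cast h1.symm
  · rw [CfsgLib.Char.card_square_roots]
    exact Finset.sum_congr rfl fun χ _ => by rw [hn]

theorem not_X (h : Nat.card G = 95040) : T.o.map T.B.item ≠ restX := by
  classical
  intro hX
  haveI := Fintype.ofFinite (IrrCharacter G)
  obtain ⟨u, hu, h64⟩ := exists_two_central h
  have hd := T.column_X h hX hu h64
  have hne := T.B.not_conj_y h64
  have hA := card_class (G := G) hd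
  have hC := card_class (G := G) T.B.cent_y
  rw [h] at hA hC
  obtain ⟨hge, -⟩ := roots_ge hu T.B.y_order hne
  obtain ⟨n, hb, h1, ht1, ht2, hr⟩ := T.roots h
  have hr1 := hr 1
  have hX' := hX
  simp only [restX, List.map_eq_cons_iff, List.map_eq_nil_iff] at hX'
  obtain ⟨c1, _, rfl', i1, c2, _, rfl, i2, c3, _, rfl, i3, c4, _, rfl, i4, c5, _, rfl, i5, c6, _, rfl, i6,
    rfl⟩ := hX'
  have hmem : ∀ χ ∈ [c1, c2, c3, c4, c5, c6], χ ∈ T.o := by rw [rfl']; exact fun χ h => h
  obtain ⟨g1, -⟩ := T.item_facts h (hmem c1 (by simp)) i1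
  obtain ⟨g2, -⟩ := T.item_facts h (hmem c2 (by simp)) i2
  obtain ⟨g3, -⟩ := T.item_facts h (hmem c3 (by simp)) i3
  obtain ⟨g4, -⟩ := T.item_facts h (hmem c4 (by simp)) i4
  obtain ⟨g5, -⟩ := T.item_facts h (hmem c5 (by simp)) i5
  obtain ⟨g6, -⟩ := T.item_facts h (hmem c6 (by simp)) i6
  obtain ⟨d1, d2, d3, d4, d5, d6⟩ := T.B.degs
  rw [T.sum_all, rfl'] at hr1
  simp only [List.map_cons, List.map_nil, List.sum_cons, List.sum_nil, val_one, dg_one, h1, ht1, ht2,
    d1, d2, d3, d4] at hr1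
  have e : (Nat.card {s : G // s * s = 1} : ℤ) = 1 + (45 * n T.B.b45 + 54 * n T.B.b54 + 120 * n T.B.b120 +
      144 * n T.B.b144) + (n c1 * (dg c1 : ℤ) + n c2 * (dg c2 : ℤ) + n c3 * (dg c3 : ℤ) + n c4 * (dg c4 : ℤ) +
      n c5 * (dg c5 : ℤ) + n c6 * (dg c6 : ℤ)) := by
    have key : (((Nat.card {s : G // s * s = 1} : ℤ)) : ℂ) = ((1 + (45 * n T.B.b45 + 54 * n T.B.b54 +
        120 * n T.B.b120 + 144 * n T.B.b144) + (n c1 * (dg c1 : ℤ) + n c2 * (dg c2 : ℤ) + n c3 * (dg c3 : ℤ) +
        n c4 * (dg c4 : ℤ) + n c5 * (dg c5 : ℤ) + n c6 * (dg c6 : ℤ)) : ℤ) : ℂ) := by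
      push_cast
      linear_combination hr1
    exact_mod_cast key
  rw [g1, g2, g3, g4, g5, g6] at e
  have := hb T.B.b45; have := hb T.B.b54; have := hb T.B.b120; have := hb T.B.b144
  have := hb c1; have := hb c2; have := hb c3; have := hb c4; have := hb c5; have := hb c6
  omega

omit T in
/-- The class multiplication formula for integral values. -/
theorem class_int [Fintype (IrrCharacter G)] (h : Nat.card G = 95040) (a b c : G)
    (va : ∀ χ : IrrCharacter G, (χ : G → ℂ) a = (iv χ a : ℂ)) (vb : ∀ χ : IrrCharacter G, (χ : G → ℂ) b = (iv χ b : ℂ))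
    (vc : ∀ χ : IrrCharacter G, (χ : G → ℂ) c = (iv χ c : ℂ)) :
    (CfsgLib.Char.classConst a b c : ℤ) * (Nat.card (Subgroup.centralizer ({a} : Set G)) : ℤ) *
        (Nat.card (Subgroup.centralizer ({b} : Set G)) : ℤ) =
      ∑ χ : IrrCharacter G, ((95040 / dg χ : ℕ) : ℤ) * (iv χ a * iv χ b * iv χ c) := by
  classical
  have hm := class_mul a b c
  simp only [va, vb, vc, map_intCast, h] at hm
  have hdvd : ∀ χ : IrrCharacter G, ∃ k, 95040 = dg χ * k := fun χ => by
    have := CfsgLib.Block.charDegree_dvd χ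
    rwa [h] at this
  choose k hk using hdvd
  have e : ∀ χ : IrrCharacter G, 95040 / dg χ = k χ := fun χ => by
    rw [hk χ]; exact Nat.mul_div_cancel_left _ (dg_pos χ)
  simp only [e]
  have key : (((CfsgLib.Char.classConst a b c : ℤ) * (Nat.card (Subgroup.centralizer ({a} : Set G)) : ℤ) *
        (Nat.card (Subgroup.centralizer ({b} : Set G)) : ℤ) : ℤ) : ℂ) =
      ((∑ χ : IrrCharacter G, (k χ : ℤ) * (iv χ a * iv χ b * iv χ c) : ℤ) : ℂ) := by
    push_cast
    rw [hm, Finset.mul_sum]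
    refine Finset.sum_congr rfl fun χ _ => ?_
    have ek : (95040 : ℂ) = (dg χ : ℂ) * k χ := by exact_mod_cast hk χ
    have hd0 : (dg χ : ℂ) ≠ 0 := Nat.cast_ne_zero.2 (dg_pos χ).ne'
    rw [show ((95040 : ℕ) : ℂ) = (95040 : ℂ) from by norm_num, ek]
    field_simp
  exact_mod_cast key

/-- The rows `45, 54, 120, 144, 16, 16` and the characters outside the block. -/
noncomputable def rows : List (IrrCharacter G) :=
  [T.B.b45, T.B.b54, T.B.b120, T.B.b144, T.B.t1, T.B.t2] ++ T.o

/-- The weights. -/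
def weights : List ℤ := [2112, 1760, 792, 660, 5940, 5940, 8640, 8640, 1440, 960, 540, 1728, 1728, 1728]

/-- The sum of weighted products of three columns. -/
def triSum (A B C : List ℤ) : ℤ :=
  95040 + (List.zipWith (· * ·) weights (List.zipWith (· * ·) (List.zipWith (· * ·) A B) C)).sum

/-- The degrees. -/
def degsM : List ℕ := [45, 54, 120, 144, 16, 16, 11, 11, 66, 99, 176, 55, 55, 55]

theorem const_of_cols (h : Nat.card G = 95040) (hdeg : T.rows.map dg = degsM) {a b c : G}
    (va : ∀ χ : IrrCharacter G, (χ : G → ℂ) a = (iv χ a : ℂ)) (vb : ∀ χ : IrrCharacter G, (χ : G → ℂ) b = (iv χ b : ℂ))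
    (vc : ∀ χ : IrrCharacter G, (χ : G → ℂ) c = (iv χ c : ℂ)) {A B C : List ℤ}
    (ha : T.rows.map (iv · a) = A) (hb : T.rows.map (iv · b) = B) (hc : T.rows.map (iv · c) = C) :
    (CfsgLib.Char.classConst a b c : ℤ) * (Nat.card (Subgroup.centralizer ({a} : Set G)) : ℤ) *
        (Nat.card (Subgroup.centralizer ({b} : Set G)) : ℤ) = triSum A B C := by
  classical
  haveI := Fintype.ofFinite (IrrCharacter G)
  rw [class_int h a b c va vb vc, T.sum_all, iv_oneChar, iv_oneChar, iv_oneChar, dg_one, ← ha, ← hb, ← hc]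
  have e : weights = T.rows.map fun χ => ((95040 / dg χ : ℕ) : ℤ) := by
    rw [show (fun χ : IrrCharacter G => ((95040 / dg χ : ℕ) : ℤ)) = (fun d : ℕ => ((95040 / d : ℕ) : ℤ)) ∘ dg from rfl,
      ← List.map_map, hdeg]
    rfl
  rw [triSum, e, List.zipWith_map, List.zipWith_self, List.zipWith_map, List.zipWith_self, List.zipWith_map,
    List.zipWith_self, rows, List.map_append, List.sum_append]
  simp only [List.map_cons, List.map_nil, List.sum_cons, List.sum_nil]
  push_cast
  ring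

/-- The column of the involution centralizing an element of order five. -/
def colY : List ℤ := [5, 6, 0, 4, 4, 4, -1, -1, 6, -1, -4, -5, -5, -5]

/-- The column of a central involution, with three unknowns. -/
def colU (a b c : ℤ) : List ℤ := [-3, 6, -8, 0, 0, 0, 3, 3, 2, 3, 0, a, b, c]

theorem cols (h : Nat.card G = 95040) (hM : T.o.map T.B.item = restM) {u : G} (hu : orderOf u = 2)
    (h64 : 64 ∣ Nat.card (Subgroup.centralizer ({u} : Set G))) :
    T.rows.map dg = degsM ∧ T.rows.map (iv · T.B.y) = colY ∧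
      Nat.card (Subgroup.centralizer ({u} : Set G)) = 192 ∧ ∃ a b c : ℤ, T.rows.map (iv · u) = colU a b c ∧
        a + b + c = 5 ∧ a * a + b * b + c * c = 51 ∧ a * a * a + b * b * b + c * c * c = 341 := by
  classical
  obtain ⟨hd, hx, pa, pb, pc, hvals, hs1, hs2, hs3⟩ := T.column_M h hM hu h64
  obtain ⟨d1, d2, d3, d4, d5, d6⟩ := T.B.degs
  obtain ⟨y1, y2, y3, y4, y5, y6⟩ := T.B.vals_y
  obtain ⟨t1, t2⟩ := T.B.t_val h hu
  obtain ⟨x1, x2, x3, x4⟩ : iv T.B.b45 u = -3 ∧ iv T.B.b54 u = 6 ∧ iv T.B.b120 u = -8 ∧ iv T.B.b144 u = 0 := by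
    simpa [Base.xval, XVal.mk.injEq] using hx
  rw [hx] at t1 t2
  norm_num [XVal.T] at t1 t2
  have hk : T.o.map (fun χ => 11 * (T.B.item χ).1) = T.o.map (fun χ => (dg χ : ℤ)) :=
    List.map_congr_left fun χ hχ => ((T.B.out_facts (T.cover ▸ List.mem_toFinset.2 hχ) h).1).symm
  have hv : T.o.map (fun χ => (T.B.item χ).2.2.2) = T.o.map (iv · T.B.y) := rfl
  rw [show (fun χ => 11 * (T.B.item χ).1) = (fun i : Item => 11 * i.1) ∘ T.B.item from rfl, ← List.map_map, hM] at hk
  rw [show (fun χ => (T.B.item χ).2.2.2) = (fun i : Item => i.2.2.2) ∘ T.B.item from rfl, ← List.map_map, hM] at hv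
  have hk' : T.o.map dg = [11, 11, 66, 99, 176, 55, 55, 55] := by
    apply List.map_injective_iff.2 (Nat.cast_injective (R := ℤ))
    rw [List.map_map, show ((Nat.cast : ℕ → ℤ) ∘ dg) = fun χ : IrrCharacter G => (dg χ : ℤ) from rfl, ← hk]
    rfl
  refine ⟨?_, ?_, hd, pa, pb, pc, ?_, hs1, hs2, hs3⟩
  · simp [rows, hk', degsM, d1, d2, d3, d4, d5, d6]
  · simp [rows, ← hv, colY, restM, y1, y2, y3, y4, y5, y6]
  · simp [rows, hvals, colU, x1, x2, x3, x4, t1, t2]

theorem indicators (h : Nat.card G = 95040) (n : IrrCharacter G → ℤ) (hb : ∀ χ, (n χ).natAbs ≤ 1)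
    (h1 : n (oneChar G) = 1) (ht1 : n T.B.t1 = 0) (ht2 : n T.B.t2 = 0)
    (hr : ∀ [Fintype (IrrCharacter G)] (g : G),
      (Nat.card {s : G // s * s = g} : ℂ) = ∑ χ : IrrCharacter G, (n χ : ℂ) * (χ : G → ℂ) g)
    (hdeg : T.rows.map dg = degsM) (hcy : T.rows.map (iv · T.B.y) = colY) {m : ℕ} (hm : 892 ≤ m ∧
      m ≤ Nat.card {s : G // s * s = 1}) :
    Nat.card {s : G // s * s = 1} ≤ m ∧ ∀ g : G, g * g ≠ T.B.y := by
  classical
  haveI := Fintype.ofFinite (IrrCharacter G)
  have hlen : T.o.length = 8 := by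
    have e := congrArg List.length hdeg
    simp [rows, degsM] at e
    omega
  obtain ⟨c1, c2, c3, c4, c5, c6, c7, c8, ho⟩ : ∃ c1 c2 c3 c4 c5 c6 c7 c8, T.o = [c1, c2, c3, c4, c5, c6, c7, c8] :=
    ⟨T.o[0], T.o[1], T.o[2], T.o[3], T.o[4], T.o[5], T.o[6], T.o[7],
      List.ext_getElem (by simp [hlen]) fun i h1 h2 => by
        simp only [List.length_cons, List.length_nil] at h2
        interval_cases i <;> rfl⟩
  simp only [rows, ho, List.cons_append, List.nil_append, List.map_cons, List.map_nil, degsM, colY,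
    List.cons.injEq, and_true] at hdeg hcy
  obtain ⟨d1, d2, d3, d4, d5, d6, e1, e2, e3, e4, e5, e6, e7, e8⟩ := hdeg
  obtain ⟨y1, y2, y3, y4, y5, y6, v1, v2, v3, v4, v5, v6, v7, v8⟩ := hcy
  have hr1 := hr 1
  rw [T.sum_all, ho] at hr1
  simp only [List.map_cons, List.map_nil, List.sum_cons, List.sum_nil, val_one, dg_one, h1, ht1, ht2,
    d1, d2, d3, d4, e1, e2, e3, e4, e5, e6, e7, e8] at hr1
  have e : (Nat.card {s : G // s * s = 1} : ℤ) = 1 + (45 * n T.B.b45 + 54 * n T.B.b54 + 120 * n T.B.b120 +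
      144 * n T.B.b144) + (11 * n c1 + 11 * n c2 + 66 * n c3 + 99 * n c4 + 176 * n c5 + 55 * n c6 + 55 * n c7 +
      55 * n c8) := by
    have key : (((Nat.card {s : G // s * s = 1} : ℤ)) : ℂ) = ((1 + (45 * n T.B.b45 + 54 * n T.B.b54 +
        120 * n T.B.b120 + 144 * n T.B.b144) + (11 * n c1 + 11 * n c2 + 66 * n c3 + 99 * n c4 + 176 * n c5 +
        55 * n c6 + 55 * n c7 + 55 * n c8) : ℤ) : ℂ) := by
      push_cast at hr1 ⊢
      linear_combination hr1
    exact_mod_cast key
  have hle : ∀ χ, n χ ≤ 1 := fun χ => by have := hb χ; omega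
  have := hle T.B.b45; have := hle T.B.b54; have := hle T.B.b120; have := hle T.B.b144
  have := hle c1; have := hle c2; have := hle c3; have := hle c4; have := hle c5; have := hle c6; have := hle c7
  have := hle c8
  have hS : (892 : ℤ) ≤ (Nat.card {s : G // s * s = 1} : ℤ) := by exact_mod_cast hm.1.trans hm.2
  obtain ⟨m1, m2, m3, m4⟩ : n T.B.b45 = 1 ∧ n T.B.b54 = 1 ∧ n T.B.b120 = 1 ∧ n T.B.b144 = 1 :=
    ⟨by linarith, by linarith, by linarith, by linarith⟩
  obtain ⟨k1, k2, k3, k4, k5, k6, k7, k8⟩ : n c1 = 1 ∧ n c2 = 1 ∧ n c3 = 1 ∧ n c4 = 1 ∧ n c5 = 1 ∧ n c6 = 1 ∧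
      n c7 = 1 ∧ n c8 = 1 :=
    ⟨by linarith, by linarith, by linarith, by linarith, by linarith, by linarith, by linarith, by linarith⟩
  refine ⟨by omega, fun g hg => ?_⟩
  have hr2 := hr T.B.y
  rw [T.sum_all, ho] at hr2
  simp only [List.map_cons, List.map_nil, List.sum_cons, List.sum_nil, fun χ : IrrCharacter G => T.B.val_y χ h,
    iv_oneChar, h1, ht1, ht2, m1, m2, m3, m4, k1, k2, k3, k4, k5, k6, k7, k8, y1, y2, y3, y4,
    v1, v2, v3, v4, v5, v6, v7, v8] at hr2
  norm_num at hr2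
  haveI : Nonempty {s : G // s * s = T.B.y} := ⟨⟨g, hg⟩⟩
  have hpos : 0 < Nat.card {s : G // s * s = T.B.y} := Nat.card_pos
  rw [Nat.card_eq_fintype_card] at hpos
  simp_all

include T in
/-- The local data. -/
theorem exists_local (h : Nat.card G = 95040) : Nonempty (Local G) := by
  classical
  have hM : T.o.map T.B.item = restM := T.case.resolve_right (T.not_X h)
  haveI := Fintype.ofFinite (IrrCharacter G)
  obtain ⟨u, hu, h64⟩ := exists_two_central h
  obtain ⟨hdeg, hcy, hd, pa, pb, pc, hcu, hs1, hs2, hs3⟩ := T.cols h hM hu h64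
  have hne := T.B.not_conj_y h64
  have hG := noncomm h
  have hy := T.B.y_order
  have hA := card_class (G := G) hd
  have hC := card_class (G := G) T.B.cent_y
  rw [h] at hA hC
  obtain ⟨hge, hcov⟩ := roots_ge hu hy hne
  obtain ⟨n, hb, h1, ht1, ht2, hr⟩ := T.roots h
  have hvu := fun χ : IrrCharacter G => val_invol hG χ hu
  have hvy := fun χ : IrrCharacter G => T.B.val_y χ h
  -- the indicators
  obtain ⟨hall, hz⟩ := T.indicators h n hb h1 ht1 ht2 hr hdeg hcy ⟨(by omega), hge⟩
  have cover := hcov hall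
  have K1 := T.const_of_cols h hdeg hvu hvu hvu hcu hcu hcu
  have K2 := T.const_of_cols h hdeg hvu hvy hvu hcu hcy hcu
  have K3 := T.const_of_cols h hdeg hvy hvu hvu hcy hcu hcu
  have K4 := T.const_of_cols h hdeg hvu hvu hvy hcu hcu hcy
  have K5 := T.const_of_cols h hdeg hvy hvy hvu hcy hcy hcu
  have K6 := T.const_of_cols h hdeg hvu hvy hvy hcu hcy hcy
  have K7 := T.const_of_cols h hdeg hvy hvu hvy hcy hcu hcy
  have K8 := T.const_of_cols h hdeg hvy hvy hvy hcy hcy hcy
  simp only [hd, T.B.cent_y, triSum, weights, colU, colY, List.zipWith_cons_cons, List.zipWith_nil_left,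
    List.sum_cons, List.sum_nil] at K1 K2 K3 K4 K5 K6 K7 K8
  push_cast at K1 K2 K3 K4 K5 K6 K7 K8
  have L1 : CfsgLib.Char.classConst u u u = 30 := by zify; linarith
  have L2 : CfsgLib.Char.classConst u T.B.y u = 0 := by zify; linarith
  have L3 : CfsgLib.Char.classConst T.B.y u u = 0 := by zify; linarith
  have L4 : CfsgLib.Char.classConst u u T.B.y = 0 := by zify; linarith
  have L5 : CfsgLib.Char.classConst T.B.y T.B.y u = 12 := by zify; linarith
  have L6 : CfsgLib.Char.classConst u T.B.y T.B.y = 15 := by zify; linarith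
  have L7 : CfsgLib.Char.classConst T.B.y u T.B.y = 15 := by zify; linarith
  have L8 : CfsgLib.Char.classConst T.B.y T.B.y T.B.y = 20 := by zify; linarith
  have cz : ∀ a : G, Nat.card {x : G // IsConj a x ∧ x = a} = 1 := fun a => by
    rw [Nat.card_eq_one_iff_unique]
    exact ⟨⟨fun x x' => Subtype.ext (x.2.2.trans x'.2.2.symm)⟩, ⟨a, IsConj.refl a, rfl⟩⟩
  have cz0 : ∀ a b : G, ¬ IsConj a b → Nat.card {x : G // IsConj a x ∧ x = b} = 0 := fun a b hab => by
    haveI : IsEmpty {x : G // IsConj a x ∧ x = b} := ⟨fun x => hab (x.2.2 ▸ x.2.1)⟩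
    exact Nat.card_of_isEmpty
  have empty : ∀ a b z : G, orderOf a = 2 → CfsgLib.Char.classConst a b z = 0 →
      ∀ x, IsConj a x → ¬ IsConj b (x * z) := fun a b z ha h0 x hx hxz => by
    rw [classConst_eq ha] at h0
    haveI : Nonempty {x : G // IsConj a x ∧ IsConj b (x * z)} := ⟨⟨x, hx, hxz⟩⟩
    exact (Nat.card_pos (α := {x : G // IsConj a x ∧ IsConj b (x * z)})).ne' h0
  refine ⟨⟨u, T.B.y, T.B.E.f, hu, hy, T.B.E.f_order, cover, hne, hd, T.B.cent_y, T.B.f_comm, T.B.cent_f,
    ?_, ?_, ?_, ?_, ?_, ?_, hz⟩⟩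
  · rw [count_comm hu hy hne cover hu hu, cz, L1, L2]
  · rw [count_comm hu hy hne cover hu hy, cz0 _ _ hne, L4, L6]
  · rw [count_comm hu hy hne cover hy hu, cz0 _ _ fun h => hne h.symm, L3, L5]
  · rw [count_comm hu hy hne cover hy hy, cz, L7, L8]
  · intro x hx hc
    rcases (comm_iff_flip hu hy cover hu hy hx).1 hc with e | e | e
    · exact absurd (e ▸ hx) hne
    · exact absurd e (empty u u T.B.y hu L4 x hx)
    · exact e
  · intro x hx hc
    rcases (comm_iff_flip hu hy cover hy hu hx).1 hc with e | e | e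
    · exact absurd (e ▸ hx).symm hne
    · exact absurd e (empty T.B.y u u hy L3 x hx)
    · exact e

end Table

theorem exists_local (h : Nat.card G = 95040) : Nonempty (Local G) := by
  obtain ⟨T⟩ := exists_table (G := G) h
  exact T.exists_local h

end CfsgLib.Char.MTwelveOrder
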