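import Cfsg.Agent.Lib.Char.MTwelveOrder.Cands
import Cfsg.Agent.Lib.Char.MTwelveOrder.ElevenTest

/-!
# Simple groups of order 95040: the Sylow 11-subgroup
-/

set_option autoImplicit false
set_option linter.all false

open Cfsg CfsgLib.Perm.PrimeBlock CfsgLib.Block Finset CfsgLib.Char.MEleven.Order

namespace CfsgLib.Char.MTwelveOrder

universe u

variable {G : Type u} [Group G] [Finite G] [IsSimpleGroup G]

theorem noncomm (h : Nat.card G = 95040) : ¬ IsMulCommutative G := fun hc => by
  haveI := hc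
  letI : CommGroup G :=
    { (inferInstance : Group G) with mul_comm := fun a b => IsMulCommutative.is_comm.comm a b }
  have hp : (Nat.card G).Prime := IsSimpleGroup.prime_card (α := G)
  rw [h] at hp
  norm_num at hp

/-- A faithful action on twelve points forces elements of order eleven to be self-centralizing. -/
theorem cent_le_of_index_twelve (hG : ¬ IsMulCommutative G) {α : Type u} [Finite α] [MulAction G α]
    (hα : Nat.card α = 12) (hne : ∃ (g : G) (a : α), g • a ≠ a) {x : G} (hx : orderOf x = 11) :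
    Nat.card (Subgroup.centralizer ({x} : Set G)) ≤ 11 := by
  haveI := Fintype.ofFinite G
  refine cent_eleven_of_twelve hα (MulAction.toPermHom G α) ?_ hx
  rw [← MonoidHom.ker_eq_bot_iff]
  refine (IsSimpleGroup.eq_bot_or_eq_top_of_normal _ inferInstance).resolve_right fun e => ?_
  obtain ⟨g, a, hga⟩ := hne
  exact hga (congrArg (fun σ : Equiv.Perm α => σ a) (MonoidHom.mem_ker.1 (e ▸ Subgroup.mem_top g)))

/-- The centralizer order of an involution commuting with an element of order eleven. -/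
theorem cent_order_bound (h : Nat.card G = 95040) {x y : G} (hx : orderOf x = 11) (hy : orderOf y = 2)
    (hc : Commute x y) (hbig : 11 < Nat.card (Subgroup.centralizer ({x} : Set G))) :
    Nat.card (Subgroup.centralizer ({y} : Set G)) ∈ centOrders := by
  classical
  have hG := noncomm h
  set C := Subgroup.centralizer ({y} : Set G) with hC
  have hne : C ≠ ⊤ := fun e => by
    have hy1 : y = 1 := center_trivial hG fun a =>
      (Subgroup.mem_centralizer_singleton_iff.1 (e ▸ Subgroup.mem_top a : a ∈ C)).symm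
    rw [hy1, orderOf_one] at hy; norm_num at hy
  have h22 : 22 ∣ Nat.card C := by
    refine Nat.Coprime.mul_dvd_of_dvd_of_dvd (m := 11) (n := 2) (by norm_num) ?_ ?_
    · exact hx ▸ Subgroup.orderOf_dvd_natCard _ (Subgroup.mem_centralizer_singleton_iff.2 hc.eq)
    · exact hy ▸ Subgroup.orderOf_dvd_natCard _ (Subgroup.mem_centralizer_singleton_iff.2 rfl)
  obtain ⟨k, hk⟩ := h22
  have hmul := Subgroup.card_mul_index C
  rw [h, hk] at hmul
  have hact : ∃ (g : G) (a : G ⧸ C), g • a ≠ a := by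
    obtain ⟨g, hg⟩ : ∃ g, g ∉ C := by
      by_contra hno
      push Not at hno
      exact hne (eq_top_iff.2 fun g _ => hno g)
    refine ⟨g, ((1 : G) : G ⧸ C), fun e => hg ?_⟩
    rw [MulAction.Quotient.smul_coe, smul_eq_mul, mul_one, eq_comm, QuotientGroup.eq] at e
    simpa using e
  have hidx : 12 < C.index := by
    have hfac := CfsgLib.Invol.two_mul_card_dvd_factorial hG hact
    rw [← Subgroup.index_eq_card, h] at hfac
    have h12 : C.index ≠ 12 := fun e => by
      have := cent_le_of_index_twelve hG (α := G ⧸ C) (by rw [← Subgroup.index_eq_card, e]) hact hx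
      omega
    have h11 : C.index ≠ 11 := fun e => by
      rw [e] at hmul
      have : 121 ∣ 95040 := ⟨2 * k, by linarith⟩
      norm_num at this
    by_contra hlt
    have hle : C.index ≤ 10 := by omega
    interval_cases C.index <;> revert hfac <;> decide
  rw [hk]
  have hk2 : 22 * k * 13 ≤ 95040 := hmul ▸ Nat.mul_le_mul_left _ hidx
  exact centOrders_spec k (by omega) (Nat.mod_eq_zero_of_dvd ⟨_, hmul.symm⟩)

variable [Fintype G]

/-- An automiser of order five or ten with centralizer larger than the subgroup is impossible. -/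
theorem eleven_not_big (h : Nat.card G = 95040) {e c : ℕ} (hec : (e = 5 ∧ c = 12) ∨ (e = 10 ∧ c = 6))
    (P : Sylow 11 G) (hP : Nat.card (P : Subgroup G) = 11)
    (hC : Nat.card (Subgroup.centralizer ((P : Subgroup G) : Set G)) = 11 * c)
    (S : Shape 11 e (P : Subgroup G))
    (hout : ∀ χ : IrrCharacter G, χ ≠ oneChar G → χ ∉ S.X → χ ∉ S.Y → ∀ x ∈ (P : Subgroup G), x ≠ 1 →
      ∑ y ∈ @regCent G _ _ 11 (P : Subgroup G), (χ : G → ℂ) (x * y) = 0) : False := by
  classical
  haveI : Fact (Nat.Prime 11) := ⟨by norm_num⟩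
  haveI : Fact (Nat.Prime 2) := ⟨Nat.prime_two⟩
  have hG := noncomm h
  have hep : e ∣ 11 - 1 := by rcases hec with ⟨rfl, -⟩ | ⟨rfl, -⟩ <;> norm_num
  have he : 2 ≤ e := by rcases hec with ⟨rfl, -⟩ | ⟨rfl, -⟩ <;> norm_num
  have hc2 : 2 ∣ c := by rcases hec with ⟨-, rfl⟩ | ⟨-, rfl⟩ <;> norm_num
  have hpc : ¬ 11 ∣ c := by rcases hec with ⟨-, rfl⟩ | ⟨-, rfl⟩ <;> norm_num
  have hc1 : 1 < c := by rcases hec with ⟨-, rfl⟩ | ⟨-, rfl⟩ <;> norm_num
  obtain ⟨y', hy'⟩ := exists_prime_orderOf_dvd_card' (G := Subgroup.centralizer ((P : Subgroup G) : Set G)) 2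
    (by rw [hC]; exact hc2.mul_left 11)
  have hy : orderOf (y' : G) = 2 := by rw [Subgroup.orderOf_coe, hy']
  obtain ⟨x', hx'⟩ := exists_prime_orderOf_dvd_card' (G := (P : Subgroup G)) 11 (by rw [hP])
  have hxo : orderOf (x' : G) = 11 := by rw [Subgroup.orderOf_coe, hx']
  have hx1 : (x' : G) ≠ 1 := fun e => by rw [e, orderOf_one] at hxo; norm_num at hxo
  have hcomm : Commute (x' : G) y' := Subgroup.mem_centralizer_iff.1 y'.2 x' x'.2
  obtain ⟨θ, hθ⟩ := nonempty_Y S hep (by omega)
  obtain ⟨X', hperm, hmem⟩ := exists_degList hG S hP (m := 8640) (B := 309) (by rw [h]) hep he hC hpc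
    (by rw [h]; norm_num)
  obtain ⟨hgood, hass⟩ := good_assign hG S hout (by norm_num) hep (by omega) x'.2 hx1 hy hperm
  rw [card_regCent P hP hC, h] at hgood
  have hd := cent_order_bound h hxo hy hcomm (by rw [centralizer_of_order hP hxo, hC]; omega)
  set d := Nat.card (Subgroup.centralizer ({(y' : G)} : Set G))
  set k := ∑ y ∈ @regCent G _ _ 11 (P : Subgroup G), CfsgLib.Char.classConst (y' : G) y' (x' * y)
  -- congruences at the centralizing involution
  have hne : ∀ χ ∈ S.X, χ ≠ oneChar G := fun χ h h' => S.one_notMem_X (h' ▸ h)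
  have hmemX : ∀ χ ∈ X', χ ∈ S.X := fun χ hχ => Finset.mem_toList.1 (hperm.mem_iff.1 hχ)
  have hyr : ¬ 11 ∣ orderOf (y' : G) := by rw [hy]; norm_num
  have hpow : ∀ j : ℕ, ¬ 11 ∣ j → (x' : G) ^ j ∈ (P : Subgroup G) ∧ (x' : G) ^ j ≠ 1 := fun j hj =>
    ⟨pow_mem x'.2 j, fun hh => hj (hxo ▸ orderOf_dvd_of_pow_eq_one hh)⟩
  have hcongX : ∀ χ ∈ S.X, sv S (y' : G) χ % 11 = 1 := by
    intro χ hχ
    have := dvd_value_sub (CfsgLib.Char.isCharacter_irr χ) (by norm_num : Nat.Prime 11) (by norm_num)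
      hxo hy hcomm (c := S.εX χ) (r := iv χ (y' : G))
      (fun j hj => S.value_X χ hχ _ (hpow j hj).1 (hpow j hj).2 _ y'.2 hyr) (val_invol hG χ hy)
    simp only [sv]
    rcases S.sign_X χ hχ with s | s <;> rw [s] at this ⊢ <;> omega
  have hcongY : ((((11 - 1) / e : ℕ) : ℤ) * (S.ε * iv θ (y' : G)) + 1) % 11 = 0 := by
    have := dvd_value_sub (CfsgLib.Char.isCharacter_sum S.Y (fun ψ => (ψ : G → ℂ))
        fun ψ _ => CfsgLib.Char.isCharacter_irr ψ) (by norm_num : Nat.Prime 11) (by norm_num)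
      hxo hy hcomm (c := -S.ε) (r := (((11 - 1) / e : ℕ) : ℤ) * iv θ (y' : G))
      (fun j hj => by rw [Finset.sum_apply, S.value_Y _ (hpow j hj).1 (hpow j hj).2 _ y'.2 hyr]; simp)
      (by
        rw [Finset.sum_apply, Finset.sum_congr rfl fun ψ hψ => by
          rw [S.regular_Y ψ hψ θ hθ _ hyr, val_invol hG θ hy], Finset.sum_const, S.card_Y, nsmul_eq_mul]
        push_cast; rfl)
    rcases S.sign with s | s <;> rw [s] at this ⊢ <;> rcases hec with ⟨rfl, -⟩ | ⟨rfl, -⟩ <;>
      norm_num at this ⊢ <;> omega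
  set a := X'.map (fun χ => (sd S χ, sv S (y' : G) χ)) with ha
  have hsum : (a.map Prod.snd).sum = ∑ χ ∈ S.X, sv S (y' : G) χ := by
    rw [ha, List.map_map]; simp only [Function.comp_def]
    rw [(hperm.map _).sum_eq, Finset.sum_map_toList]
  have hrelu := rel_val S hθ hyr (fun χ => val_invol hG χ hy)
  rw [← hsum] at hrelu
  have hassC : a ∈ assignsCent 11 7311 (X'.map (sd S)) := by
    refine mem_assignsCent (sd S) (sv S (y' : G)) 11 7311 X' fun χ hχ => ?_
    have hv : ∀ (l : List ℤ) (b : List (ℤ × ℤ)), b ∈ assigns d l → ∀ q ∈ b, q.2 ∈ valsFor d q.1 := by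
      intro l
      induction l with
      | nil => intro b hb q hq; simp [assigns] at hb; subst hb; simp at hq
      | cons s r ih =>
        intro b hb q hq
        simp only [assigns, List.mem_flatMap, List.mem_map] at hb
        obtain ⟨S', hS', b', hb', rfl⟩ := hb
        rcases List.mem_cons.1 hq with rfl | hq
        · exact hS'
        · exact ih b' hb' q hq
    have h1 := hv _ _ hass (sd S χ, sv S (y' : G) χ) (by rw [ha]; exact List.mem_map_of_mem hχ)
    simp only [valsCent, valsFor, List.mem_filter, Bool.and_eq_true, decide_eq_true_eq, beq_iff_eq] at h1 ⊢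
    have hdle : (d : ℤ) ≤ 7311 := by
      have hlt : ∀ x ∈ centOrders, x ≤ 7311 := by decide
      exact_mod_cast hlt d hd
    exact ⟨⟨h1.1, lt_of_lt_of_le h1.2.1 hdle, h1.2.2⟩, hcongX χ (hmemX χ hχ)⟩
  simp only [goodAssignK, Bool.and_eq_true, decide_eq_true_eq, beq_iff_eq] at hgood
  obtain ⟨⟨⟨g1, g2⟩, g3⟩, g4⟩ := hgood
  have hq : 1 + (a.map fun x => x.2 * x.2).sum ≤ (7311 : ℕ) := by
    have hlt : ∀ x ∈ centOrders, x ≤ 7311 := by decide
    have h7 : (d : ℤ) ≤ 7311 := by exact_mod_cast hlt d hd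
    have h8 : (0 : ℤ) ≤ (((11 - 1) / e : ℕ) : ℤ) * ((1 + (a.map Prod.snd).sum) * (1 + (a.map Prod.snd).sum)) :=
      mul_nonneg (Int.natCast_nonneg _) (mul_self_nonneg _)
    push_cast
    linarith
  obtain ⟨hst, hfst⟩ := mem_states 11 7311 _ a hassC hq
  rw [hrelu] at hcongY
  have hfail : allFail e c = true := by
    rcases hec with ⟨rfl, rfl⟩ | ⟨rfl, rfl⟩
    · exact allFail_five
    · exact allFail_ten
  rw [h] at hmem
  have hall := List.all_eq_true.1 (List.all_eq_true.1 hfail _ hmem) _ hst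
  rw [← hfst, ← fracSum_snd] at hall
  simp only [stateFails, Bool.or_eq_true, Bool.not_eq_true', decide_eq_false_iff_not, beq_eq_false_iff_ne,
    ne_eq, List.all_eq_true, decide_eq_true_eq] at hall
  rcases hall with ((hx | hx) | hx) | hx
  · exact hx g1
  · exact hx g2
  · exact hx hcongY
  · rcases hx d hd with hx | hx
    · linarith
    · refine hx (Int.emod_eq_zero_of_dvd ⟨(k : ℤ), ?_⟩)
      linear_combination g4

/-- The Sylow 11-subgroup is self-centralizing with normalizer of order 55. -/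
theorem eleven_data (h : Nat.card G = 95040) : ∃ P : Sylow 11 G, Nat.card (P : Subgroup G) = 11 ∧
    Nat.card (Subgroup.centralizer ((P : Subgroup G) : Set G)) = 11 ∧
    Nat.card (Subgroup.normalizer ((P : Subgroup G) : Set G)) = 55 ∧
    Nonempty (Shape 11 5 (P : Subgroup G)) := by
  classical
  haveI : Fact (Nat.Prime 11) := ⟨by norm_num⟩
  have hG := noncomm h
  obtain ⟨P, n, e, c, hP, hn, hn1, hn2, -, he2, hep, hC, hN, hnc, ⟨S⟩⟩ :=
    exists_data hG 11 8640 (by norm_num) (by rw [h]) (by norm_num)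
  have hposs := S.possible_eq hG hP (m := 8640) (B := 309) (by rw [h]) hep he2 hC
    (fun hc => (by norm_num : ¬ 11 ∣ 8640) (hn ▸ hc.trans ((dvd_mul_left c e).trans (dvd_mul_left _ n))))
    (by rw [h]; norm_num)
  have hel : e ∈ [2, 5, 10] := by
    have := Nat.le_of_dvd (by norm_num) hep
    interval_cases e <;> simp_all
  have hmn : 8640 / n = e * c := by rw [← hn, Nat.mul_div_cancel_left _ (by omega)]
  have hcc : 8640 / n / e = c := by rw [hmn, Nat.mul_div_cancel_left _ (by omega)]
  rw [h, ← hcc] at hposs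
  obtain ⟨x', hx'⟩ := exists_prime_orderOf_dvd_card' (G := (P : Subgroup G)) 11 (by rw [hP])
  have hxo : orderOf (x' : G) = 11 := by rw [Subgroup.orderOf_coe, hx']
  rcases eleven_params ⟨e * c, hn.symm⟩ hel hn1 hn2 (by rw [hmn]; exact Nat.mul_mod_right _ _) hposs with
    rfl | ⟨rfl, he⟩ | ⟨rfl, rfl⟩
  · exfalso
    obtain ⟨Q, R, hQR⟩ := (Finite.one_lt_card_iff_nontrivial.1 (hnc ▸ hn2)).exists_pair_ne
    obtain ⟨g, hg⟩ := MulAction.exists_smul_eq G Q R
    have hle := cent_le_of_index_twelve hG (α := Sylow 11 G) hnc.symm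
      ⟨g, Q, fun h => hQR (h.symm.trans hg)⟩ hxo
    rw [centralizer_of_order hP hxo, hC] at hle
    have he10 := Nat.le_of_dvd (by norm_num) hep
    have hc1 : c ≤ 1 := by omega
    nlinarith
  · exfalso
    have hec : (e = 5 ∧ c = 12) ∨ (e = 10 ∧ c = 6) := by
      rcases he with rfl | rfl <;> omega
    obtain ⟨S', hout⟩ := exists_shape_out (fun χ hχ => by
        by_contra hne
        have h3 := degree_ge_three hG χ (fun h => hne (Subtype.ext h)) (d := 1)
          (by rw [(charDegree_eq χ).1, hχ])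
        omega) 11 (by norm_num) P hP e (by
          set C := Subgroup.centralizer ((P : Subgroup G) : Set G) with hCd
          set N := Subgroup.normalizer ((P : Subgroup G) : Set G) with hNd
          have hCN : C ≤ N := Subgroup.centralizer_le_normalizer _
          have h2 : Nat.card (C.subgroupOf N) * (C.subgroupOf N).index = Nat.card N :=
            Subgroup.card_mul_index _
          rw [Nat.card_congr (Subgroup.subgroupOfEquivOfLe hCN).toEquiv, hC, hN] at h2
          rw [Subgroup.relIndex]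
          rcases hec with ⟨rfl, rfl⟩ | ⟨rfl, rfl⟩ <;> omega) he2 hep
    exact eleven_not_big h hec P hP hC S' hout
  · obtain rfl : c = 1 := by omega
    exact ⟨P, hP, by rw [hC], by rw [hN], ⟨S⟩⟩

end CfsgLib.Char.MTwelveOrder
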