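import Cfsg.Agent.Lib.Perm.Small.InvolutionTest

/-!
# Simple groups of order 95040: the degree lists for the prime eleven
-/

set_option autoImplicit false
set_option linter.all false

namespace CfsgLib.Char.MTwelveOrder

open CfsgLib.Perm.PrimeBlock

/-- The signed degree lists. -/
def elevenLists : List (List ℤ) :=
  (combos (cands 95040 8640 11 1 309) 4).filter fun l =>
    okAbs 95040 8640 (1 + l.sum).natAbs && ((1 + l.sum) % ((11 : ℕ) : ℤ) == ((5 : ℕ) : ℤ) % ((11 : ℕ) : ℤ))

theorem elevenLists_length : elevenLists.length = 27 := by decide +kernel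

/-- The values that an involution can take on a character of signed degree `s`. -/
def valsAll (s : ℤ) : List ℤ := valsFor 30000 s

/-- Assignments from prescribed options. -/
def assignsF (V : ℤ → List ℤ) : List ℤ → List (List (ℤ × ℤ))
  | [] => [[]]
  | s :: r => (V s).flatMap fun S => (assignsF V r).map ((s, S) :: ·)

theorem mem_assignsF {ι : Type*} (V : ℤ → List ℤ) (f v : ι → ℤ) :
    ∀ X : List ι, (∀ a ∈ X, v a ∈ V (f a)) → X.map (fun a => (f a, v a)) ∈ assignsF V (X.map f) := by
  intro X
  induction X with
  | nil => intro _; simp [assignsF]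
  | cons a X ih =>
    intro h
    simp only [List.map_cons, assignsF, List.mem_flatMap, List.mem_map]
    exact ⟨v a, h a (by simp), _, ih fun b hb => h b (List.mem_cons_of_mem _ hb), rfl⟩

/-- The equation of an involution inverting no generator of the Sylow 11-subgroup. -/
def zeroE (a : List (ℤ × ℤ)) : Bool :=
  let T : ℤ := 1 + (a.map Prod.snd).sum
  let D : ℤ := 1 + (a.map Prod.fst).sum
  decide (T.natAbs < D.natAbs) && ((T - D) % 4 == 0) && ((fracSum a).1 * D - T * T * (fracSum a).2 == 0)

theorem eleven_D_ne : ∀ l ∈ elevenLists, (1 + l.sum).natAbs ≠ 12 := by decide +kernel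

/-- The options with two vanishing values on signed degree twelve. -/
def twelveOpts (l : List ℤ) (s : ℤ) : List ℤ :=
  if s = 12 ∧ l.count 12 = 2 then [0] else valsAll s

theorem two_twelves : ∀ l ∈ elevenLists, 2 ≤ l.count 12 → ∀ a ∈ assignsF (twelveOpts l) l,
    zeroE a = true → 2 ≤ a.count (12, 0) → (1 + l.sum).natAbs = 5 ∨ (-10 : ℤ) ∈ l := by
  decide +kernel

end CfsgLib.Char.MTwelveOrder
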