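import Cfsg.Agent.Lib.Char.MTwelveOrder.FiveSetup
import Cfsg.Agent.Lib.Char.MTwelveOrder.Lists

/-!
# Simple groups of order 95040: involution values in the block of the prime eleven
-/

set_option autoImplicit false
set_option linter.all false

open Cfsg CfsgLib.Perm.PrimeBlock CfsgLib.Block Finset CfsgLib.Char.MEleven.Order

namespace CfsgLib.Char.MTwelveOrder

universe u

variable {G : Type u} [Group G] [Fintype G] [IsSimpleGroup G] (E : ElevenSetup G)

theorem ElevenSetup.x_ne : E.x ≠ 1 := fun e => by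
  have := E.x_order; rw [e, orderOf_one] at this; norm_num at this

/-- An ordering of the block with an admissible list of signed degrees. -/
theorem ElevenSetup.exists_list (h : Nat.card G = 95040) :
    ∃ X' : List (IrrCharacter G), List.Perm X' E.S.X.toList ∧ X'.map (sd E.S) ∈ elevenLists := by
  haveI : Fact (Nat.Prime 11) := ⟨by norm_num⟩
  obtain ⟨X', hp, hm⟩ := exists_degList (noncomm h) E.S E.card_P (m := 8640) (B := 309) (c := 1)
    (by rw [h]) (by norm_num) (by norm_num) (by rw [E.cent_P]) (by norm_num) (by rw [h]; norm_num)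
  rw [h] at hm
  exact ⟨X', hp, hm⟩

/-- The values at an involution satisfy the equation. -/
theorem ElevenSetup.zero_eq (h : Nat.card G = 95040) {u : G} (hu : orderOf u = 2)
    {X' : List (IrrCharacter G)} (hX' : List.Perm X' E.S.X.toList) :
    zeroE (X'.map fun χ => (sd E.S χ, sv E.S u χ)) = true ∧
      ∀ χ ∈ X', sv E.S u χ ∈ valsFor (Nat.card (Subgroup.centralizer ({u} : Set G))) (sd E.S χ) := by
  classical
  haveI : Fact (Nat.Prime 11) := ⟨by norm_num⟩
  have hC : Nat.card (Subgroup.centralizer ((E.P : Subgroup G) : Set G)) = 11 * 1 := by rw [E.cent_P]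
  have hcard := card_regCent E.P E.card_P hC
  have hone : regCent 11 (E.P : Subgroup G) = {1} := by
    refine (Finset.eq_of_subset_of_card_le ?_ (by rw [hcard, Finset.card_singleton])).symm
    intro y hy
    rw [Finset.mem_singleton] at hy
    rw [mem_regCent, hy, orderOf_one]
    exact ⟨one_mem _, by norm_num⟩
  have hout : ∀ χ : IrrCharacter G, χ ≠ oneChar G → χ ∉ E.S.X → χ ∉ E.S.Y →
      ∀ x ∈ (E.P : Subgroup G), x ≠ 1 →
      ∑ y ∈ regCent 11 (E.P : Subgroup G), (χ : G → ℂ) (x * y) = 0 := by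
    intro χ h1 h2 h3 x hx hx1
    rw [hone, Finset.sum_singleton, mul_one]
    exact E.S.outside E.cent_P χ h1 h2 h3 x hx hx1
  obtain ⟨hg, hass⟩ := good_assign (noncomm h) E.S hout (by norm_num) (by norm_num) (by norm_num)
    E.x_mem E.x_ne hu hX'
  rw [hone, Finset.sum_singleton, Finset.card_singleton, mul_one, mul_one,
    classConst_zero E.card_P E.cent_P E.norm_P hu E.x_mem E.x_ne] at hg
  simp only [goodAssignK, Bool.and_eq_true, decide_eq_true_eq, beq_iff_eq] at hg
  obtain ⟨⟨⟨g1, g2⟩, g3⟩, g4⟩ := hg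
  refine ⟨?_, ?_⟩
  · simp only [zeroE, Bool.and_eq_true, decide_eq_true_eq, beq_iff_eq]
    refine ⟨⟨g1, g2⟩, ?_⟩
    rw [h] at g4
    simp only [Nat.cast_zero, zero_mul] at g4
    exact (mul_eq_zero.1 g4).resolve_left (by norm_num)
  · have hv : ∀ (d : ℕ) (l : List ℤ) (b : List (ℤ × ℤ)), b ∈ assigns d l →
        ∀ q ∈ b, q.2 ∈ valsFor d q.1 := by
      intro d l
      induction l with
      | nil => intro b hb q hq; simp [assigns] at hb; subst hb; simp at hq
      | cons s r ih =>
        intro b hb q hq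
        simp only [assigns, List.mem_flatMap, List.mem_map] at hb
        obtain ⟨S', hS', b', hb', rfl⟩ := hb
        rcases List.mem_cons.1 hq with rfl | hq
        · exact hS'
        · exact ih b' hb' q hq
    intro χ hχ
    exact hv _ _ _ hass (sd E.S χ, sv E.S u χ) (List.mem_map_of_mem hχ)

theorem mem_valsAll {d : ℕ} {s S : ℤ} (hs : s.natAbs ≤ 173) (h : S ∈ valsFor d s) : S ∈ valsAll s := by
  simp only [valsAll, valsFor, List.mem_filter, List.mem_flatMap, List.mem_range, Bool.and_eq_true,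
    decide_eq_true_eq, beq_iff_eq] at h ⊢
  obtain ⟨⟨i, hi, hiS⟩, -, h4⟩ := h
  refine ⟨⟨i, hi, hiS⟩, ?_, h4⟩
  have hSi : S = (i : ℤ) ∨ S = -(i : ℤ) := by
    split_ifs at hiS with h0
    · simp only [List.mem_singleton] at hiS; subst h0; simp [hiS]
    · simpa using hiS
  have : (i : ℤ) ≤ 172 := by omega
  rcases hSi with rfl | rfl <;> push_cast <;> nlinarith

theorem exists_two_central (h : Nat.card G = 95040) :
    ∃ u : G, orderOf u = 2 ∧ 64 ∣ Nat.card (Subgroup.centralizer ({u} : Set G)) := by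
  classical
  haveI : Fact (Nat.Prime 2) := ⟨Nat.prime_two⟩
  obtain ⟨T⟩ : Nonempty (Sylow 2 G) := inferInstance
  haveI : Nontrivial (T : Subgroup G) :=
    (Subgroup.nontrivial_iff_ne_bot _).2 (T.ne_bot_of_dvd_card (by rw [h]; norm_num))
  haveI : Nontrivial (Subgroup.center (T : Subgroup G)) := T.2.center_nontrivial
  obtain ⟨z', hz'⟩ := exists_prime_orderOf_dvd_card' (G := Subgroup.center (T : Subgroup G)) 2 (by
    obtain ⟨k, hk⟩ := (T.2.to_subgroup (Subgroup.center (T : Subgroup G))).exists_card_eq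
    rcases k with _ | k
    · rw [pow_zero] at hk
      exact absurd hk Finite.one_lt_card.ne'
    · rw [hk, pow_succ]; exact dvd_mul_left 2 _)
  refine ⟨((z' : (T : Subgroup G)) : G), by rw [Subgroup.orderOf_coe, Subgroup.orderOf_coe, hz'], ?_⟩
  have hT : 2 ^ 6 ∣ Nat.card (T : Subgroup G) := T.pow_dvd_card_of_pow_dvd_card (by rw [h]; norm_num)
  refine hT.trans (Subgroup.card_dvd_of_le fun w hw => ?_)
  rw [Subgroup.mem_centralizer_singleton_iff]
  exact congrArg Subtype.val (Subgroup.mem_center_iff.1 z'.2 ⟨w, hw⟩)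

theorem eleven_natAbs_le : ∀ l ∈ elevenLists, ∀ s ∈ l, s.natAbs ≤ 173 := by decide +kernel

end CfsgLib.Char.MTwelveOrder
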