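import Cfsg.Agent.Lib.Char.MTwelveOrder.Bounds

/-!
# Simple groups of order 95040: the Sylow 5-subgroup normalizing the Sylow 11-subgroup
-/

set_option autoImplicit false
set_option linter.all false

open Cfsg CfsgLib.Perm.PrimeBlock CfsgLib.Block Finset CfsgLib.Char.MEleven.Order

namespace CfsgLib.Char.MTwelveOrder

universe u

/-- The data at the prime eleven, with a chosen element of order five of the normalizer. -/
structure ElevenSetup (G : Type u) [Group G] [Fintype G] where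
  P : Sylow 11 G
  card_P : Nat.card (P : Subgroup G) = 11
  cent_P : Nat.card (Subgroup.centralizer ((P : Subgroup G) : Set G)) = 11
  norm_P : Nat.card (Subgroup.normalizer ((P : Subgroup G) : Set G)) = 55
  S : Shape 11 5 (P : Subgroup G)
  x : G
  x_mem : x ∈ (P : Subgroup G)
  x_order : orderOf x = 11
  f : G
  f_mem : f ∈ Subgroup.normalizer ((P : Subgroup G) : Set G)
  f_order : orderOf f = 5

/-- The data at the prime five. -/
structure FiveSetup {G : Type u} [Group G] [Fintype G] (E : ElevenSetup G) (e c : ℕ) where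
  Q : Sylow 5 G
  card_Q : Nat.card (Q : Subgroup G) = 5
  f_mem : E.f ∈ (Q : Subgroup G)
  cent_Q : Nat.card (Subgroup.centralizer ((Q : Subgroup G) : Set G)) = 5 * c
  norm_Q : Nat.card (Subgroup.normalizer ((Q : Subgroup G) : Set G)) = e * (5 * c)
  T : Shape 5 e (Q : Subgroup G)
  hout : ∀ χ : IrrCharacter G, χ ≠ oneChar G → χ ∉ T.X → χ ∉ T.Y → ∀ x ∈ (Q : Subgroup G), x ≠ 1 →
    ∑ y ∈ regCent 5 (Q : Subgroup G), (χ : G → ℂ) (x * y) = 0
  he : e = 2 ∨ e = 4
  one_lt : 1 < c
  not_five : ¬ 5 ∣ c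
  c_four : e = 4 → c ∈ [2, 12, 27, 72, 432]

theorem five_n' : ∀ a < 62, ∀ b < 62, 19008 % (5 * (62 * a + b) + 1) = 0 →
    62 * a + b ∈ [0, 1, 2, 3, 7, 13, 19, 35, 43, 79, 115, 211, 475, 1267] := by decide +kernel

theorem five_n (j : ℕ) (hj : j < 3802) (h : 19008 % (5 * j + 1) = 0) :
    j ∈ [0, 1, 2, 3, 7, 13, 19, 35, 43, 79, 115, 211, 475, 1267] := by
  have hj' : j = 62 * (j / 62) + j % 62 := by omega
  have := five_n' (j / 62) (by omega) (j % 62) (by omega) (by rwa [← hj'])
  rwa [← hj'] at this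

theorem five_options : ∀ n ∈ [6, 11, 16, 36, 66, 96, 176, 216, 396, 576, 1056, 2376, 6336], ∀ e ∈ [2, 4],
    (19008 / n) % e = 0 → n = 6 ∨ (19008 / n / e) % 11 = 0 ∨
      (1 < 19008 / n / e ∧ (19008 / n / e) % 5 ≠ 0 ∧ (e = 4 → 19008 / n / e ∈ [2, 12, 27, 72, 432])) := by
  decide +kernel

variable {G : Type u} [Group G] [Fintype G] [IsSimpleGroup G]

theorem exists_elevenSetup (h : Nat.card G = 95040) : Nonempty (ElevenSetup G) := by
  haveI : Fact (Nat.Prime 11) := ⟨by norm_num⟩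
  haveI : Fact (Nat.Prime 5) := ⟨by norm_num⟩
  obtain ⟨P, hP, hC, hN, ⟨S⟩⟩ := eleven_data h
  obtain ⟨x', hx'⟩ := exists_prime_orderOf_dvd_card' (G := (P : Subgroup G)) 11 (by rw [hP])
  obtain ⟨f', hf'⟩ := exists_prime_orderOf_dvd_card'
    (G := Subgroup.normalizer ((P : Subgroup G) : Set G)) 5 (by rw [hN]; norm_num)
  exact ⟨⟨P, hP, hC, hN, S, x', x'.2, by rw [Subgroup.orderOf_coe, hx'], f', f'.2,
    by rw [Subgroup.orderOf_coe, hf']⟩⟩

theorem exists_fiveSetup (h : Nat.card G = 95040) (E : ElevenSetup G) :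
    ∃ e c : ℕ, Nonempty (FiveSetup E e c) := by
  classical
  haveI : Fact (Nat.Prime 5) := ⟨by norm_num⟩
  haveI : Fact (Nat.Prime 11) := ⟨by norm_num⟩
  have hG := noncomm h
  obtain ⟨P0, n, e, c, hP0, hn, hn1, hn2, hfac, he2, hep, hC0, hN0, hnc, -⟩ :=
    exists_data hG 5 19008 (by norm_num) (by rw [h]) (by norm_num)
  obtain ⟨Q, hQle⟩ := (IsPGroup.of_card (p := 5) (n := 1) (G := Subgroup.zpowers E.f)
    (by rw [Nat.card_zpowers, E.f_order, pow_one])).exists_le_sylow
  have hfQ : E.f ∈ (Q : Subgroup G) := hQle (Subgroup.mem_zpowers _)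
  have hQ : Nat.card (Q : Subgroup G) = 5 := by
    rw [Q.card_eq_multiplicity, ← P0.card_eq_multiplicity, hP0]
  have hf1 : E.f ≠ 1 := fun e => by have := E.f_order; rw [e, orderOf_one] at this; norm_num at this
  obtain ⟨z', hz'⟩ := exists_prime_orderOf_dvd_card' (G := (P0 : Subgroup G)) 5 (by rw [hP0])
  have hzo : orderOf (z' : G) = 5 := by rw [Subgroup.orderOf_coe, hz']
  have hC : Nat.card (Subgroup.centralizer ((Q : Subgroup G) : Set G)) = 5 * c := by
    rw [← centralizer_of_order hQ hzo, centralizer_of_order hP0 hzo, hC0]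
  have hN : Nat.card (Subgroup.normalizer ((Q : Subgroup G) : Set G)) = e * (5 * c) := by
    have h1 := Subgroup.card_mul_index (Subgroup.normalizer ((Q : Subgroup G) : Set G))
    have h2 := Subgroup.card_mul_index (Subgroup.normalizer ((P0 : Subgroup G) : Set G))
    rw [show (Subgroup.normalizer ((Q : Subgroup G) : Set G)).index = Nat.card (Sylow 5 G) from
      (Q.card_eq_index_normalizer).symm] at h1
    rw [show (Subgroup.normalizer ((P0 : Subgroup G) : Set G)).index = Nat.card (Sylow 5 G) from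
      (P0.card_eq_index_normalizer).symm, ← h1, hN0] at h2
    exact (Nat.eq_of_mul_eq_mul_right Nat.card_pos h2).symm
  have hrel : (Subgroup.centralizer ((Q : Subgroup G) : Set G)).relIndex
      (Subgroup.normalizer ((Q : Subgroup G) : Set G)) = e := by
    set C := Subgroup.centralizer ((Q : Subgroup G) : Set G) with hCd
    set N := Subgroup.normalizer ((Q : Subgroup G) : Set G) with hNd
    have hCN : C ≤ N := Subgroup.centralizer_le_normalizer _
    have h2 : Nat.card (C.subgroupOf N) * (C.subgroupOf N).index = Nat.card N :=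
      Subgroup.card_mul_index _
    rw [Nat.card_congr (Subgroup.subgroupOfEquivOfLe hCN).toEquiv, hC, hN, mul_comm e] at h2
    exact Nat.eq_of_mul_eq_mul_left (hC ▸ Nat.card_pos) h2
  obtain ⟨T, hout⟩ := exists_shape_out (fun χ hχ => by
      by_contra hne
      have h3 := degree_ge_three hG χ (fun h => hne (Subtype.ext h)) (d := 1)
        (by rw [(charDegree_eq χ).1, hχ])
      omega) 5 (by norm_num) Q hQ e hrel he2 hep
  have he : e = 2 ∨ e = 4 := by
    have := Nat.le_of_dvd (by norm_num) hep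
    interval_cases e <;> simp_all
  have hmn : 19008 / n = e * c := by rw [← hn, Nat.mul_div_cancel_left _ (by omega)]
  have hcc : 19008 / n / e = c := by rw [hmn, Nat.mul_div_cancel_left _ (by omega)]
  have hnd : n ∣ 19008 := ⟨e * c, hn.symm⟩
  have hnmem : n ∈ [6, 11, 16, 36, 66, 96, 176, 216, 396, 576, 1056, 2376, 6336] := by
    have hle := Nat.le_of_dvd (by norm_num) hnd
    have hn' : n = 5 * (n / 5) + 1 := by omega
    have hj := five_n (n / 5) (by omega) (by rw [← hn']; exact Nat.mod_eq_zero_of_dvd hnd)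
    simp only [List.mem_cons, List.not_mem_nil, or_false] at hj ⊢
    omega
  have hopt := five_options n hnmem e (by rcases he with rfl | rfl <;> simp)
    (by rw [hmn]; exact Nat.mul_mod_right _ _)
  rw [hcc] at hopt
  rcases hopt with hk | h11 | ⟨hc1, hc5, hc4⟩
  · subst hk
    rw [h] at hfac
    exact absurd hfac (by decide)
  · exfalso
    obtain ⟨w, hw⟩ := exists_prime_orderOf_dvd_card'
      (G := Subgroup.centralizer ((Q : Subgroup G) : Set G)) 11
      (by rw [hC]; exact (Nat.dvd_of_mod_eq_zero h11).mul_left 5)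
    have h1 : 5 ∣ Nat.card (Subgroup.centralizer ({(w : G)} : Set G)) := by
      refine hQ.symm.dvd.trans ?_
      exact Subgroup.card_dvd_of_le fun y hy =>
        Subgroup.mem_centralizer_singleton_iff.2 (Subgroup.mem_centralizer_iff.1 w.2 y hy)
    rw [centralizer_of_order E.card_P (by rw [Subgroup.orderOf_coe, hw]), E.cent_P] at h1
    norm_num at h1
  · exact ⟨e, c, ⟨⟨Q, hQ, hfQ, hC, hN, T, hout, he, hc1, fun h => hc5 (Nat.mod_eq_zero_of_dvd h), hc4⟩⟩⟩

variable {E : ElevenSetup G} {e c : ℕ} (F : FiveSetup E e c)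
include F

omit [IsSimpleGroup G] in
theorem FiveSetup.f_ne : E.f ≠ 1 := fun e => by
  have := E.f_order; rw [e, orderOf_one] at this; norm_num at this

omit [IsSimpleGroup G] in
/-- An automiser of order four fuses the generators. -/
theorem FiveSetup.conj_pow (he : e = 4) {j : ℕ} (hj : ¬ 5 ∣ j) : IsConj E.f (E.f ^ j) := by
  classical
  haveI : Fact (Nat.Prime 5) := ⟨by norm_num⟩
  set φ := Subgroup.normalizerMonoidHom (F.Q : Subgroup G) with hφ
  haveI : IsCyclic (F.Q : Subgroup G) := isCyclic_of_prime_card F.card_Q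
  have hker : φ.ker.index = e := by
    rw [hφ, Subgroup.normalizerMonoidHom_ker]
    have hCN := Subgroup.centralizer_le_normalizer (G := G) ((F.Q : Subgroup G) : Set G)
    have h2 := Subgroup.card_mul_index ((Subgroup.centralizer ((F.Q : Subgroup G) : Set G)).subgroupOf
      (Subgroup.normalizer ((F.Q : Subgroup G) : Set G)))
    rw [Nat.card_congr (Subgroup.subgroupOfEquivOfLe hCN).toEquiv, F.cent_Q, F.norm_Q, mul_comm e] at h2
    exact Nat.eq_of_mul_eq_mul_left (F.cent_Q ▸ Nat.card_pos) h2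
  have hsurj : Function.Surjective φ := by
    rw [← MonoidHom.range_eq_top]
    refine Subgroup.eq_top_of_card_eq _ ?_
    rw [← Subgroup.index_ker, hker, IsCyclic.card_mulAut, F.card_Q, he, Nat.totient_prime (by norm_num)]
  letI : CommGroup (F.Q : Subgroup G) := IsCyclic.commGroup
  have hcop : (Nat.card (F.Q : Subgroup G)).Coprime j := by
    rw [F.card_Q]; exact (Nat.Prime.coprime_iff_not_dvd (by norm_num)).2 hj
  let a : MulAut (F.Q : Subgroup G) :=
    { powCoprime hcop with map_mul' := fun x y => mul_pow x y j }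
  obtain ⟨g, hg⟩ := hsurj a
  refine isConj_iff.2 ⟨(g : G), ?_⟩
  have h1 := congrArg (fun b : MulAut (F.Q : Subgroup G) => ((b ⟨E.f, F.f_mem⟩ : (F.Q : Subgroup G)) : G)) hg
  change (g : G) * E.f * (g : G)⁻¹ = E.f ^ j at h1
  exact h1

/-- An involution inverting the element of order five, for odd `c`. -/
theorem FiveSetup.exists_inverter (hc : c % 2 = 1) :
    ∃ u : G, orderOf u = 2 ∧ u * E.f * u⁻¹ = E.f⁻¹ := by
  classical
  haveI : Fact (Nat.Prime 2) := ⟨Nat.prime_two⟩
  obtain ⟨u', hu'⟩ := exists_prime_orderOf_dvd_card'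
    (G := Subgroup.normalizer ((F.Q : Subgroup G) : Set G)) 2
    (by rw [F.norm_Q]; rcases F.he with rfl | rfl <;> exact dvd_mul_of_dvd_left (by norm_num) _)
  have huo : orderOf (u' : G) = 2 := by rw [Subgroup.orderOf_coe, hu']
  refine ⟨u', huo, ?_⟩
  have hui : (u' : G)⁻¹ = u' := inv_eq_of_mul_eq_one_left (by rw [← sq, ← huo, pow_orderOf_eq_one])
  have hgen : Subgroup.zpowers E.f = (F.Q : Subgroup G) := Subgroup.eq_of_le_of_card_ge
    (Subgroup.zpowers_le.2 F.f_mem) (by rw [F.card_Q, Nat.card_zpowers, E.f_order])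
  have hmem : (u' : G) * E.f * (u' : G)⁻¹ ∈ Subgroup.zpowers E.f := by
    rw [hgen]; exact ((Subgroup.mem_normalizer_iff.1 u'.2) E.f).1 F.f_mem
  obtain ⟨k, hk⟩ := hmem
  replace hk : E.f ^ k = (u' : G) * E.f * (u' : G)⁻¹ := hk
  have h2 : E.f ^ (k * k) = E.f ^ (1 : ℤ) := by
    rw [zpow_one, zpow_mul, hk, conj_zpow, hk]
    conv_lhs => rw [hui]
    have hu2 : (u' : G) * u' = 1 := by rw [← sq, ← huo, pow_orderOf_eq_one]
    simp only [mul_assoc, hu2, mul_one]
    rw [← mul_assoc, hu2, one_mul]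
  rw [zpow_eq_zpow_iff_modEq, E.f_order, ← ZMod.intCast_eq_intCast_iff] at h2
  push_cast at h2
  haveI : Fact (Nat.Prime 5) := ⟨by norm_num⟩
  rcases mul_self_eq_one_iff.1 h2 with hk1 | hk1
  · exfalso
    have h1 : E.f ^ k = E.f ^ (1 : ℤ) := zpow_eq_zpow_iff_modEq.2 (by
      rw [E.f_order, ← ZMod.intCast_eq_intCast_iff]; push_cast; exact hk1)
    rw [hk, zpow_one, mul_inv_eq_iff_eq_mul] at h1
    have hmemC : (u' : G) ∈ Subgroup.centralizer ((F.Q : Subgroup G) : Set G) := by
      rw [Subgroup.mem_centralizer_iff]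
      intro w hw
      obtain ⟨i, rfl⟩ : w ∈ Subgroup.zpowers E.f := by rw [hgen]; exact hw
      exact ((show Commute E.f (u' : G) from h1.symm).zpow_left i).eq
    have h3 := Subgroup.orderOf_dvd_natCard _ hmemC
    rw [huo, F.cent_Q] at h3
    omega
  · rw [← hk, ← zpow_neg_one]
    exact zpow_eq_zpow_iff_modEq.2 (by rw [E.f_order, ← ZMod.intCast_eq_intCast_iff]; push_cast; exact hk1)

omit [IsSimpleGroup G] in
/-- The inverting conjugates decide the pairs on the section. -/
theorem FiveSetup.pairs {u : G} (hu : orderOf u = 2) :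
    ∃ a₀ : ℕ, (∑ y ∈ regCent 5 (F.Q : Subgroup G), CfsgLib.Char.classConst u u (E.f * y)) = 5 * (a₀ * a₀) ∧
      (a₀ = 0 ∨ ∃ w : G, IsConj u w ∧ orderOf w = 2 ∧ w * E.f * w⁻¹ = E.f⁻¹) := by
  classical
  haveI : Fact (Nat.Prime 5) := ⟨by norm_num⟩
  obtain ⟨a₀, ha⟩ := exists_sq' (by norm_num) F.Q F.card_Q F.cent_Q F.f_mem F.f_ne hu
  refine ⟨a₀, ha, ?_⟩
  by_cases h0 : a₀ = 0
  · exact Or.inl h0
  refine Or.inr ?_
  have h := exists_sq (by norm_num) F.Q F.card_Q F.cent_Q F.f_mem F.f_ne hu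
  have hne : (inverters u E.f).card ≠ 0 := fun e => by
    rw [ha, e, zero_mul] at h
    simp [h0] at h
  obtain ⟨w, hw⟩ := Finset.card_ne_zero.1 hne
  obtain ⟨hc, hi⟩ := mem_inverters.1 hw
  obtain ⟨g, rfl⟩ := isConj_iff.1 hc
  exact ⟨_, hc, ((MulAut.conj g).orderOf_eq u).trans hu, hi⟩

end CfsgLib.Char.MTwelveOrder
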