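import Cfsg.Agent.Lib.Char.MTwelveOrder.FourData
import Cfsg.Agent.Lib.Char.MEleven.Order.Five

/-!
# Simple groups of order 95040: the possible cases at the primes five and eleven
-/

set_option autoImplicit false
set_option linter.all false
set_option maxHeartbeats 1000000

open Cfsg CfsgLib.Perm.PrimeBlock CfsgLib.Block Finset CfsgLib.Char.MEleven.Order

namespace CfsgLib.Char.MTwelveOrder

universe u

theorem listF_vals : ∀ b ∈ assignsF evenOpts listF, zeroE b = true →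
    b = [(12, -8), (12, -8), (45, -15), (-54, 30)] := by
  decide +kernel

theorem sgnZ_mul {s d e : ℤ} (hd : 0 < d) (he : e = 1 ∨ e = -1) (hs : s = e * d) : sgnZ s = e := by
  subst hs
  rcases he with rfl | rfl <;> simp [sgnZ] <;> omega

variable {G : Type u} [Group G] [Fintype G] [IsSimpleGroup G] {E : ElevenSetup G} {c : ℕ}

omit [IsSimpleGroup G] in
theorem ElevenSetup.sgn_sd {χ : IrrCharacter G} (hχ : χ ∈ E.S.X) : sgnZ (sd E.S χ) = E.S.εX χ :=
  sgnZ_mul (by exact_mod_cast dg_pos χ) (E.S.sign_X χ hχ) rfl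

omit [IsSimpleGroup G] in
theorem ElevenSetup.mul_sgn_sv {χ : IrrCharacter G} (hχ : χ ∈ E.S.X) (g : G) :
    sgnZ (sd E.S χ) * sv E.S g χ = iv χ g := by
  rw [E.sgn_sd hχ, sv]
  rcases E.S.sign_X χ hχ with e | e <;> rw [e] <;> ring

variable (F : FiveSetup E 4 c)
include F

theorem FiveSetup.tuple (h : Nat.card G = 95040) : ∃ X' : List (IrrCharacter G),
    List.Perm X' E.S.X.toList ∧ X'.map (sd E.S) ∈ elevenLists ∧
      X'.map (fun χ => (sd E.S χ, sv E.S E.f χ)) ∈ assignsF (fiveOpts c) (X'.map (sd E.S)) ∧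
      fourOK c (X'.map fun χ => (sd E.S χ, sv E.S E.f χ)) = true := by
  classical
  haveI : Fact (Nat.Prime 11) := ⟨by norm_num⟩
  haveI : Fact (Nat.Prime 5) := ⟨by norm_num⟩
  haveI := Fintype.ofFinite (IrrCharacter G)
  obtain ⟨X', hp, hl⟩ := E.exists_list h
  have hmemX : ∀ χ ∈ X', χ ∈ E.S.X := fun χ hχ => Finset.mem_toList.1 (hp.mem_iff.1 hχ)
  have hsumX : ∀ g : IrrCharacter G → ℤ, (X'.map g).sum = ∑ χ ∈ E.S.X, g χ := fun g => by
    rw [(hp.map g).sum_eq, Finset.sum_map_toList]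
  obtain ⟨θ, θ', hne, hY, hvθ, hb1, hb2⟩ := F.pair_Y
  have hθ : θ ∈ E.S.Y := by rw [hY]; simp
  have hcf : Nat.card (Subgroup.centralizer ({E.f} : Set G)) = 5 * c := by
    rw [centralizer_of_order F.card_Q E.f_order, F.cent_Q]
  have hrelf := rel_val E.S hθ (g := E.f) (by rw [E.f_order]; norm_num) F.val_f
  have hrel1 := rel_one E.S hθ
  have hD0 : 0 < (E.S.D : ℤ) := by
    rw [show E.S.D = dg θ from (E.S.degree_Y θ hθ).symm]; exact_mod_cast dg_pos θ
  have hsgnD : sgnZ (E.S.ε * (E.S.D : ℤ)) = E.S.ε := sgnZ_mul hD0 E.S.sign rfl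
  have habsD : ((E.S.ε * (E.S.D : ℤ)).natAbs : ℤ) = E.S.D := by
    rcases E.S.sign with e | e <;> simp [e]
  set W := Finset.univ \ ({oneChar G} ∪ E.S.X ∪ E.S.Y) with hW
  have hWmem : ∀ χ ∈ W, χ ≠ oneChar G ∧ χ ∉ E.S.X ∧ χ ∉ E.S.Y := fun χ hχ => by
    simpa [hW, Finset.mem_union, not_or, and_assoc] using hχ
  have hsplit : ∀ φ : IrrCharacter G → ℤ, ∑ χ : IrrCharacter G, φ χ =
      φ (oneChar G) + ∑ χ ∈ E.S.X, φ χ + (φ θ + φ θ') + ∑ χ ∈ W, φ χ := by
    intro φ
    rw [← Finset.sum_sdiff (Finset.subset_univ ({oneChar G} ∪ E.S.X ∪ E.S.Y)), ← hW,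
      Finset.sum_union (Finset.disjoint_union_left.2
        ⟨Finset.disjoint_singleton_left.2 E.S.one_notMem_Y, E.S.disjoint⟩),
      Finset.sum_union (Finset.disjoint_singleton_left.2 E.S.one_notMem_X), Finset.sum_singleton,
      hY, Finset.sum_pair hne]
    ring
  have hsq := sum_iv_sq (g := E.f) F.val_f
  rw [hcf, hsplit, iv_oneChar, hvθ] at hsq
  have hrow := sum_dg_iv (g := E.f) F.f_ne F.val_f
  rw [hsplit, iv_oneChar, dg_one, hvθ, show dg θ = E.S.D from E.S.degree_Y θ hθ,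
    show dg θ' = E.S.D from E.S.degree_Y θ' (by rw [hY]; simp)] at hrow
  have hdeg : ∑ χ : IrrCharacter G, ((dg χ : ℤ) * dg χ) = 95040 := by
    have := sum_dg_sq (G := G)
    rw [h] at this
    simp only [sq] at this
    exact_mod_cast this
  rw [hsplit, dg_one, show dg θ = E.S.D from E.S.degree_Y θ hθ,
    show dg θ' = E.S.D from E.S.degree_Y θ' (by rw [hY]; simp)] at hdeg
  have hmain : 484 * ∑ χ ∈ W, iv χ E.f * iv χ E.f ≤
      33 * ∑ χ ∈ W, (dg χ : ℤ) * iv χ E.f + ∑ χ ∈ W, (dg χ : ℤ) * dg χ := by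
    rw [Finset.mul_sum, Finset.mul_sum, ← Finset.sum_add_distrib]
    refine Finset.sum_le_sum fun χ hχ => ?_
    obtain ⟨h1, h2⟩ := F.bound_out χ (hWmem χ hχ).1 (hWmem χ hχ).2.1 (hWmem χ hχ).2.2
    nlinarith [mul_nonneg h1 (sub_nonneg.2 h2)]
  have hblk : ∀ φ : IrrCharacter G → ℤ, ∑ χ ∈ E.S.X, E.S.εX χ * φ χ * (E.S.εX χ * φ χ) = ∑ χ ∈ E.S.X, φ χ * φ χ :=
    fun φ => Finset.sum_congr rfl fun χ hχ => by rcases E.S.sign_X χ hχ with e | e <;> rw [e] <;> ring
  have hW0 : 0 ≤ ∑ χ ∈ W, iv χ E.f * iv χ E.f := Finset.sum_nonneg fun _ _ => mul_self_nonneg _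
  have hXle : ∀ χ ∈ E.S.X, iv χ E.f * iv χ E.f ≤ ∑ ψ ∈ E.S.X, iv ψ E.f * iv ψ E.f := fun χ hχ =>
    Finset.single_le_sum (f := fun ψ => iv ψ E.f * iv ψ E.f) (fun ψ _ => mul_self_nonneg _) hχ
  refine ⟨X', hp, hl, mem_assignsF _ (sd E.S) (sv E.S E.f) X' fun χ hχ => ?_, ?_⟩
  · have hχX := hmemX χ hχ
    obtain ⟨b1, b2⟩ := F.bound_X χ hχX
    obtain ⟨h5, h0⟩ := F.val_f_dvd h χ
    have habs : ((sd E.S χ).natAbs : ℤ) = dg χ := by rw [natAbs_sd E.S hχX]
    have hle : (dg χ : ℤ) ≤ 173 := by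
      rw [← habs]; exact_mod_cast eleven_natAbs_le _ hl _ (List.mem_map_of_mem hχ)
    have he := E.S.sign_X χ hχX
    have hr : -20 ≤ sv E.S E.f χ ∧ sv E.S E.f χ ≤ 20 := by
      rcases he with e | e <;> simp only [sv, e] <;> rw [e] at b1 b2 <;> omega
    simp only [fiveOpts, List.mem_filter, List.mem_map, List.mem_range]
    refine ⟨⟨(sv E.S E.f χ + 20).toNat, by omega, by omega⟩, ?_⟩
    have haI : E.S.εX χ * sv E.S E.f χ = iv χ E.f := by
      simp only [sv]; rcases he with e | e <;> rw [e] <;> ring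
    simp only [fiveOK, E.sgn_sd hχX, habs, haI, Bool.and_eq_true, Bool.or_eq_true,
      decide_eq_true_eq, Bool.not_eq_true', beq_iff_eq, beq_eq_false_iff_ne, ne_eq]
    refine ⟨⟨⟨⟨?_, by omega⟩, ?_⟩, b1⟩, b2⟩
    · have := hXle χ hχX
      push_cast at hsq
      nlinarith [mul_self_nonneg (iv θ E.f)]
    · by_cases hd : 5 ∣ dg χ
      · exact Or.inr (h0 hd)
      · exact Or.inl (by omega)
  · have e1 : (X'.map fun χ => (sd E.S χ, sv E.S E.f χ)).map Prod.fst = X'.map (sd E.S) := by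
      simp [List.map_map, Function.comp_def]
    have e2 : (X'.map fun χ => (sd E.S χ, sv E.S E.f χ)).map Prod.snd = X'.map (sv E.S E.f) := by
      simp [List.map_map, Function.comp_def]
    have e3 : ((X'.map fun χ => (sd E.S χ, sv E.S E.f χ)).map fun x => x.2 * x.2) =
        X'.map fun χ => sv E.S E.f χ * sv E.S E.f χ := by simp [List.map_map, Function.comp_def]
    have e4 : ((X'.map fun χ => (sd E.S χ, sv E.S E.f χ)).map fun x => x.1 * x.2) =
        X'.map fun χ => sd E.S χ * sv E.S E.f χ := by simp [List.map_map, Function.comp_def]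
    have e5 : ((X'.map fun χ => (sd E.S χ, sv E.S E.f χ)).map fun x => x.1 * x.1) =
        X'.map fun χ => sd E.S χ * sd E.S χ := by simp [List.map_map, Function.comp_def]
    simp only [fourOK, e1, e2, e3, e4, e5, hsumX, ← hrelf, ← hrel1, hsgnD, habsD, Bool.and_eq_true,
      Bool.or_eq_true, decide_eq_true_eq, Bool.not_eq_true', beq_iff_eq, beq_eq_false_iff_ne, ne_eq,
      List.any_eq_true]
    have hθv : E.S.ε * (E.S.ε * iv θ E.f) = iv θ E.f := by
      rcases E.S.sign with e | e <;> rw [e] <;> ring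
    rw [hθv]
    have hsv2 : ∑ χ ∈ E.S.X, sv E.S E.f χ * sv E.S E.f χ = ∑ χ ∈ E.S.X, iv χ E.f * iv χ E.f := hblk _
    have hsd2 : ∑ χ ∈ E.S.X, sd E.S χ * sd E.S χ = ∑ χ ∈ E.S.X, (dg χ : ℤ) * dg χ := hblk _
    have hsdv : ∑ χ ∈ E.S.X, sd E.S χ * sv E.S E.f χ = ∑ χ ∈ E.S.X, (dg χ : ℤ) * iv χ E.f :=
      Finset.sum_congr rfl fun χ hχ => by
        rcases E.S.sign_X χ hχ with e | e <;> simp only [sd, sv, e] <;> ring
    have hTT : E.S.ε * iv θ E.f * (E.S.ε * iv θ E.f) = iv θ E.f * iv θ E.f := by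
      rcases E.S.sign with e | e <;> rw [e] <;> ring
    have hDT : E.S.ε * (E.S.D : ℤ) * (E.S.ε * iv θ E.f) = (E.S.D : ℤ) * iv θ E.f := by
      rcases E.S.sign with e | e <;> rw [e] <;> ring
    have hDD : E.S.ε * (E.S.D : ℤ) * (E.S.ε * (E.S.D : ℤ)) = (E.S.D : ℤ) * (E.S.D : ℤ) := by
      rcases E.S.sign with e | e <;> rw [e] <;> ring
    rw [hsv2, hsd2, hsdv, hTT, hDT, hDD]
    obtain ⟨h5, h0⟩ := F.val_f_dvd h θ
    rw [show dg θ = E.S.D from E.S.degree_Y θ hθ] at h5 h0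
    push_cast at hsq hrow hdeg
    refine ⟨⟨⟨⟨⟨⟨?_, ?_⟩, ?_⟩, ?_⟩, ?_⟩, ?_⟩, ?_⟩
    · omega
    · by_cases hd : 5 ∣ E.S.D
      · exact Or.inr (h0 hd)
      · exact Or.inl (by omega)
    · linarith
    · linarith
    · rcases F.member with ⟨χ, hχ, hv⟩ | hv
      · exact Or.inl ⟨_, List.mem_map_of_mem (hp.mem_iff.2 (Finset.mem_toList.2 hχ)), hv⟩
      · exact Or.inr (hv θ hθ)
    · linarith
    · linarith

/-- A value at an involution centralizing the Sylow 5-subgroup, in the principal block. -/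
theorem FiveSetup.member_mod (h : Nat.card G = 95040) {y : G} (hy : orderOf y = 2)
    (hyC : y ∈ Subgroup.centralizer ((F.Q : Subgroup G) : Set G)) {ψ : IrrCharacter G}
    (hψ : ψ ∈ F.T.X ∪ F.T.Y) : (iv ψ y - 1) % 5 = 0 ∨ (iv ψ y + 1) % 5 = 0 := by
  classical
  haveI : Fact (Nat.Prime 5) := ⟨by norm_num⟩
  have hyr : ¬ 5 ∣ orderOf y := by rw [hy]; norm_num
  have hG := noncomm h
  have hc : Commute E.f y := Subgroup.mem_centralizer_iff.1 hyC E.f F.f_mem
  have hpow : ∀ j : ℕ, ¬ 5 ∣ j → E.f ^ j ∈ (F.Q : Subgroup G) ∧ E.f ^ j ≠ 1 := fun j hj =>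
    ⟨pow_mem F.f_mem j, fun hh => hj (E.f_order ▸ orderOf_dvd_of_pow_eq_one hh)⟩
  rcases Finset.mem_union.1 hψ with hX | hY
  · have := dvd_value_sub (CfsgLib.Char.isCharacter_irr ψ) (by norm_num : Nat.Prime 5) (by norm_num)
      E.f_order hy hc (c := F.T.εX ψ) (r := iv ψ y)
      (fun j hj => F.T.value_X ψ hX _ (hpow j hj).1 (hpow j hj).2 y hyC hyr) (val_invol hG ψ hy)
    rcases F.T.sign_X ψ hX with e | e <;> rw [e] at this <;> omega
  · obtain ⟨a, ha⟩ := Finset.card_eq_one.1 (show F.T.Y.card = 1 by rw [F.T.card_Y])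
    have hYa : ψ = a := by rw [ha] at hY; exact Finset.mem_singleton.1 hY
    subst hYa
    have := dvd_value_sub (CfsgLib.Char.isCharacter_irr ψ) (by norm_num : Nat.Prime 5) (by norm_num)
      E.f_order hy hc (c := -F.T.ε) (r := iv ψ y)
      (fun j hj => by
        have hv := F.T.value_Y _ (hpow j hj).1 (hpow j hj).2 y hyC hyr
        rw [ha, Finset.sum_singleton] at hv
        rw [hv]; push_cast; rfl) (val_invol hG ψ hy)
    rcases F.T.sign with e | e <;> rw [e] at this <;> omega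

omit [IsSimpleGroup G] in
theorem FiveSetup.sum_pows (χ : IrrCharacter G) :
    (χ : G → ℂ) E.f + (χ : G → ℂ) (E.f ^ 2) + (χ : G → ℂ) (E.f ^ 3) + (χ : G → ℂ) (E.f ^ 4) =
      ((4 * iv χ E.f : ℤ) : ℂ) := by
  have hpow : ∀ j : ℕ, ¬ 5 ∣ j → (χ : G → ℂ) (E.f ^ j) = (iv χ E.f : ℂ) := fun j hj => by
    obtain ⟨g, hg⟩ := isConj_iff.1 (F.conj_pow rfl hj)
    rw [← hg, CfsgLib.Char.isClassFunction_irr χ E.f g, F.val_f]
  rw [hpow 2 (by norm_num), hpow 3 (by norm_num), hpow 4 (by norm_num), F.val_f]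
  push_cast; ring

/-- The values at an involution centralizing the element of order five. -/
theorem FiveSetup.even_vals (h : Nat.card G = 95040) {y : G} (hy : orderOf y = 2) (hc : Commute E.f y)
    {X' : List (IrrCharacter G)} (hp : List.Perm X' E.S.X.toList) (hl : X'.map (sd E.S) ∈ elevenLists) :
    X'.map (fun χ => (sd E.S χ, sv E.S y χ)) ∈ assignsF evenOpts (X'.map (sd E.S)) ∧
      zeroE (X'.map fun χ => (sd E.S χ, sv E.S y χ)) = true := by
  classical
  haveI : Fact (Nat.Prime 11) := ⟨by norm_num⟩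
  obtain ⟨hz, hvals⟩ := E.zero_eq h hy hp
  refine ⟨mem_assignsF _ (sd E.S) (sv E.S y) X' fun χ hχ => ?_, hz⟩
  simp only [evenOpts, List.mem_filter, Bool.or_eq_true, Bool.not_eq_true', beq_iff_eq, beq_eq_false_iff_ne,
    ne_eq]
  refine ⟨mem_valsAll (eleven_natAbs_le _ hl _ (List.mem_map_of_mem hχ)) (hvals χ hχ), ?_⟩
  by_cases hd : sd E.S χ % 5 = 0
  swap
  · exact Or.inl hd
  refine Or.inr ?_
  have hχX : χ ∈ E.S.X := Finset.mem_toList.1 (hp.mem_iff.1 hχ)
  have h5 : 5 ∣ dg χ := by rw [← natAbs_sd E.S hχX]; omega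
  have := dvd_value_sub (CfsgLib.Char.isCharacter_irr χ) (by norm_num : Nat.Prime 5) (by norm_num)
    E.f_order hy hc (c := 0) (r := iv χ y) (fun j hj => by
      rw [vanish_five h χ h5 ?_, Int.cast_zero]
      have hfo : orderOf (E.f ^ j) = 5 := by
        rw [orderOf_pow' _ (by rintro rfl; simp at hj), E.f_order]
        rw [((Nat.Prime.coprime_iff_not_dvd (by norm_num : Nat.Prime 5)).2 hj).gcd_eq_one, Nat.div_one]
      rw [(hc.pow_left j).orderOf_mul_eq_mul_orderOf_of_coprime (by rw [hfo, hy]; norm_num), hfo, hy]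
      norm_num) (val_invol (noncomm h) χ hy)
  simp only [sv]
  rcases E.S.sign_X χ hχX with e | e <;> rw [e] <;> omega

/-- The two remaining cases. -/
theorem FiveSetup.cases (h : Nat.card G = 95040) : ∃ X' : List (IrrCharacter G),
    List.Perm X' E.S.X.toList ∧
      ((X'.map (sd E.S) = listA ∧ (c = 12 ∨
          (c = 2 ∧ X'.map (fun χ => (sd E.S χ, sv E.S E.f χ)) = tupleA))) ∨
        (X'.map (sd E.S) = listTen ∧ c = 27)) := by
  classical
  haveI : Fact (Nat.Prime 11) := ⟨by norm_num⟩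
  haveI : Fact (Nat.Prime 5) := ⟨by norm_num⟩
  haveI : Fact (Nat.Prime 2) := ⟨Nat.prime_two⟩
  have hG := noncomm h
  obtain ⟨X', hp, hl, hass, hok⟩ := F.tuple h
  have hmemX : ∀ χ ∈ X', χ ∈ E.S.X := fun χ hχ => Finset.mem_toList.1 (hp.mem_iff.1 hχ)
  obtain ⟨θ₀, hθ₀⟩ := nonempty_Y E.S (by norm_num) (by norm_num)
  have hr := rel_one E.S hθ₀
  rw [← Finset.sum_map_toList, ← (hp.map _).sum_eq] at hr
  have hD5 : (1 + (X'.map (sd E.S)).sum).natAbs = 5 → False := fun h5 => by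
    rw [← hr] at h5
    exact F.D_ne_five h (by rcases E.S.sign with e | e <;> simp [e] at h5 <;> omega)
  have heven : 2 ∣ c → ∃ y : G, orderOf y = 2 ∧
      y ∈ Subgroup.centralizer ((F.Q : Subgroup G) : Set G) ∧ Commute E.f y := by
    intro hc2
    obtain ⟨y, hy⟩ := exists_prime_orderOf_dvd_card'
      (G := Subgroup.centralizer ((F.Q : Subgroup G) : Set G)) 2 (by rw [F.cent_Q]; exact hc2.mul_left 5)
    exact ⟨y, by rw [Subgroup.orderOf_coe, hy], y.2, Subgroup.mem_centralizer_iff.1 y.2 E.f F.f_mem⟩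
  by_cases hc27 : c = 27
  · subst hc27
    rcases four_twentyseven _ hl _ hass hok with h5 | hten | hnone
    · exact (hD5 h5).elim
    · exact ⟨X', hp, Or.inr ⟨hten, rfl⟩⟩
    exfalso
    obtain ⟨u, hu, hinv⟩ := F.exists_inverter (by norm_num)
    obtain ⟨hz, hvals⟩ := E.zero_eq h hu hp
    have hmem := mem_assignsP (sd E.S) (sv E.S E.f) (sv E.S u) X' fun χ hχ => by
      simp only [invOpts, List.mem_filter, decide_eq_true_eq]
      refine ⟨mem_valsAll (eleven_natAbs_le _ hl _ (List.mem_map_of_mem hχ)) (hvals χ hχ), ?_⟩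
      rw [E.mul_sgn_sv (hmemX χ hχ), natAbs_sd E.S (hmemX χ hχ)]
      obtain ⟨b1, b2⟩ := bound_inverter (CfsgLib.Char.isCharacter_irr χ)
        (CfsgLib.Char.isClassFunction_irr χ) E.f_order hu hinv (d := (dg χ : ℤ))
        (α := iv χ E.f) (v := iv χ u) (by rw [val_one]; simp) (F.sum_pows χ) (val_invol hG χ hu)
      have habs : (sv E.S u χ).natAbs = (iv χ u).natAbs := by
        simp only [sv]; rcases E.S.sign_X χ (hmemX χ hχ) with e | e <;> simp [e]
      rw [habs]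
      omega
    rw [hnone _ hmem] at hz
    exact Bool.false_ne_true hz
  have hc4 := F.c_four rfl
  rcases four_table c hc4 _ hl _ hass hok with h5 | h27 | h10 | hA | ⟨hF, rfl⟩ | hFF
  · exact (hD5 h5).elim
  · exact absurd h27 hc27
  · exfalso
    obtain ⟨χ, hχ, hχs⟩ := List.mem_map.1 h10
    refine F.no_ten h (by simp only [List.mem_cons, List.not_mem_nil, or_false] at hc4; omega) χ ?_
    have := natAbs_sd E.S (hmemX χ hχ)
    rw [hχs] at this
    exact this.symm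
  · exact ⟨X', hp, Or.inl hA⟩
  · exfalso
    obtain ⟨y, hy, hyC, hyc⟩ := heven (by norm_num)
    obtain ⟨hv, hz⟩ := F.even_vals h hy hyc hp hl
    rw [hF] at hv
    have hvals := listF_vals _ hv hz
    obtain ⟨ψ, hψ, h11⟩ := CfsgLib.Char.MEleven.Order.exists_not_eleven (e := 4) (by norm_num) (by norm_num) F.T
    have hmod := F.member_mod h hy hyC hψ
    have hψ1 : ψ ≠ oneChar G := fun e => by
      rcases Finset.mem_union.1 hψ with hm | hm
      · exact F.T.one_notMem_X (e ▸ hm)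
      · exact F.T.one_notMem_Y (e ▸ hm)
    by_cases hX : ψ ∈ E.S.X
    · have hm : (sd E.S ψ, sv E.S y ψ) ∈ [((12 : ℤ), (-8 : ℤ)), (12, -8), (45, -15), (-54, 30)] := by
        rw [← hvals]; exact List.mem_map_of_mem (hp.mem_iff.2 (Finset.mem_toList.2 hX))
      simp only [List.mem_cons, List.not_mem_nil, or_false, Prod.mk.injEq, sv] at hm
      rcases E.S.sign_X ψ hX with e | e <;> rw [e] at hm <;> omega
    by_cases hY : ψ ∈ E.S.Y
    · have hrelu := rel_val E.S hY (g := y) (by rw [hy]; norm_num) (fun χ => val_invol hG χ hy)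
      rw [← Finset.sum_map_toList, ← (hp.map _).sum_eq] at hrelu
      have : X'.map (sv E.S y) = [-8, -8, -15, 30] := by
        have := congrArg (List.map Prod.snd) hvals
        simpa [List.map_map, Function.comp_def] using this
      rw [this] at hrelu
      norm_num at hrelu
      rcases E.S.sign with e | e <;> rw [e] at hrelu <;> omega
    · exact h11 (dvd_dg_outside E.S E.card_P E.cent_P ψ hψ1 hX hY)
  · exfalso
    obtain ⟨y, hy, hyC, hyc⟩ := heven (by simp only [List.mem_cons, List.not_mem_nil, or_false] at hc4; omega)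
    obtain ⟨hv, hz⟩ := F.even_vals h hy hyc hp hl
    rw [hFF] at hv
    rw [listFF_none _ hv] at hz
    exact Bool.false_ne_true hz

end CfsgLib.Char.MTwelveOrder
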