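import Cfsg.Agent.Lib.Char.MTwelveOrder.Lists

/-!
# Simple groups of order 95040: finite checks on the values at the element of order five
-/

set_option autoImplicit false
set_option linter.all false

namespace CfsgLib.Char.MTwelveOrder

open CfsgLib.Perm.PrimeBlock

/-- The sign of a signed degree. -/
def sgnZ (s : ℤ) : ℤ := if s < 0 then -1 else 1

/-- The conditions on one signed value `S` at the element of order five for signed degree `s`. -/
def fiveOK (c : ℕ) (s S : ℤ) : Bool :=
  let d : ℤ := (s.natAbs : ℤ)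
  let a : ℤ := sgnZ s * S
  decide (a * a ≤ 5 * (c : ℤ)) && ((a - d) % 5 == 0) && (!(d % 5 == 0) || a == 0) &&
    decide (0 ≤ d + 10 * sgnZ s + 44 * a) && decide (11 * a ≤ d + 10 * sgnZ s)

/-- The options for the signed values at the element of order five. -/
def fiveOpts (c : ℕ) (s : ℤ) : List ℤ :=
  ((List.range 41).map fun (i : ℕ) => (i : ℤ) - 20).filter (fiveOK c s)

/-- A tuple of values at the element of order five is admissible. -/
def fourOK (c : ℕ) (a : List (ℤ × ℤ)) : Bool :=
  let T : ℤ := 1 + (a.map Prod.snd).sum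
  let D : ℤ := 1 + (a.map Prod.fst).sum
  let d : ℤ := (D.natAbs : ℤ)
  let θ : ℤ := sgnZ D * T
  let blk : ℤ := 1 + (a.map fun x => x.2 * x.2).sum + 2 * (T * T)
  let row : ℤ := 1 + (a.map fun x => x.1 * x.2).sum + 2 * (D * T)
  let R : ℤ := 95040 - 1 - (a.map fun x => x.1 * x.1).sum - 2 * (D * D)
  ((θ - d) % 5 == 0) && (!(d % 5 == 0) || θ == 0) &&
    decide (0 ≤ 2 * d - 10 * sgnZ D + 88 * θ) && decide (22 * θ ≤ 2 * d - 10 * sgnZ D) &&
    (a.any (fun x => x.2 == -1) || T == 1) && decide (blk ≤ 5 * (c : ℤ)) &&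
    decide (484 * (5 * (c : ℤ) - blk) ≤ -33 * row + R)

/-- The list of the case that survives. -/
def listA : List ℤ := [45, -54, -120, 144]

/-- The list killed by congruences. -/
def listF : List ℤ := [12, 12, 45, -54]

/-- The list with three characters of degree ten. -/
def listTen : List ℤ := [-10, -10, -10, 45]

/-- The signed values in the surviving case. -/
def tupleA : List (ℤ × ℤ) := [(45, 0), (-54, 1), (-120, 0), (144, -1)]

/-- The list killed by the values at a centralizing involution. -/
def listFF : List ℤ := [45, 45, 45, -120]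

theorem four_table : ∀ c ∈ [2, 12, 27, 72, 432], ∀ l ∈ elevenLists, ∀ a ∈ assignsF (fiveOpts c) l,
    fourOK c a = true → (1 + l.sum).natAbs = 5 ∨ c = 27 ∨ (-10 : ℤ) ∈ l ∨
      (l = listA ∧ (c = 12 ∨ (c = 2 ∧ a = tupleA))) ∨ (l = listF ∧ c = 12) ∨ l = listFF := by
  decide +kernel

/-- Signed values at an involution centralizing the element of order five. -/
def evenOpts (s : ℤ) : List ℤ :=
  (valsAll s).filter fun S => !(s % 5 == 0) || S % 5 == 0

theorem listFF_none : ∀ b ∈ assignsF evenOpts listFF, zeroE b = false := by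
  decide +kernel

/-- Signed values at an inverting involution. -/
def invOpts (p : ℤ × ℤ) : List ℤ :=
  (valsAll p.1).filter fun S =>
    decide (5 * ((S.natAbs : ℕ) : ℤ) ≤ (p.1.natAbs : ℤ) + 4 * (sgnZ p.1 * p.2))

/-- Assignments depending on a pair. -/
def assignsP : List (ℤ × ℤ) → List (List (ℤ × ℤ))
  | [] => [[]]
  | p :: r => (invOpts p).flatMap fun S => (assignsP r).map ((p.1, S) :: ·)

theorem mem_assignsP {ι : Type*} (f a v : ι → ℤ) :
    ∀ X : List ι, (∀ x ∈ X, v x ∈ invOpts (f x, a x)) →
      X.map (fun x => (f x, v x)) ∈ assignsP (X.map fun x => (f x, a x)) := by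
  intro X
  induction X with
  | nil => intro _; simp [assignsP]
  | cons x X ih =>
    intro h
    simp only [List.map_cons, assignsP, List.mem_flatMap, List.mem_map]
    exact ⟨v x, h x (by simp), _, ih fun b hb => h b (List.mem_cons_of_mem _ hb), rfl⟩

theorem four_twentyseven : ∀ l ∈ elevenLists, ∀ a ∈ assignsF (fiveOpts 27) l,
    fourOK 27 a = true → (1 + l.sum).natAbs = 5 ∨ l = listTen ∨ ∀ b ∈ assignsP a, zeroE b = false := by
  decide +kernel

end CfsgLib.Char.MTwelveOrder
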