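import Cfsg.Agent.Lib.Char.MTwelveOrder.TwoExcl
import Cfsg.Agent.Lib.Char.MTwelveOrder.FourTest

/-!
# Simple groups of order 95040: the values at the element of order five
-/

set_option autoImplicit false
set_option linter.all false

open Cfsg CfsgLib.Perm.PrimeBlock CfsgLib.Block Finset CfsgLib.Char.MEleven.Order

namespace CfsgLib.Char.MTwelveOrder

universe u

variable {G : Type u} [Group G] [Fintype G] [IsSimpleGroup G] {E : ElevenSetup G} {c : ℕ}

omit [IsSimpleGroup G] in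
theorem FiveSetup.zpowers_f {e : ℕ} (F : FiveSetup E e c) : Subgroup.zpowers E.f = (F.Q : Subgroup G) :=
  Subgroup.eq_of_le_of_card_ge (Subgroup.zpowers_le.2 F.f_mem) (by rw [F.card_Q, Nat.card_zpowers, E.f_order])

omit [IsSimpleGroup G] in
theorem exists_int_of_rational {z : ℂ} (hz : IsIntegral ℤ z) {a : ℤ} {b : ℕ} (hb : b ≠ 0)
    (h : (b : ℂ) * z = a) : ∃ m : ℤ, z = m := by
  have e : z = (((a : ℚ) / b : ℚ) : ℂ) := by
    have : (b : ℂ) ≠ 0 := by exact_mod_cast hb
    push_cast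
    field_simp
    linear_combination h
  have h' : IsIntegral ℤ ((a : ℚ) / b) := by
    rw [← isIntegral_algebraMap_iff (algebraMap ℚ ℂ).injective (A := ℚ) (B := ℂ)]
    rw [eq_ratCast, ← e]; exact hz
  obtain ⟨m, hm⟩ := IsIntegrallyClosed.isIntegral_iff.1 h'
  exact ⟨m, by rw [e, ← hm]; simp⟩

variable (F : FiveSetup E 4 c)
include F

omit [IsSimpleGroup G] in
/-- The values at the element of order five are integers. -/
theorem FiveSetup.val_f (χ : IrrCharacter G) : (χ : G → ℂ) E.f = (iv χ E.f : ℂ) := by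
  classical
  refine iv_spec ?_
  have hcf := CfsgLib.Char.isClassFunction_irr χ
  have hpow : ∀ j : ℕ, ¬ 5 ∣ j → (χ : G → ℂ) (E.f ^ j) = (χ : G → ℂ) E.f := fun j hj => by
    obtain ⟨g, hg⟩ := isConj_iff.1 (F.conj_pow rfl hj)
    rw [← hg, hcf]
  set Z := Subgroup.zpowers E.f with hZ
  set SP : Finset G := Finset.univ.filter (fun g => g ∈ Z) with hSP
  obtain ⟨a, b, -, e1, -⟩ := invariants_mono (CfsgLib.Char.isCharacter_irr χ) (le_refl Z) SP SP
    (by simp [hSP]) (by simp [hSP])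
  have hcP : SP.card = 5 := by
    rw [hSP, ← Fintype.card_subtype, ← Nat.card_eq_fintype_card]
    exact (Nat.card_zpowers E.f).trans E.f_order
  have hSPeq : SP = (Finset.range 5).image (fun j => E.f ^ j) := by
    symm
    refine Finset.eq_of_subset_of_card_le ?_ ?_
    · intro g hg
      obtain ⟨j, -, rfl⟩ := Finset.mem_image.1 hg
      simp only [hSP, Finset.mem_filter, Finset.mem_univ, true_and]
      exact pow_mem (Subgroup.mem_zpowers E.f) j
    · rw [hcP, Finset.card_image_of_injOn, Finset.card_range]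
      intro i hi j hj e
      simp only [Finset.coe_range, Set.mem_Iio] at hi hj
      exact pow_injOn_Iio_orderOf (by rw [E.f_order]; exact hi) (by rw [E.f_order]; exact hj) e
  rw [hSPeq, Finset.sum_image fun i hi j hj e => pow_injOn_Iio_orderOf
    (by rw [E.f_order]; simpa using hi) (by rw [E.f_order]; simpa using hj) e] at e1
  simp only [Finset.sum_range_succ, Finset.sum_range_zero, zero_add, pow_zero, val_one] at e1
  rw [hpow 1 (by norm_num), hpow 2 (by norm_num), hpow 3 (by norm_num), hpow 4 (by norm_num)] at e1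
  refine exists_int_of_rational (CfsgLib.Char.isCharacter_isIntegral (CfsgLib.Char.isCharacter_irr χ) _)
    (b := 4) (a := ((a * Nat.card Z : ℕ) : ℤ) - (dg χ : ℤ)) (by norm_num) ?_
  push_cast at e1 ⊢
  linear_combination e1

omit [IsSimpleGroup G] in
/-- All elements of order five take the same values. -/
theorem FiveSetup.val_five (χ : IrrCharacter G) {g : G} (hg : orderOf g = 5) :
    (χ : G → ℂ) g = (iv χ E.f : ℂ) := by
  haveI : Fact (Nat.Prime 5) := ⟨by norm_num⟩
  obtain ⟨R, hR⟩ := (IsPGroup.of_card (p := 5) (n := 1) (G := Subgroup.zpowers g)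
    (by rw [Nat.card_zpowers, hg, pow_one])).exists_le_sylow
  obtain ⟨w, hw⟩ := MulAction.exists_smul_eq G R F.Q
  have hmem : w * g * w⁻¹ ∈ Subgroup.zpowers E.f := by
    rw [F.zpowers_f, ← hw, Sylow.coe_subgroup_smul]
    exact ⟨_, hR (Subgroup.mem_zpowers _), rfl⟩
  obtain ⟨j, hj⟩ := (isOfFinOrder_of_finite E.f).mem_powers_iff_mem_zpowers.2 hmem
  replace hj : E.f ^ j = w * g * w⁻¹ := hj
  have h5 : ¬ 5 ∣ j := fun hd => by
    obtain ⟨t, rfl⟩ := hd
    rw [pow_mul, show E.f ^ 5 = 1 by rw [← E.f_order]; exact pow_orderOf_eq_one _, one_pow,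
      eq_comm, conj_eq_one_iff] at hj
    rw [hj, orderOf_one] at hg
    norm_num at hg
  obtain ⟨v, hv⟩ := isConj_iff.1 (F.conj_pow rfl h5)
  rw [← CfsgLib.Char.isClassFunction_irr χ g w, ← hj, ← hv, CfsgLib.Char.isClassFunction_irr χ E.f v,
    F.val_f]

omit [IsSimpleGroup G] in
theorem FiveSetup.val_f_dvd (h : Nat.card G = 95040) (χ : IrrCharacter G) :
    (5 : ℤ) ∣ (dg χ : ℤ) - iv χ E.f ∧ (5 ∣ dg χ → iv χ E.f = 0) := by
  refine ⟨dvd_deg_sub (CfsgLib.Char.isCharacter_irr χ) (by norm_num : Nat.Prime 5) E.f_order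
    (fun j hj => ?_) (by rw [val_one]; simp), fun hd => iv_eq ?_⟩
  · obtain ⟨v, hv⟩ := isConj_iff.1 (F.conj_pow rfl hj)
    rw [← hv, CfsgLib.Char.isClassFunction_irr χ E.f v, F.val_f]
  · rw [vanish_five h χ hd (by rw [E.f_order]), Int.cast_zero]

omit [IsSimpleGroup G] in
/-- The bound for one character of the block of the prime eleven. -/
theorem FiveSetup.bound_X (χ : IrrCharacter G) (hχ : χ ∈ E.S.X) :
    0 ≤ (dg χ : ℤ) + 10 * E.S.εX χ + 44 * iv χ E.f ∧ 11 * iv χ E.f ≤ (dg χ : ℤ) + 10 * E.S.εX χ :=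
  bound_fiftyfive (CfsgLib.Char.isCharacter_irr χ) E.P E.card_P E.cent_P E.norm_P
    (by rw [val_one]; simp)
    (fun x hx hx1 => by
      have hv := E.S.value_X χ hχ x hx hx1 1 (one_mem _) (by rw [orderOf_one]; norm_num)
      rwa [mul_one] at hv)
    (fun g _ hg => F.val_five χ hg)

omit [IsSimpleGroup G] in
theorem FiveSetup.bound_out (χ : IrrCharacter G) (h1 : χ ≠ oneChar G) (hX : χ ∉ E.S.X) (hY : χ ∉ E.S.Y) :
    0 ≤ (dg χ : ℤ) + 44 * iv χ E.f ∧ 11 * iv χ E.f ≤ (dg χ : ℤ) := by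
  have := bound_fiftyfive (CfsgLib.Char.isCharacter_irr χ) E.P E.card_P E.cent_P E.norm_P
    (d := (dg χ : ℤ)) (s := 0) (by rw [val_one]; simp)
    (fun x hx hx1 => by rw [E.S.outside E.cent_P χ h1 hX hY x hx hx1]; simp)
    (fun g _ hg => F.val_five χ hg)
  constructor <;> linarith [this.1, this.2]

omit [IsSimpleGroup G] in
theorem FiveSetup.pair_Y : ∃ θ θ' : IrrCharacter G, θ ≠ θ' ∧ E.S.Y = {θ, θ'} ∧ iv θ' E.f = iv θ E.f ∧
    0 ≤ 2 * (E.S.D : ℤ) - 10 * E.S.ε + 88 * iv θ E.f ∧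
    22 * iv θ E.f ≤ 2 * (E.S.D : ℤ) - 10 * E.S.ε := by
  classical
  haveI : Fact (Nat.Prime 11) := ⟨by norm_num⟩
  obtain ⟨θ, θ', hne, hY⟩ := Finset.card_eq_two.1 (show E.S.Y.card = 2 by rw [E.S.card_Y])
  have hθ : θ ∈ E.S.Y := by rw [hY]; simp
  have hθ' : θ' ∈ E.S.Y := by rw [hY]; simp
  have hv : iv θ' E.f = iv θ E.f := iv_Y E.S hθ' hθ (by rw [E.f_order]; norm_num) F.val_f
  refine ⟨θ, θ', hne, hY, hv, ?_⟩
  have := bound_fiftyfive (CfsgLib.Char.isCharacter_sum E.S.Y (fun ρ => (ρ : G → ℂ))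
    fun ρ _ => CfsgLib.Char.isCharacter_irr ρ) E.P E.card_P E.cent_P E.norm_P
    (d := 2 * (E.S.D : ℤ)) (s := -E.S.ε) (α := 2 * iv θ E.f)
    (by rw [Finset.sum_apply, hY, Finset.sum_pair hne, val_one, val_one,
          show dg θ = E.S.D from E.S.degree_Y θ hθ, show dg θ' = E.S.D from E.S.degree_Y θ' hθ']
        push_cast; ring)
    (fun x hx hx1 => by
      have hv := E.S.value_Y x hx hx1 1 (one_mem _) (by rw [orderOf_one]; norm_num)
      simp only [mul_one] at hv
      rw [Finset.sum_apply, hv]; push_cast; rfl)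
    (fun g _ hg => by
      rw [Finset.sum_apply, hY, Finset.sum_pair hne, F.val_five θ hg, F.val_five θ' hg, hv]
      push_cast; ring)
  constructor <;> linarith [this.1, this.2]

/-- Some character of the block of the prime eleven has value one of a special sign. -/
theorem FiveSetup.member : (∃ χ ∈ E.S.X, E.S.εX χ * iv χ E.f = -1) ∨
    ∀ θ ∈ E.S.Y, E.S.ε * iv θ E.f = 1 := by
  classical
  haveI : Fact (Nat.Prime 5) := ⟨by norm_num⟩
  haveI : Fact (Nat.Prime 11) := ⟨by norm_num⟩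
  haveI := Fintype.ofFinite (IrrCharacter G)
  obtain ⟨θ, θ', hne, hY, hvθ, -⟩ := F.pair_Y
  by_contra hcon
  push Not at hcon
  obtain ⟨hX, θb, hθb, hθne⟩ := hcon
  have hεθ : E.S.ε * iv θ E.f ≠ 1 := by
    rw [hY] at hθb
    simp only [Finset.mem_insert, Finset.mem_singleton] at hθb
    rcases hθb with rfl | rfl
    · exact hθne
    · rwa [hvθ] at hθne
  obtain ⟨θ₅, hθ₅⟩ := nonempty_Y F.T (by norm_num) (by norm_num)
  have hY5 : F.T.Y = {θ₅} := by
    obtain ⟨a, ha⟩ := Finset.card_eq_one.1 (show F.T.Y.card = 1 by rw [F.T.card_Y])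
    rw [ha] at hθ₅ ⊢
    rw [Finset.mem_singleton.1 hθ₅]
  have hxr : ¬ 5 ∣ orderOf E.x := by rw [E.x_order]; norm_num
  set M := F.T.X ∪ F.T.Y with hM
  have hfp := fun ψ (hψ : ψ ∈ F.T.X) => F.T.value_X ψ hψ E.f F.f_mem F.f_ne 1 (one_mem _)
    (by rw [orderOf_one]; norm_num)
  have haX : ∀ ψ ∈ F.T.X, iv ψ E.f = F.T.εX ψ := fun ψ hψ =>
    iv_eq (by have := hfp ψ hψ; rwa [mul_one] at this)
  have haY : iv θ₅ E.f = -F.T.ε := iv_eq (by
    have hv := F.T.value_Y E.f F.f_mem F.f_ne 1 (one_mem _) (by rw [orderOf_one]; norm_num)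
    rw [hY5] at hv
    simp only [mul_one, Finset.sum_singleton] at hv
    rw [hv]; push_cast; rfl)
  have habs : ∀ ψ ∈ M, iv ψ E.f = 1 ∨ iv ψ E.f = -1 := by
    intro ψ hψ
    rcases Finset.mem_union.1 hψ with h | h
    · rw [haX ψ h]; exact F.T.sign_X ψ h
    · rw [hY5, Finset.mem_singleton] at h
      rw [h, haY]; rcases F.T.sign with e | e <;> omega
  have hsum : ∑ ψ ∈ M, (iv ψ E.f : ℂ) * (ψ : G → ℂ) E.x = -1 := by
    have hr := F.T.relation θ₅ hθ₅ E.x hxr
    rw [hM, Finset.sum_union F.T.disjoint, hY5, Finset.sum_singleton, haY,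
      Finset.sum_congr rfl fun ψ hψ => by rw [haX ψ hψ]]
    push_cast
    linear_combination -hr
  have hone : ∀ ψ ∈ M, ψ ≠ oneChar G := fun ψ hψ e => by
    rcases Finset.mem_union.1 hψ with h | h
    · exact F.T.one_notMem_X (e ▸ h)
    · exact F.T.one_notMem_Y (e ▸ h)
  have hxX : ∀ ψ ∈ E.S.X, (ψ : G → ℂ) E.x = (E.S.εX ψ : ℂ) := fun ψ hψ => by
    have := E.S.value_X ψ hψ E.x E.x_mem E.x_ne 1 (one_mem _) (by rw [orderOf_one]; norm_num)
    rwa [mul_one] at this
  have hxY : (θ : G → ℂ) E.x + (θ' : G → ℂ) E.x = -(E.S.ε : ℂ) := by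
    have hv := E.S.value_Y E.x E.x_mem E.x_ne 1 (one_mem _) (by rw [orderOf_one]; norm_num)
    rw [hY] at hv
    simpa [Finset.sum_pair hne] using hv
  set n := (M.filter (fun ψ => ψ ∈ E.S.X)).card with hn
  have hsplit : (n : ℂ) + ∑ ψ ∈ M.filter (fun ψ => ψ ∈ E.S.Y), (iv ψ E.f : ℂ) * (ψ : G → ℂ) E.x = -1 := by
    rw [← hsum, ← Finset.sum_filter_add_sum_filter_not M (fun ψ => ψ ∈ E.S.X)]
    congr 1
    · rw [hn, Finset.sum_congr rfl (g := fun _ => (1 : ℂ)) (fun ψ hψ => by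
        obtain ⟨hψM, hψX⟩ := Finset.mem_filter.1 hψ
        have h1 : E.S.εX ψ * iv ψ E.f = 1 := by
          have := hX ψ hψX
          rcases E.S.sign_X ψ hψX with e | e <;> rcases habs ψ hψM with a | a <;> rw [e, a] at this ⊢ <;>
            first | rfl | simp at this
        rw [hxX ψ hψX, mul_comm]; exact_mod_cast h1), Finset.sum_const, nsmul_one]
    · refine Finset.sum_subset_zero_on_sdiff ?_ ?_ (fun ψ _ => rfl)
      · intro ψ hψ
        obtain ⟨hψM, hψY⟩ := Finset.mem_filter.1 hψ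
        exact Finset.mem_filter.2 ⟨hψM, fun hX' => Finset.disjoint_left.1 E.S.disjoint hX' hψY⟩
      · intro ψ hψ
        simp only [Finset.mem_sdiff, Finset.mem_filter, not_and] at hψ
        rw [E.S.outside E.cent_P ψ (hone ψ hψ.1.1) hψ.1.2 (hψ.2 hψ.1.1) E.x E.x_mem E.x_ne, mul_zero]
  set N := M.filter (fun ψ => ψ ∈ E.S.Y) with hN
  have hvY : ∀ ψ ∈ N, iv ψ E.f = -E.S.ε := by
    intro ψ hψ
    obtain ⟨hψM, hψY⟩ := Finset.mem_filter.1 hψ
    rw [hY] at hψY
    have h1 : iv ψ E.f = iv θ E.f := by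
      simp only [Finset.mem_insert, Finset.mem_singleton] at hψY
      rcases hψY with rfl | rfl
      · rfl
      · exact hvθ
    rcases habs ψ hψM with a | a <;> rcases E.S.sign with e | e <;> rw [h1] at a ⊢ <;>
      rw [e] at hεθ ⊢ <;> omega
  rw [Finset.sum_congr rfl fun ψ hψ => by rw [hvY ψ hψ], ← Finset.mul_sum] at hsplit
  have hεsq : (E.S.ε : ℂ) * E.S.ε = 1 := by rcases E.S.sign with e | e <;> simp [e]
  have hsub : N ⊆ {θ, θ'} := fun ψ hψ => hY ▸ (Finset.mem_filter.1 hψ).2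
  -- one exceptional character
  have main : ∀ α β : IrrCharacter G, (E.S.Y = {α, β}) → α ≠ β → N = {α} → False := by
    intro α β hY' hab hNa
    rw [hNa, Finset.sum_singleton] at hsplit
    have hs : (α : G → ℂ) E.x + (β : G → ℂ) E.x = -(E.S.ε : ℂ) := by
      have hv := E.S.value_Y E.x E.x_mem E.x_ne 1 (one_mem _) (by rw [orderOf_one]; norm_num)
      rw [hY'] at hv
      simpa [Finset.sum_pair hab] using hv
    have hα : (α : G → ℂ) E.x = ((E.S.ε * (n + 1) : ℤ) : ℂ) := by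
      push_cast at hsplit ⊢
      linear_combination -(E.S.ε : ℂ) * hsplit - (α : G → ℂ) E.x * hεsq
    have hβ : (β : G → ℂ) E.x = ((-E.S.ε * (n + 2) : ℤ) : ℂ) := by
      push_cast at hα ⊢
      linear_combination hs - hα
    have hall : ∀ χ : IrrCharacter G, (χ : G → ℂ) E.x = (iv χ E.x : ℂ) := by
      intro χ
      refine iv_spec ?_
      by_cases h1 : χ = oneChar G
      · exact ⟨1, by rw [h1]; show (1 : ℂ) = _; simp⟩
      by_cases h2 : χ ∈ E.S.X
      · exact ⟨_, hxX χ h2⟩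
      by_cases h3 : χ ∈ E.S.Y
      · rw [hY'] at h3
        simp only [Finset.mem_insert, Finset.mem_singleton] at h3
        rcases h3 with rfl | rfl
        · exact ⟨_, hα⟩
        · exact ⟨_, hβ⟩
      · exact ⟨0, by rw [E.S.outside E.cent_P χ h1 h2 h3 E.x E.x_mem E.x_ne]; simp⟩
    have hcol := sum_iv_sq hall
    rw [centralizer_of_order E.card_P E.x_order, E.cent_P,
      ← Finset.sum_subset (Finset.subset_univ ({oneChar G} ∪ E.S.X ∪ E.S.Y)) (fun χ _ hχ => by
        simp only [Finset.mem_union, Finset.mem_singleton, not_or] at hχ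
        rw [iv_eq (r := 0) (by rw [E.S.outside E.cent_P χ hχ.1.1 hχ.1.2 hχ.2 E.x E.x_mem E.x_ne]; simp)]
        ring),
      Finset.sum_union (Finset.disjoint_union_left.2
        ⟨Finset.disjoint_singleton_left.2 E.S.one_notMem_Y, E.S.disjoint⟩),
      Finset.sum_union (Finset.disjoint_singleton_left.2 E.S.one_notMem_X), Finset.sum_singleton,
      iv_oneChar, Finset.sum_congr rfl (s₁ := E.S.X) (g := fun _ => (1 : ℤ)) (fun χ hχ => by
        rw [iv_eq (hxX χ hχ)]; rcases E.S.sign_X χ hχ with e | e <;> simp [e]),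
      Finset.sum_const, show E.S.X.card = 4 by have := E.S.card_X; omega, hY', Finset.sum_pair hab,
      iv_eq hα, iv_eq hβ] at hcol
    have hn0 : (0 : ℤ) ≤ n := Int.natCast_nonneg _
    rcases E.S.sign with e | e <;> rw [e] at hcol <;> simp at hcol <;>
      rcases Nat.eq_zero_or_pos n with hn' | hn' <;>
      first
        | (rw [hn'] at hcol; norm_num at hcol)
        | (have hn1 : (1 : ℤ) ≤ n := (by exact_mod_cast hn'); nlinarith)
  by_cases h1 : θ ∈ N <;> by_cases h2 : θ' ∈ N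
  · have hNe : N = {θ, θ'} := Finset.Subset.antisymm hsub (by
      simp [Finset.insert_subset_iff, h1, h2])
    rw [hNe, Finset.sum_pair hne, hxY] at hsplit
    have hneg : ((n + 1 : ℤ) : ℂ) = ((-1 : ℤ) : ℂ) := by
      push_cast at hsplit ⊢
      linear_combination hsplit - hεsq
    have : (n : ℤ) + 1 = -1 := by exact_mod_cast hneg
    omega
  · exact main θ θ' hY hne (Finset.eq_singleton_iff_unique_mem.2 ⟨h1, fun ψ hψ => by
      have := hsub hψ
      simp only [Finset.mem_insert, Finset.mem_singleton] at this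
      rcases this with e | e
      · exact e
      · exact absurd (e ▸ hψ) h2⟩)
  · exact main θ' θ (by rw [hY, Finset.pair_comm]) hne.symm (Finset.eq_singleton_iff_unique_mem.2 ⟨h2, fun ψ hψ => by
      have := hsub hψ
      simp only [Finset.mem_insert, Finset.mem_singleton] at this
      rcases this with e | e
      · exact absurd (e ▸ hψ) h1
      · exact e⟩)
  · have hNe : N = ∅ := Finset.eq_empty_of_forall_notMem fun ψ hψ => by
      have := hsub hψ
      simp only [Finset.mem_insert, Finset.mem_singleton] at this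
      rcases this with e | e
      · exact h1 (e ▸ hψ)
      · exact h2 (e ▸ hψ)
    rw [hNe, Finset.sum_empty, mul_zero, add_zero] at hsplit
    have hneg : ((n : ℤ) : ℂ) = ((-1 : ℤ) : ℂ) := by push_cast; exact hsplit
    have : (n : ℤ) = -1 := by exact_mod_cast hneg
    omega

end CfsgLib.Char.MTwelveOrder
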