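import Cfsg.Agent.Lib.Char.MTwelveOrder.LinkVals

/-!
# Simple groups of order 95040: linking, the remaining case
-/

set_option autoImplicit false
set_option linter.all false

namespace CfsgLib.Char.MTwelveOrder

open CfsgLib.Perm.PrimeBlock

/-- The degree lists that can be linked in the remaining case. -/
def fiveListsA : List (List ℤ) :=
  fiveLists.filter fun l => (l ++ [1 + l.sum]).all fun s =>
    s.natAbs % 11 == 0 || [54, 144, 16].contains s.natAbs

/-- The possible orders of the centralizer of an involution centralizing the element of order five. -/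
def tenOrders : List ℕ := [10, 20, 30, 40, 60, 80, 90, 120, 160, 180, 240, 270, 320, 360, 480, 540, 720,
  960, 1080, 1440, 2160, 2880, 4320, 8640]

theorem tenOrders_spec : ∀ k < 865, 864 % k = 0 → 10 * k ∈ tenOrders := by decide +kernel

/-- The linking in the remaining case. -/
def linkedA (a : List (ℤ × ℤ)) (w : List ℤ) : Bool :=
  (members a).all (linked [(54, -(w.getD 1 0)), (144, w.getD 3 0), (16, 1 + w.sum)])

/-- The column condition in the remaining case. -/
def colA (d : ℕ) (a : List (ℤ × ℤ)) (w : List ℤ) : Bool :=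
  let T : ℤ := 1 + w.sum
  decide (1 + (w.map fun x => x * x).sum + 2 * (T * T) + outSq (members a) ≤ (d : ℤ))

/-- The conditions on the value of the exceptional character. -/
def excOK (a : List (ℤ × ℤ)) : Bool :=
  let T : ℤ := 1 + (a.map Prod.snd).sum
  let D : ℤ := 1 + (a.map Prod.fst).sum
  decide (T.natAbs < D.natAbs) && ((T - D) % 4 == 0) && ((T + 1) % 5 == 0)

/-- The signed values in the case that survives. -/
def valsA : List ℤ := [5, -6, 0, 4]

theorem link_A : ∀ l ∈ fiveListsA, ∀ a ∈ assignsCent 5 8641 l, excOK a = true →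
    ∀ w ∈ aVals, linkedA a w = true → ∀ d ∈ tenOrders, colA d a w = true → ∀ c ∈ [2, 12], sqGood c d a = true →
      (c = 2 ∧ d = 240 ∧ w = valsA) ∨ ((d = 2160 ∨ d = 2880) ∧ 1 + w.sum = -8) ∨ d = 4320 ∨ d = 8640 := by
  decide +kernel

end CfsgLib.Char.MTwelveOrder
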