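import Cfsg.Agent.Lib.Char.MTwelveOrder.LinkBase

/-!
# Simple groups of order 95040: linking, three characters of degree ten
-/

set_option autoImplicit false
set_option linter.all false

namespace CfsgLib.Char.MTwelveOrder

open CfsgLib.Perm.PrimeBlock

/-- The orders of the centralizer of a 2-central involution. -/
def centralOrders : List ℕ := [64, 192, 576, 1728]

theorem centralOrders_spec : ∀ k < 28, 27 % k = 0 → 64 * k ∈ centralOrders := by decide +kernel

theorem listTen_T : ∀ b ∈ assignsF valsAll listTen, zeroE b = true → 1 + (b.map Prod.snd).sum = 0 := by
  decide +kernel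

/-- The degree lists that can be linked in the case of three characters of degree ten. -/
def fiveListsTen : List (List ℤ) :=
  fiveLists.filter fun l => (l ++ [1 + l.sum]).all fun s => s.natAbs % 11 == 0 || s.natAbs == 16

theorem ten_none : ∀ l ∈ fiveListsTen, ∀ d ∈ centralOrders, ∀ a ∈ assigns d l,
    ((members a).all (linked [(16, 0)]) && sqGood 27 d a) = false := by
  decide +kernel

end CfsgLib.Char.MTwelveOrder
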