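import Cfsg.Agent.Lib.Char.MTwelveOrder.FourCases
import Cfsg.Agent.Lib.Char.MTwelveOrder.LinkA
import Cfsg.Agent.Lib.Char.MTwelveOrder.LinkTen

/-!
# Simple groups of order 95040: the involution centralizing the element of order five
-/

set_option autoImplicit false
set_option linter.all false
set_option maxHeartbeats 1000000

open Cfsg CfsgLib.Perm.PrimeBlock CfsgLib.Block Finset CfsgLib.Char.MEleven.Order

namespace CfsgLib.Char.MTwelveOrder

universe u

theorem mem_valsFor_mono {d d' : ℕ} {s S : ℤ} (h : S ∈ valsFor d s) (hd : d ≤ d') : S ∈ valsFor d' s := by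
  simp only [valsFor, List.mem_filter, Bool.and_eq_true, decide_eq_true_eq] at h ⊢
  exact ⟨h.1, lt_of_lt_of_le h.2.1 (by exact_mod_cast hd), h.2.2⟩

variable {G : Type u} [Group G] [Fintype G] [IsSimpleGroup G] {E : ElevenSetup G} {c : ℕ}

theorem ElevenSetup.eleven_ndvd (h : Nat.card G = 95040) {u : G} (hu : orderOf u = 2) :
    ¬ 11 ∣ Nat.card (Subgroup.centralizer ({u} : Set G)) := by
  intro hd
  haveI : Fact (Nat.Prime 11) := ⟨by norm_num⟩
  obtain ⟨E⟩ := exists_elevenSetup h
  obtain ⟨w, hw⟩ := exists_prime_orderOf_dvd_card' (G := Subgroup.centralizer ({u} : Set G)) 11 hd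
  have hwo : orderOf (w : G) = 11 := by rw [Subgroup.orderOf_coe, hw]
  have h2 : 2 ∣ Nat.card (Subgroup.centralizer ({(w : G)} : Set G)) := hu ▸
    Subgroup.orderOf_dvd_natCard _ (Subgroup.mem_centralizer_singleton_iff.2
      (Subgroup.mem_centralizer_singleton_iff.1 w.2).symm)
  rw [centralizer_of_order E.card_P hwo, E.cent_P] at h2
  norm_num at h2

variable (F : FiveSetup E 4 c)
include F

/-- The block for five at an involution: members, equation and the squares. -/
theorem FiveSetup.five_block (h : Nat.card G = 95040) :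
    ∃ X5 : List (IrrCharacter G), List.Perm X5 F.T.X.toList ∧ X5.map (sd F.T) ∈ fiveLists := by
  haveI : Fact (Nat.Prime 5) := ⟨by norm_num⟩
  obtain ⟨X5, hp5, hm5⟩ := exists_degList (noncomm h) F.T F.card_Q (m := 19008) (B := 309) (by rw [h])
    (by norm_num) (by norm_num) F.cent_Q F.not_five (by rw [h]; norm_num)
  rw [h] at hm5
  have hc : cands 95040 19008 5 c 309 = cands 95040 19008 5 2 309 := cands_two F.one_lt
  rw [hc] at hm5
  exact ⟨X5, hp5, hm5⟩

omit [IsSimpleGroup G] in
theorem FiveSetup.singleton_Y : ∃ θ₅ : IrrCharacter G, F.T.Y = {θ₅} :=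
  Finset.card_eq_one.1 (by rw [F.T.card_Y])

theorem FiveSetup.sq_test (h : Nat.card G = 95040) {u : G} (hu : orderOf u = 2)
    {X5 : List (IrrCharacter G)} (hp5 : List.Perm X5 F.T.X.toList) :
    let a := X5.map fun χ => (sd F.T χ, sv F.T u χ)
    let d := Nat.card (Subgroup.centralizer ({u} : Set G))
    a ∈ assigns d (X5.map (sd F.T)) ∧ sqGood c d a = true ∧
      (1 + (a.map Prod.snd).sum).natAbs < (1 + (a.map Prod.fst).sum).natAbs ∧
      ((1 + (a.map Prod.snd).sum) - (1 + (a.map Prod.fst).sum)) % 4 = 0 := by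
  classical
  haveI : Fact (Nat.Prime 5) := ⟨by norm_num⟩
  intro a d
  obtain ⟨hg, hass⟩ := good_assign (noncomm h) F.T F.hout (by norm_num) (by norm_num) (by norm_num)
    F.f_mem F.f_ne hu hp5
  obtain ⟨a₀, hk, -⟩ := F.pairs hu
  rw [hk, card_regCent F.Q F.card_Q F.cent_Q, h] at hg
  have hsq := exists_sq (by norm_num) F.Q F.card_Q F.cent_Q F.f_mem F.f_ne hu
  rw [hk] at hsq
  have hA : (inverters u E.f).card = 5 * a₀ := by nlinarith
  have hbound : 5 * a₀ * d ≤ 95040 := by
    have hle : (inverters u E.f).card ≤ (Subgroup.centralizer ({u} : Set G)).index := by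
      rw [← CfsgLib.Char.card_isConj, Nat.card_eq_fintype_card, Fintype.card_subtype]
      exact Finset.card_le_card fun w hw => by simpa using (mem_inverters.1 hw).1
    rw [hA] at hle
    calc 5 * a₀ * d ≤ (Subgroup.centralizer ({u} : Set G)).index * d := Nat.mul_le_mul_right _ hle
      _ = 95040 := by rw [Subgroup.index_mul_card, h]
  simp only [goodAssignK, Bool.and_eq_true, decide_eq_true_eq, beq_iff_eq] at hg
  obtain ⟨⟨⟨g1, g2⟩, g3⟩, g4⟩ := hg
  refine ⟨hass, ?_, g1, g2⟩
  have hd0 : 0 < d := Nat.card_pos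
  have hden0 : (fracSum a).2 * (1 + (a.map Prod.fst).sum) ≠ 0 := by
    refine mul_ne_zero (fun e => ?_) (fun e => ?_)
    · have := (fracSum_spec (sd F.T) (sv F.T u) X5 fun χ hχ =>
        sd_ne F.T (Finset.mem_toList.1 (hp5.mem_iff.1 hχ))).1
      exact this (by rw [show fracSum (X5.map fun χ => (sd F.T χ, sv F.T u χ)) = fracSum a from rfl, e]; simp)
    · rw [e] at g1; simp at g1
  simp only [sqGood, Bool.and_eq_true, beq_iff_eq, List.any_eq_true, List.mem_range]
  have hden : ((d : ℤ) * (d : ℤ) * ((fracSum a).2 * (1 + (a.map Prod.fst).sum))) ≠ 0 :=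
    mul_ne_zero (mul_ne_zero (by exact_mod_cast hd0.ne') (by exact_mod_cast hd0.ne')) hden0
  have hk5 : ((95040 * c : ℕ) : ℤ) * ((fracSum a).1 * (1 + (a.map Prod.fst).sum) -
      (1 + (a.map Prod.snd).sum) * (1 + (a.map Prod.snd).sum) * (fracSum a).2) =
      (5 * ((a₀ : ℤ) * a₀)) * ((d : ℤ) * (d : ℤ) * ((fracSum a).2 * (1 + (a.map Prod.fst).sum))) := by
    rw [g4]; push_cast; ring
  rw [hk5, Int.mul_emod_left, Int.mul_ediv_cancel _ hden]
  refine ⟨⟨rfl, Int.mul_emod_right _ _⟩, a₀, ?_, rfl⟩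
  rw [Nat.lt_succ_iff, Nat.le_div_iff_mul_le hd0]
  calc a₀ * d = 5 * a₀ * d / 5 := by rw [mul_assoc, Nat.mul_div_cancel_left _ (by norm_num)]
    _ ≤ 95040 / 5 := Nat.div_le_div_right hbound

/-- The members of the block for five with their values. -/
theorem FiveSetup.members_eq {u : G} (hu : orderOf u = 2) (hv : ∀ χ : IrrCharacter G, (χ : G → ℂ) u = (iv χ u : ℂ))
    {X5 : List (IrrCharacter G)} (hp5 : List.Perm X5 F.T.X.toList) :
    ∃ (L : List (IrrCharacter G)) (σ : IrrCharacter G → ℤ),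
      members (X5.map fun χ => (sd F.T χ, sv F.T u χ)) = L.map (fun ψ => (σ ψ * (dg ψ : ℤ), σ ψ * iv ψ u)) ∧
      L.Nodup ∧ (∀ ψ ∈ L, σ ψ = 1 ∨ σ ψ = -1) ∧ ∀ ψ, ψ ∈ L ↔ ψ ∈ F.T.X ∪ F.T.Y := by
  classical
  haveI : Fact (Nat.Prime 5) := ⟨by norm_num⟩
  obtain ⟨θ, hY⟩ := F.singleton_Y
  have hθ : θ ∈ F.T.Y := by rw [hY]; simp
  have hnX : θ ∉ F.T.X := fun h => Finset.disjoint_left.1 F.T.disjoint h hθ
  have hmem : ∀ ψ, ψ ∈ X5 ↔ ψ ∈ F.T.X := fun ψ => by rw [hp5.mem_iff, Finset.mem_toList]
  refine ⟨X5 ++ [θ], fun ψ => if ψ = θ then F.T.ε else F.T.εX ψ, ?_, ?_, ?_, ?_⟩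
  · have hr1 := rel_one F.T hθ
    have hru := rel_val F.T hθ (g := u) (by rw [hu]; norm_num) hv
    have e1 : ((X5.map fun χ => (sd F.T χ, sv F.T u χ)).map Prod.fst).sum = ∑ χ ∈ F.T.X, sd F.T χ := by
      rw [List.map_map]; simp only [Function.comp_def]
      rw [(hp5.map _).sum_eq, Finset.sum_map_toList]
    have e2 : ((X5.map fun χ => (sd F.T χ, sv F.T u χ)).map Prod.snd).sum = ∑ χ ∈ F.T.X, sv F.T u χ := by
      rw [List.map_map]; simp only [Function.comp_def]
      rw [(hp5.map _).sum_eq, Finset.sum_map_toList]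
    simp only [members, e1, e2, ← hr1, ← hru, List.map_append, List.map_cons, List.map_nil, if_pos,
      show dg θ = F.T.D from F.T.degree_Y θ hθ]
    congr 1
    refine List.map_congr_left fun ψ hψ => ?_
    rw [if_neg (fun e : ψ = θ => hnX (e ▸ (hmem ψ).1 hψ))]
    rfl
  · exact List.nodup_append.2 ⟨hp5.nodup_iff.2 F.T.X.nodup_toList, by simp, by
      intro a ha b hb
      simp only [List.mem_singleton] at hb
      rintro rfl
      exact hnX (hb ▸ (hmem a).1 ha)⟩
  · intro ψ hψ
    dsimp only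
    split_ifs with e
    · exact F.T.sign
    · refine F.T.sign_X ψ ((hmem ψ).1 ?_)
      simpa [e] using hψ
  · intro ψ
    simp [hY, hmem, or_comm]

/-- The case of three characters of degree ten does not occur. -/
theorem FiveSetup.not_ten (h : Nat.card G = 95040) {X' : List (IrrCharacter G)}
    (hp : List.Perm X' E.S.X.toList) (hl : X'.map (sd E.S) = listTen) (hc : c = 27) : False := by
  classical
  subst hc
  haveI : Fact (Nat.Prime 5) := ⟨by norm_num⟩
  haveI : Fact (Nat.Prime 11) := ⟨by norm_num⟩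
  have hG := noncomm h
  obtain ⟨u, hu, h64⟩ := exists_two_central h
  have hv := fun χ => val_invol hG χ hu
  obtain ⟨X5, hp5, hl5⟩ := F.five_block h
  obtain ⟨hass, hsqg, -, -⟩ := F.sq_test h hu hp5
  obtain ⟨L, σ, hmem, -, hσ, hL⟩ := F.members_eq hu hv hp5
  obtain ⟨hz, hvals⟩ := E.zero_eq h hu hp
  obtain ⟨θ, hθ⟩ := nonempty_Y E.S (by norm_num) (by norm_num)
  have hr1 := rel_one E.S hθ
  have hru := rel_val E.S hθ (g := u) (by rw [hu]; norm_num) hv
  rw [← Finset.sum_map_toList, ← (hp.map _).sum_eq] at hr1 hru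
  have hT : 1 + (X'.map (sv E.S u)).sum = 0 := by
    have hass' : X'.map (fun χ => (sd E.S χ, sv E.S u χ)) ∈ assignsF valsAll listTen := by
      rw [← hl]
      exact mem_assignsF _ (sd E.S) (sv E.S u) X' fun χ hχ => mem_valsAll
        (by
          have hm : sd E.S χ ∈ listTen := hl ▸ List.mem_map_of_mem hχ
          simp only [listTen, List.mem_cons, List.not_mem_nil, or_false] at hm
          omega) (hvals χ hχ)
    have := listTen_T _ hass' hz
    rwa [List.map_map] at this
  rw [hT] at hru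
  rw [hl] at hr1
  norm_num [listTen] at hr1
  have hεD : E.S.ε = 1 ∧ E.S.D = 16 := by rcases E.S.sign with e | e <;> rw [e] at hr1 ⊢ <;> omega
  have hlink : ∀ ψ ∈ L, dg ψ % 11 = 0 ∨ (dg ψ = 16 ∧ iv ψ u = 0) := by
    intro ψ hψ
    have hψ5 := (hL ψ).1 hψ
    by_cases h11 : 11 ∣ dg ψ
    · exact Or.inl (Nat.mod_eq_zero_of_dvd h11)
    refine Or.inr ?_
    have hne : ψ ≠ oneChar G := fun e => by
      rcases Finset.mem_union.1 hψ5 with hm | hm
      · exact F.T.one_notMem_X (e ▸ hm)
      · exact F.T.one_notMem_Y (e ▸ hm)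
    have h5 := (five_prime (e := 4) (by norm_num) (by norm_num) F.T hψ5).1
    by_cases hX : ψ ∈ E.S.X
    · exfalso
      have hm : sd E.S ψ ∈ listTen := hl ▸ List.mem_map_of_mem (hp.mem_iff.2 (Finset.mem_toList.2 hX))
      have habs := natAbs_sd E.S hX
      simp only [listTen, List.mem_cons, List.not_mem_nil, or_false] at hm
      apply h5
      rw [← habs]
      rcases hm with e | e | e | e <;> rw [e] <;> norm_num
    by_cases hY : ψ ∈ E.S.Y
    · refine ⟨(E.S.degree_Y ψ hY).trans hεD.2, ?_⟩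
      have := iv_Y E.S hY hθ (by rw [hu]; norm_num) hv
      rw [hεD.1, one_mul] at hru
      omega
    · exact absurd (dvd_dg_outside E.S E.card_P E.cent_P ψ hne hX hY) h11
  set d := Nat.card (Subgroup.centralizer ({u} : Set G)) with hd
  have hd1728 : d ∈ centralOrders := by
    have h11 := ElevenSetup.eleven_ndvd h hu
    have h5 : ¬ 5 ∣ d := by
      intro hd5
      haveI : Fact (Nat.Prime 2) := ⟨Nat.prime_two⟩
      obtain ⟨w, hw⟩ := exists_prime_orderOf_dvd_card' (G := Subgroup.centralizer ({u} : Set G)) 5 hd5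
      have hwo : orderOf (w : G) = 5 := by rw [Subgroup.orderOf_coe, hw]
      have h2 : 2 ∣ Nat.card (Subgroup.centralizer ({(w : G)} : Set G)) := hu ▸
        Subgroup.orderOf_dvd_natCard _ (Subgroup.mem_centralizer_singleton_iff.2
          (Subgroup.mem_centralizer_singleton_iff.1 w.2).symm)
      rw [centralizer_of_order F.card_Q hwo, F.cent_Q] at h2
      norm_num at h2
    obtain ⟨j, hj⟩ := h64
    have hdvd : d ∣ 95040 := h ▸ Subgroup.card_subgroup_dvd_card _
    have hcop : Nat.Coprime d 55 := Nat.Coprime.mul_right (m := 5) (n := 11)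
      ((Nat.Prime.coprime_iff_not_dvd (by norm_num)).2 h5).symm
      ((Nat.Prime.coprime_iff_not_dvd (by norm_num)).2 h11).symm
    have h1728 : d ∣ 1728 := hcop.dvd_of_dvd_mul_right (by norm_num; exact hdvd)
    have hj27 : j ∣ 27 := by
      rw [hj] at h1728
      exact Nat.dvd_of_mul_dvd_mul_left (by norm_num : 0 < 64) (by norm_num; exact h1728)
    rw [hj]
    exact centralOrders_spec j (by have := Nat.le_of_dvd (by norm_num) hj27; omega) (Nat.mod_eq_zero_of_dvd hj27)
  have hall : (members (X5.map fun χ => (sd F.T χ, sv F.T u χ))).all (linked [(16, 0)]) = true := by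
    rw [hmem, List.all_eq_true]
    intro m hm
    obtain ⟨ψ, hψ, rfl⟩ := List.mem_map.1 hm
    have hn : (σ ψ * (dg ψ : ℤ)).natAbs = dg ψ := by rcases hσ ψ hψ with e | e <;> simp [e]
    simp only [linked, List.any_cons, List.any_nil, Bool.or_false, Bool.or_eq_true, Bool.and_eq_true,
      beq_iff_eq, hn]
    rcases hlink ψ hψ with e | ⟨e1, e2⟩
    · exact Or.inl e
    · exact Or.inr ⟨e1, by rw [e2]; ring⟩
  have hl5' : X5.map (sd F.T) ∈ fiveListsTen := by
    simp only [fiveListsTen, List.mem_filter, hl5, true_and, List.all_eq_true, Bool.or_eq_true, beq_iff_eq]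
    have hfst : (members (X5.map fun χ => (sd F.T χ, sv F.T u χ))).map Prod.fst =
        X5.map (sd F.T) ++ [1 + (X5.map (sd F.T)).sum] := by
      simp [members, List.map_map, Function.comp_def]
    rw [← hfst]
    intro s hs
    obtain ⟨m, hm, rfl⟩ := List.mem_map.1 hs
    have := List.all_eq_true.1 hall m hm
    simp only [linked, List.any_cons, List.any_nil, Bool.or_false, Bool.or_eq_true, Bool.and_eq_true,
      beq_iff_eq] at this
    rcases this with e | ⟨e, -⟩
    · exact Or.inl e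
    · exact Or.inr e
  have := ten_none _ hl5' d hd1728 _ hass
  rw [hall, hsqg] at this
  exact Bool.noConfusion this

/-- The conclusion for an involution centralizing the element of order five. -/
theorem FiveSetup.y_cases (h : Nat.card G = 95040) {X' : List (IrrCharacter G)}
    (hp : List.Perm X' E.S.X.toList) (hl : X'.map (sd E.S) = listA) (hc : c = 2 ∨ c = 12)
    {y : G} (hy : orderOf y = 2) (hyC : y ∈ Subgroup.centralizer ((F.Q : Subgroup G) : Set G)) :
    let d := Nat.card (Subgroup.centralizer ({y} : Set G))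
    (c = 2 ∧ d = 240 ∧ X'.map (sv E.S y) = valsA) ∨
      ((d = 2160 ∨ d = 2880) ∧ 1 + (X'.map (sv E.S y)).sum = -8) ∨ d = 4320 ∨ d = 8640 := by
  classical
  intro d
  haveI : Fact (Nat.Prime 5) := ⟨by norm_num⟩
  haveI : Fact (Nat.Prime 11) := ⟨by norm_num⟩
  have hG := noncomm h
  have hv := fun χ => val_invol hG χ hy
  have hyc : Commute E.f y := Subgroup.mem_centralizer_iff.1 hyC E.f F.f_mem
  obtain ⟨X5, hp5, hl5⟩ := F.five_block h
  obtain ⟨hass, hsqg, htlt, ht4⟩ := F.sq_test h hy hp5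
  obtain ⟨L, σ, hmem, hnd, hσ, hL⟩ := F.members_eq hy hv hp5
  obtain ⟨θ, hθ⟩ := nonempty_Y E.S (by norm_num) (by norm_num)
  have hr1 := rel_one E.S hθ
  have hru := rel_val E.S hθ (g := y) (by rw [hy]; norm_num) hv
  rw [← Finset.sum_map_toList, ← (hp.map _).sum_eq] at hr1 hru
  rw [hl] at hr1
  norm_num [listA] at hr1
  have hεD : E.S.ε = 1 ∧ E.S.D = 16 := by rcases E.S.sign with e | e <;> rw [e] at hr1 ⊢ <;> omega
  rw [hεD.1, one_mul] at hru
  set w := X'.map (sv E.S y) with hw
  -- the possible orders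
  have hdmem : d ∈ tenOrders := by
    have h11 := ElevenSetup.eleven_ndvd h hy
    have hdvd : d ∣ 95040 := h ▸ Subgroup.card_subgroup_dvd_card _
    have h8640 : d ∣ 8640 := ((Nat.Prime.coprime_iff_not_dvd (by norm_num)).2 h11).symm.dvd_of_dvd_mul_right
      (m := 8640) (show d ∣ 8640 * 11 by exact hdvd)
    have h10 : 10 ∣ d := by
      refine Nat.Coprime.mul_dvd_of_dvd_of_dvd (m := 5) (n := 2) (by norm_num) ?_ ?_
      · exact E.f_order ▸ Subgroup.orderOf_dvd_natCard _ (Subgroup.mem_centralizer_singleton_iff.2 hyc.eq)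
      · exact hy ▸ Subgroup.orderOf_dvd_natCard _ (Subgroup.mem_centralizer_singleton_iff.2 rfl)
    obtain ⟨k, hk⟩ := h10
    rw [hk] at h8640 ⊢
    have hk864 : k ∣ 864 := Nat.dvd_of_mul_dvd_mul_left (by norm_num : 0 < 10) (by norm_num; exact h8640)
    exact tenOrders_spec k (by have := Nat.le_of_dvd (by norm_num) hk864; omega) (Nat.mod_eq_zero_of_dvd hk864)
  have hd8640 : d ≤ 8640 := (by decide : ∀ x ∈ tenOrders, x ≤ 8640) d hdmem
  -- the values in the block for eleven
  obtain ⟨hev, hz⟩ := F.even_vals h hy hyc hp (by rw [hl]; decide +kernel)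
  obtain ⟨-, hvals⟩ := E.zero_eq h hy hp
  have hsumY : ∀ ψ ∈ E.S.Y, iv ψ y = 1 + w.sum := fun ψ hψ => by
    have := iv_Y E.S hψ hθ (by rw [hy]; norm_num) hv
    omega
  have hY2 : E.S.Y.card = 2 := by rw [E.S.card_Y]
  set W := (F.T.X ∪ F.T.Y).filter (fun ψ => dg ψ % 11 = 0) with hWdef
  have hdisj : ∀ ψ ∈ W, ψ ≠ oneChar G ∧ ψ ∉ E.S.X ∧ ψ ∉ E.S.Y := by
    intro ψ hψ
    obtain ⟨-, h0⟩ := Finset.mem_filter.1 hψ
    refine ⟨fun e => ?_, fun hX => ?_, fun hY => ?_⟩
    · rw [e, dg_one] at h0; norm_num at h0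
    · have hm : sd E.S ψ ∈ listA := hl ▸ List.mem_map_of_mem (hp.mem_iff.2 (Finset.mem_toList.2 hX))
      have habs := natAbs_sd E.S hX
      simp only [listA, List.mem_cons, List.not_mem_nil, or_false] at hm
      omega
    · rw [show dg ψ = E.S.D from E.S.degree_Y ψ hY, hεD.2] at h0; norm_num at h0
  have hwsq : (w.map fun x => x * x).sum = ∑ χ ∈ E.S.X, iv χ y * iv χ y := by
    rw [hw, List.map_map]; simp only [Function.comp_def]
    rw [(hp.map _).sum_eq, Finset.sum_map_toList]
    exact Finset.sum_congr rfl fun χ hχ => by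
      simp only [sv]; rcases E.S.sign_X χ hχ with e | e <;> rw [e] <;> ring
  have hout : outSq (members (X5.map fun χ => (sd F.T χ, sv F.T y χ))) = ∑ ψ ∈ W, iv ψ y * iv ψ y := by
    have hfs : L.toFinset = F.T.X ∪ F.T.Y := Finset.ext fun ψ => by rw [List.mem_toFinset, hL]
    have hfilt : (L.toFinset).filter (fun ψ => dg ψ % 11 = 0) =
        (L.filter (fun ψ => decide (dg ψ % 11 = 0))).toFinset := Finset.ext fun ψ => by simp
    rw [hWdef, ← hfs, hfilt, List.sum_toFinset _ (hnd.filter _), outSq, hmem,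
      List.filter_map, List.map_map]
    refine congrArg List.sum ?_
    rw [List.filter_congr (q := fun ψ => decide (dg ψ % 11 = 0)) (fun ψ hψ => by
      have hn : (σ ψ * (dg ψ : ℤ)).natAbs = dg ψ := by rcases hσ ψ hψ with e | e <;> simp [e]
      simp only [Function.comp_apply, hn]
      exact (Bool.eq_iff_iff.2 (by simp)))]
    refine List.map_congr_left fun ψ hψ => ?_
    simp only [Function.comp_apply]
    rcases hσ ψ (List.mem_filter.1 hψ).1 with e | e <;> rw [e] <;> ring
  have hcol : 1 + (w.map fun x => x * x).sum + 2 * ((1 + w.sum) * (1 + w.sum)) +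
      outSq (members (X5.map fun χ => (sd F.T χ, sv F.T y χ))) ≤ (d : ℤ) := by
    have hle := sum_iv_sq_le ({oneChar G} ∪ E.S.X ∪ E.S.Y ∪ W) (g := y) (fun χ _ => hv χ)
    rw [Finset.sum_union (Finset.disjoint_left.2 fun ψ hψ hψW => by
        obtain ⟨a, b, c⟩ := hdisj ψ hψW
        simp only [Finset.mem_union, Finset.mem_singleton] at hψ
        tauto),
      Finset.sum_union (Finset.disjoint_union_left.2
        ⟨Finset.disjoint_singleton_left.2 E.S.one_notMem_Y, E.S.disjoint⟩),
      Finset.sum_union (Finset.disjoint_singleton_left.2 E.S.one_notMem_X), Finset.sum_singleton,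
      iv_oneChar, Finset.sum_congr rfl (s₁ := E.S.Y) (fun ψ hψ => by rw [hsumY ψ hψ]),
      Finset.sum_const, hY2, nsmul_eq_mul, ← hwsq, ← hout] at hle
    push_cast at hle
    linarith
  have houtnn : 0 ≤ outSq (members (X5.map fun χ => (sd F.T χ, sv F.T y χ))) := by
    rw [hout]; exact Finset.sum_nonneg fun _ _ => mul_self_nonneg _
  have hq : 1 + (w.map fun x => x * x).sum + 2 * ((1 + w.sum) * (1 + w.sum)) ≤ 8640 := by
    have : (d : ℤ) ≤ 8640 := by exact_mod_cast hd8640
    linarith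
  have hwA : w ∈ aVals := by
    have hA : X'.map (fun χ => (sd E.S χ, sv E.S y χ)) ∈ assignsF evenA listA := by
      rw [← hl]
      refine mem_assignsF _ (sd E.S) (sv E.S y) X' fun χ hχ => ?_
      simp only [evenA, List.mem_filter, decide_eq_true_eq]
      have hm : ∀ q ∈ X'.map (fun χ => (sd E.S χ, sv E.S y χ)), q.2 ∈ evenOpts q.1 := by
        have hgen : ∀ (l : List ℤ) (b : List (ℤ × ℤ)), b ∈ assignsF evenOpts l → ∀ q ∈ b, q.2 ∈ evenOpts q.1 := by
          intro l
          induction l with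
          | nil => intro b hb q hq; simp [assignsF] at hb; subst hb; simp at hq
          | cons s r ih =>
            intro b hb q hq
            simp only [assignsF, List.mem_flatMap, List.mem_map] at hb
            obtain ⟨S', hS', b', hb', rfl⟩ := hb
            rcases List.mem_cons.1 hq with rfl | hq
            · exact hS'
            · exact ih b' hb' q hq
        exact hgen _ _ hev
      refine ⟨hm _ (List.mem_map_of_mem (f := fun χ => (sd E.S χ, sv E.S y χ)) hχ), ?_⟩
      have hnn : ∀ x ∈ w.map (fun x => x * x), (0 : ℤ) ≤ x := fun x hx => by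
        obtain ⟨v, -, rfl⟩ := List.mem_map.1 hx; exact mul_self_nonneg v
      have hle := List.single_le_sum hnn (sv E.S y χ * sv E.S y χ)
        (List.mem_map_of_mem (f := fun x => x * x) (hw ▸ List.mem_map_of_mem hχ))
      nlinarith [mul_self_nonneg (1 + w.sum)]
    have hs : (X'.map fun χ => (sd E.S χ, sv E.S y χ)).map Prod.snd = w := by
      rw [hw, List.map_map]; rfl
    have hs2 : ((X'.map fun χ => (sd E.S χ, sv E.S y χ)).map fun x => x.2 * x.2) = w.map fun x => x * x := by
      rw [hw, List.map_map, List.map_map]; rfl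
    have hres := aVals_spec _ hA hz (by rw [hs, hs2]; exact hq)
    rwa [hs] at hres
  -- the linking
  have hraw : ∀ ψ ∈ L, dg ψ % 11 = 0 ∨ (dg ψ = 54 ∧ iv ψ y = -(w.getD 1 0)) ∨
      (dg ψ = 144 ∧ iv ψ y = w.getD 3 0) ∨ (dg ψ = 16 ∧ iv ψ y = 1 + w.sum) := by
    intro ψ hψ
    have hψ5 := (hL ψ).1 hψ
    by_cases h11 : 11 ∣ dg ψ
    · exact Or.inl (Nat.mod_eq_zero_of_dvd h11)
    refine Or.inr ?_
    have hne : ψ ≠ oneChar G := fun e => by
      rcases Finset.mem_union.1 hψ5 with hm | hm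
      · exact F.T.one_notMem_X (e ▸ hm)
      · exact F.T.one_notMem_Y (e ▸ hm)
    have h5 := (five_prime (e := 4) (by norm_num) (by norm_num) F.T hψ5).1
    by_cases hX : ψ ∈ E.S.X
    · obtain ⟨a, b, c', d', rfl⟩ : ∃ a b c' d', X' = [a, b, c', d'] := by
        have hlen := congrArg List.length hl
        simp only [List.length_map, listA, List.length_cons, List.length_nil] at hlen
        exact ⟨X'[0], X'[1], X'[2], X'[3], List.ext_getElem (by simp [hlen]) fun i h1 h2 => by
          simp only [List.length_cons, List.length_nil] at h2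
          interval_cases i <;> rfl⟩
      simp only [List.map_cons, List.map_nil, listA, List.cons.injEq, and_true] at hl
      have hmemψ : ψ ∈ [a, b, c', d'] := hp.mem_iff.2 (Finset.mem_toList.2 hX)
      simp only [List.mem_cons, List.not_mem_nil, or_false] at hmemψ
      have habs := natAbs_sd E.S hX
      have hs := E.S.sign_X ψ hX
      simp only [hw, List.map_cons, List.map_nil, List.getD_cons_succ, List.getD_cons_zero]
      rcases hmemψ with rfl | rfl | rfl | rfl
      · exfalso; apply h5; rw [← habs, hl.1]; norm_num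
      · refine Or.inl ⟨by rw [← habs, hl.2.1]; rfl, ?_⟩
        have := hl.2.1
        simp only [sd, sv] at this ⊢
        rcases hs with e | e <;> rw [e] at this ⊢ <;> omega
      · exfalso; apply h5; rw [← habs, hl.2.2.1]; norm_num
      · refine Or.inr (Or.inl ⟨by rw [← habs, hl.2.2.2]; rfl, ?_⟩)
        have := hl.2.2.2
        simp only [sd, sv] at this ⊢
        rcases hs with e | e <;> rw [e] at this ⊢ <;> omega
    by_cases hY : ψ ∈ E.S.Y
    · exact Or.inr (Or.inr ⟨(E.S.degree_Y ψ hY).trans hεD.2, hsumY ψ hY⟩)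
    · exact absurd (dvd_dg_outside E.S E.card_P E.cent_P ψ hne hX hY) h11
  set a := X5.map fun χ => (sd F.T χ, sv F.T y χ) with ha
  have hlinked : linkedA a w = true := by
    rw [linkedA, hmem, List.all_eq_true]
    intro m hm
    obtain ⟨ψ, hψ, rfl⟩ := List.mem_map.1 hm
    have hn : (σ ψ * (dg ψ : ℤ)).natAbs = dg ψ := by rcases hσ ψ hψ with e | e <;> simp [e]
    have hval : sgnZ (σ ψ * (dg ψ : ℤ)) * (σ ψ * iv ψ y) = iv ψ y := by
      rw [sgnZ_mul (by exact_mod_cast dg_pos ψ) (hσ ψ hψ) rfl]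
      rcases hσ ψ hψ with e | e <;> rw [e] <;> ring
    simp only [linked, List.any_cons, List.any_nil, Bool.or_false, Bool.or_eq_true, Bool.and_eq_true,
      beq_iff_eq, hn, hval]
    exact hraw ψ hψ
  have hl5' : X5.map (sd F.T) ∈ fiveListsA := by
    have hlk := hlinked
    rw [linkedA, List.all_eq_true] at hlk
    simp only [fiveListsA, List.mem_filter, hl5, true_and, List.all_eq_true, Bool.or_eq_true, beq_iff_eq,
      List.contains_iff_mem]
    have hfst : (members a).map Prod.fst = X5.map (sd F.T) ++ [1 + (X5.map (sd F.T)).sum] := by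
      simp [members, ha, List.map_map, Function.comp_def]
    rw [← hfst]
    intro s hs
    obtain ⟨m, hm, rfl⟩ := List.mem_map.1 hs
    have := hlk m hm
    simp only [linked, List.any_cons, List.any_nil, Bool.or_false, Bool.or_eq_true, Bool.and_eq_true,
      beq_iff_eq] at this
    simp only [List.mem_cons, List.not_mem_nil, or_false]
    rcases this with e | ⟨e, -⟩ | ⟨e, -⟩ | ⟨e, -⟩ <;> omega
  have hassC : a ∈ assignsCent 5 8641 (X5.map (sd F.T)) := by
    refine mem_assignsCent (sd F.T) (sv F.T y) 5 8641 X5 fun χ hχ => ?_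
    have hv5 : ∀ (l : List ℤ) (b : List (ℤ × ℤ)), b ∈ assigns d l → ∀ q ∈ b, q.2 ∈ valsFor d q.1 := by
      intro l
      induction l with
      | nil => intro b hb q hq; simp [assigns] at hb; subst hb; simp at hq
      | cons s r ih =>
        intro b hb q hq
        simp only [assigns, List.mem_flatMap, List.mem_map] at hb
        obtain ⟨S', hS', b', hb', rfl⟩ := hb
        rcases List.mem_cons.1 hq with rfl | hq
        · exact hS'
        · exact ih b' hb' q hq
    have h1 := hv5 _ _ hass (sd F.T χ, sv F.T y χ) (List.mem_map_of_mem hχ)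
    simp only [valsCent, List.mem_filter, beq_iff_eq]
    refine ⟨mem_valsFor_mono h1 (by omega), ?_⟩
    have hχX : χ ∈ F.T.X := Finset.mem_toList.1 (hp5.mem_iff.1 hχ)
    have hpow : ∀ j : ℕ, ¬ 5 ∣ j → E.f ^ j ∈ (F.Q : Subgroup G) ∧ E.f ^ j ≠ 1 := fun j hj =>
      ⟨pow_mem F.f_mem j, fun hh => hj (E.f_order ▸ orderOf_dvd_of_pow_eq_one hh)⟩
    have := dvd_value_sub (CfsgLib.Char.isCharacter_irr χ) (by norm_num : Nat.Prime 5) (by norm_num)
      E.f_order hy hyc (c := F.T.εX χ) (r := iv χ y)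
      (fun j hj => F.T.value_X χ hχX _ (hpow j hj).1 (hpow j hj).2 y hyC (by rw [hy]; norm_num)) (hv χ)
    simp only [sv]
    rcases F.T.sign_X χ hχX with e | e <;> rw [e] at this ⊢ <;> omega
  have hexc : excOK a = true := by
    simp only [excOK, Bool.and_eq_true, decide_eq_true_eq, beq_iff_eq]
    refine ⟨⟨htlt, ht4⟩, ?_⟩
    obtain ⟨θ₅, hY5⟩ := F.singleton_Y
    have hθ5 : θ₅ ∈ F.T.Y := by rw [hY5]; simp
    have hru5 := rel_val F.T hθ5 (g := y) (by rw [hy]; norm_num) hv
    have e2 : (a.map Prod.snd).sum = ∑ χ ∈ F.T.X, sv F.T y χ := by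
      rw [ha, List.map_map]; simp only [Function.comp_def]
      rw [(hp5.map _).sum_eq, Finset.sum_map_toList]
    rw [e2, ← hru5]
    have hpow : ∀ j : ℕ, ¬ 5 ∣ j → E.f ^ j ∈ (F.Q : Subgroup G) ∧ E.f ^ j ≠ 1 := fun j hj =>
      ⟨pow_mem F.f_mem j, fun hh => hj (E.f_order ▸ orderOf_dvd_of_pow_eq_one hh)⟩
    have := dvd_value_sub (CfsgLib.Char.isCharacter_irr θ₅) (by norm_num : Nat.Prime 5) (by norm_num)
      E.f_order hy hyc (c := -F.T.ε) (r := iv θ₅ y)
      (fun j hj => by
        have hh := F.T.value_Y _ (hpow j hj).1 (hpow j hj).2 y hyC (by rw [hy]; norm_num)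
        rw [hY5, Finset.sum_singleton] at hh
        rw [hh]; push_cast; rfl) (hv θ₅)
    rcases F.T.sign with e | e <;> rw [e] at this ⊢ <;> omega
  have hcol' : colA d a w = true := by
    simp only [colA, decide_eq_true_eq]; exact hcol
  exact link_A _ hl5' a hassC hexc w hwA hlinked d hdmem hcol' c
    (by rcases hc with rfl | rfl <;> simp) hsqg

end CfsgLib.Char.MTwelveOrder
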