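import Cfsg.Agent.Lib.Char.MTwelveOrder.FourTest
import Cfsg.Agent.Lib.Perm.Small.CentralizerTest

/-!
# Simple groups of order 95040: linking the blocks of the primes five and eleven
-/

set_option autoImplicit false
set_option linter.all false

namespace CfsgLib.Char.MTwelveOrder

open CfsgLib.Perm.PrimeBlock

/-- The degree lists for the prime five. -/
def fiveLists : List (List ℤ) :=
  (combos (cands 95040 19008 5 2 309) (4 - 1)).filter fun l =>
    okAbs 95040 19008 (1 + l.sum).natAbs && ((1 + l.sum) % ((5 : ℕ) : ℤ) == ((4 : ℕ) : ℤ) % ((5 : ℕ) : ℤ))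

/-- The members of the block for five, with the exceptional one last. -/
def members (a : List (ℤ × ℤ)) : List (ℤ × ℤ) :=
  a ++ [(1 + (a.map Prod.fst).sum, 1 + (a.map Prod.snd).sum)]

/-- The equation has a solution with five times a square. -/
def sqGood (c d : ℕ) (a : List (ℤ × ℤ)) : Bool :=
  let T : ℤ := 1 + (a.map Prod.snd).sum
  let D : ℤ := 1 + (a.map Prod.fst).sum
  let num : ℤ := ((95040 * c : ℕ) : ℤ) * ((fracSum a).1 * D - T * T * (fracSum a).2)
  let den : ℤ := (d : ℤ) * (d : ℤ) * ((fracSum a).2 * D)
  (num % den == 0) && ((num / den) % 5 == 0) &&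
    (List.range (19008 / d + 1)).any fun a₀ => num / den == 5 * ((a₀ : ℤ) * (a₀ : ℤ))

/-- A member of degree divisible by eleven, or one with a prescribed value. -/
def linked (allowed : List (ℕ × ℤ)) (m : ℤ × ℤ) : Bool :=
  (m.1.natAbs % 11 == 0) || allowed.any fun q => m.1.natAbs == q.1 && sgnZ m.1 * m.2 == q.2

/-- The squares of the values of members of degree divisible by eleven. -/
def outSq (l : List (ℤ × ℤ)) : ℤ :=
  ((l.filter fun m => m.1.natAbs % 11 == 0).map fun m => m.2 * m.2).sum

end CfsgLib.Char.MTwelveOrder
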