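import Cfsg.Agent.Lib.Char.MTwelveOrder.LinkBase

/-!
# Simple groups of order 95040: linking, the values at a centralizing involution
-/

set_option autoImplicit false
set_option linter.all false

namespace CfsgLib.Char.MTwelveOrder

open CfsgLib.Perm.PrimeBlock

/-- The solutions in the remaining case. -/
def aVals : List (List ℤ) :=
  [[5, -6, 0, 4], [5, -6, 0, -4], [5, -6, 40, -44], [5, -6, -40, 44], [5, 18, 0, -28], [5, 18, 40, -56],
    [5, -30, -40, 64], [-15, 6, 40, -36], [-15, -18, 0, 24], [-15, 30, 40, -60], [25, 6, -40, 4],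
    [25, -18, 0, 4], [25, -18, -40, 28], [25, -18, -40, 44], [-35, -30, 40, 20], [-35, 42, 40, -52],
    [-35, 42, 40, -56]]

/-- The options for the remaining case at a centralizing involution. -/
def evenA (s : ℤ) : List ℤ := (evenOpts s).filter fun S => decide (S * S ≤ 8640)

theorem aVals_spec' : ∀ S₀ ∈ evenA 45, ∀ S₁ ∈ evenA (-54), ∀ S₂ ∈ evenA (-120), ∀ S₃ ∈ evenA 144,
    zeroE [(45, S₀), (-54, S₁), (-120, S₂), (144, S₃)] = true →
      1 + (S₀ * S₀ + (S₁ * S₁ + (S₂ * S₂ + S₃ * S₃))) +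
        2 * ((1 + (S₀ + (S₁ + (S₂ + S₃)))) * (1 + (S₀ + (S₁ + (S₂ + S₃))))) ≤ 8640 →
      [S₀, S₁, S₂, S₃] ∈ aVals := by
  decide +kernel

theorem aVals_spec (b : List (ℤ × ℤ)) (hb : b ∈ assignsF evenA listA) (hz : zeroE b = true)
    (hq : 1 + (b.map fun x => x.2 * x.2).sum +
      2 * ((1 + (b.map Prod.snd).sum) * (1 + (b.map Prod.snd).sum)) ≤ 8640) :
    b.map Prod.snd ∈ aVals := by
  simp only [listA, assignsF, List.mem_flatMap, List.mem_map, List.mem_singleton] at hb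
  obtain ⟨S₀, h₀, b₁, ⟨S₁, h₁, b₂, ⟨S₂, h₂, b₃, ⟨S₃, h₃, b₄, rfl, rfl⟩, rfl⟩, rfl⟩, rfl⟩ := hb
  simp only [List.map_cons, List.map_nil, List.sum_cons, List.sum_nil, add_zero] at hq ⊢
  exact aVals_spec' S₀ h₀ S₁ h₁ S₂ h₂ S₃ h₃ hz hq

end CfsgLib.Char.MTwelveOrder
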