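import Cfsg.Agent.Lib.Char.MTwelveOrder.LocalModelFrame
import Cfsg.Agent.Lib.Spor.ExtraspecialSubgroup

/-!
# The extraspecial subgroup and its quotient
-/

set_option autoImplicit false
set_option linter.all false
set_option maxRecDepth 20000

namespace CfsgLib.Char.MTwelveOrder

open Subgroup CfsgLib.Spor.ExtraSymThree

theorem qCode_facts :
    (∀ q < 32, qMul 1 q = qMul q 1) ∧
    (∀ q < 32, qMul q q = 0 ∨ qMul q q = 1) ∧
    (∀ p < 32, ∀ r < 32, qMul p r = qMul r p ∨ qMul p r = qMul 1 (qMul r p)) ∧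
    (((List.range 32).filter fun q => qMul q 2 == qMul 2 q).length = 16) ∧
    (((List.range 32).filter fun q => q != 0 && qMul q q == 0).length = 19) ∧
    qMul (qMul 16 3) 16 = 2 ∧
    (∀ q < 32, (∀ r < 32, qMul q r = qMul r q) → q = 0 ∨ q = 1) := by decide +kernel

theorem two_pairs : ∀ q < 32, q = 0 ∨ q = 1 ∨ q ∈ bCodes ∨ ∃ b ∈ bCodes, ∃ b' ∈ bCodes,
    qMul q b = qMul b q ∧ qMul q b' = qMul b' q ∧ b' ≠ b ∧ b' ≠ qMul 1 b ∧
      ∀ r ∈ bCodes, qMul q r = qMul r q → r ∈ [b, qMul 1 b, b', qMul 1 b'] := by decide +kernel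

namespace ExtraFrame

variable {G : Type*} [Group G] {L : Local G} {a c d : G} (F : ExtraFrame L a c d)
include F

local notation "f" => qVal L.u L.y a c d

theorem at_zero : f 0 = 1 := by simp [qVal, qBit]

theorem at_one : f 1 = L.u := by simp [qVal, qBit]

theorem at_two : f 2 = L.y := by simp [qVal, qBit]

theorem comm_code {p r : ℕ} (h : qMul p r = qMul r p) : f p * f r = f r * f p := by rw [F.rel.mul, F.rel.mul, h]

theorem flip (q : ℕ) : f (qMul 1 q) = L.u * f q := by rw [← F.rel.mul, F.at_one]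

/-- The subgroup of the thirty-two elements. -/
def E : Subgroup G where
  carrier := {g | ∃ q < 32, f q = g}
  one_mem' := ⟨0, by norm_num, F.at_zero⟩
  mul_mem' := by
    rintro _ _ ⟨p, hp, rfl⟩ ⟨r, hr, rfl⟩
    exact ⟨qMul p r, qMul_lt p hp r hr, F.rel.mul.symm⟩
  inv_mem' := by
    rintro _ ⟨p, hp, rfl⟩
    obtain ⟨r, hr, e, -⟩ := qMul_facts.2 p hp
    exact ⟨r, hr, (inv_eq_of_mul_eq_one_right (by rw [F.rel.mul, e, F.at_zero])).symm⟩

theorem mem_E {g : G} : g ∈ F.E ↔ ∃ q < 32, f q = g := Iff.rfl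

theorem code_mem {q : ℕ} (hq : q < 32) : f q ∈ F.E := ⟨q, hq, rfl⟩

theorem u_mem : L.u ∈ F.E := F.at_one ▸ F.code_mem (by norm_num)

theorem comm_u {g : G} (hg : g ∈ F.E) : g * L.u = L.u * g := by
  obtain ⟨q, hq, rfl⟩ := F.mem_E.1 hg
  have h := F.comm_code (qCode_facts.1 q hq).symm
  rwa [F.at_one] at h

theorem E_le : F.E ≤ centralizer ({L.u} : Set G) := fun g hg => mem_centralizer_singleton_iff.2 (F.comm_u hg)

theorem card_E : Nat.card F.E = 32 := by
  let i : Fin 32 → F.E := fun q => ⟨f q, F.code_mem q.2⟩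
  have hi : Function.Bijective i := by
    refine ⟨fun p q e => Fin.ext (F.inj p p.2 q q.2 (congrArg Subtype.val e)), fun g => ?_⟩
    obtain ⟨q, hq, e⟩ := F.mem_E.1 g.2
    exact ⟨⟨q, hq⟩, Subtype.ext e⟩
  rw [← Nat.card_eq_of_bijective i hi, Nat.card_fin]

theorem norm {g : G} (hg : g * L.u = L.u * g) {e : G} (he : e ∈ F.E) : g * e * g⁻¹ ∈ F.E := by
  obtain ⟨q, hq, rfl⟩ := F.mem_E.1 he
  have hB : ∀ r ∈ bCodes, MulAut.conj g (f r) ∈ F.E := by
    intro r hr
    obtain ⟨hY, hu⟩ := F.mem r hr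
    obtain ⟨r', hr', e⟩ := F.all (MulAut.conj g (f r)) (hY.trans (isConj_iff.2 ⟨g, rfl⟩)) (by
      have hgu : MulAut.conj g L.u = L.u := by rw [MulAut.conj_apply, hg, mul_inv_cancel_right]
      calc MulAut.conj g (f r) * L.u = MulAut.conj g (f r) * MulAut.conj g L.u := by rw [hgu]
        _ = MulAut.conj g (L.u * f r) := by rw [← map_mul, hu]
        _ = MulAut.conj g L.u * MulAut.conj g (f r) := map_mul _ _ _
        _ = _ := by rw [hgu])
    exact e ▸ F.code_mem (bCodes_facts.2.2 r' hr')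
  have h2 := hB 2 (by decide)
  have h4 := hB 4 (by decide)
  have h8 := hB 8 (by decide)
  have h16 := hB 16 (by decide)
  simp only [show f 4 = a by simp [qVal, qBit], show f 8 = c by simp [qVal, qBit],
    show f 16 = d by simp [qVal, qBit], F.at_two] at h2 h4 h8 h16
  have hu : MulAut.conj g L.u ∈ F.E := by
    rw [MulAut.conj_apply, hg, mul_inv_cancel_right]
    exact F.u_mem
  rw [← MulAut.conj_apply]
  simp only [qVal, map_mul, map_pow]
  exact mul_mem (mul_mem (pow_mem hu _) (mul_mem (pow_mem h2 _) (pow_mem h4 _)))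
    (mul_mem (pow_mem h8 _) (pow_mem h16 _))

variable [Finite G]

theorem stab_y {g : G} (hg : g * L.u = L.u * g) (h : g * L.y * g⁻¹ = L.y) : g ∈ F.E := by
  let Cy := ((List.range 32).filter fun q => qMul q 2 == qMul 2 q)
  let i : {q // q ∈ Cy.toFinset} → (centralizer ({L.u} : Set G) ⊓ centralizer ({L.y} : Set G) : Subgroup G) :=
    fun q => ⟨f q.1, by
      obtain ⟨hq, he⟩ := List.mem_filter.1 (List.mem_toFinset.1 q.2)
      refine mem_inf.2 ⟨F.E_le (F.code_mem (List.mem_range.1 hq)), mem_centralizer_singleton_iff.2 ?_⟩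
      have h := F.comm_code (beq_iff_eq.1 he)
      rwa [F.at_two] at h⟩
  have hi : Function.Injective i := fun p q e => Subtype.ext (F.inj _
    (List.mem_range.1 (List.mem_filter.1 (List.mem_toFinset.1 p.2)).1) _
    (List.mem_range.1 (List.mem_filter.1 (List.mem_toFinset.1 q.2)).1) (congrArg Subtype.val e))
  obtain ⟨q, hq⟩ := (hi.bijective_of_nat_card_le (by
    rw [F.cent, Nat.card_eq_fintype_card, Fintype.card_coe,
      List.toFinset_card_of_nodup (List.nodup_range.filter _), qCode_facts.2.2.2.1])).2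
    ⟨g, mem_inf.2 ⟨mem_centralizer_singleton_iff.2 hg, mem_centralizer_singleton_iff.2 (mul_inv_eq_iff_eq_mul.1 h)⟩⟩
  have e : f q.1 = g := congrArg Subtype.val hq
  rw [← e]
  exact F.code_mem (List.mem_range.1 (List.mem_filter.1 (List.mem_toFinset.1 q.2)).1)

/-- An element fixing one of the six pairs lies in the extraspecial subgroup. -/
theorem stab_pair {g b : G} (hg : g * L.u = L.u * g) (hb : IsConj L.y b) (hbu : b * L.u = L.u * b)
    (h : g * b * g⁻¹ = b ∨ g * b * g⁻¹ = L.u * b) : g ∈ F.E := by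
  obtain ⟨k, hk, rfl⟩ := F.trans b hb hbu
  have hk' : k⁻¹ * L.u = L.u * k⁻¹ := (Commute.inv_left (show Commute k L.u from hk)).eq
  have hgu : k⁻¹ * g * k * L.u = L.u * (k⁻¹ * g * k) :=
    ((Commute.inv_left (show Commute k L.u from hk)).mul_left hg |>.mul_left hk).eq
  have key : k⁻¹ * g * k * L.y * (k⁻¹ * g * k)⁻¹ = k⁻¹ * (g * (k * L.y * k⁻¹) * g⁻¹) * k := by group
  have hmem : k⁻¹ * g * k ∈ F.E := by
    rcases h with h | h
    · refine F.stab_y hgu ?_
      rw [key, h]
      group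
    · have h' : k⁻¹ * g * k * L.y * (k⁻¹ * g * k)⁻¹ = f 3 := by
        rw [key, h, show (3 : ℕ) = qMul 1 2 from rfl, F.flip, F.at_two]
        calc k⁻¹ * (L.u * (k * L.y * k⁻¹)) * k = k⁻¹ * L.u * k * L.y := by group
          _ = L.u * k⁻¹ * k * L.y := by rw [hk']
          _ = L.u * L.y := by group
      have hd := F.code_mem (q := 16) (by norm_num)
      have hdd : f 16 * f 16 = 1 := by rw [F.rel.mul, ← F.at_zero]; rfl
      have h2 : f 16 * (k⁻¹ * g * k) ∈ F.E := by
        refine F.stab_y ?_ ?_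
        · exact ((show Commute (f 16) L.u from F.comm_u hd).mul_left hgu).eq
        · calc f 16 * (k⁻¹ * g * k) * L.y * (f 16 * (k⁻¹ * g * k))⁻¹
              = f 16 * (k⁻¹ * g * k * L.y * (k⁻¹ * g * k)⁻¹) * (f 16)⁻¹ := by group
            _ = f 16 * f 3 * f 16 := by rw [h', inv_eq_of_mul_eq_one_right hdd]
            _ = L.y := by rw [F.rel.mul, F.rel.mul, qCode_facts.2.2.2.2.2.1, F.at_two]
      exact (mul_mem_cancel_left hd).1 h2
  have := F.norm hk hmem
  rwa [show k * (k⁻¹ * g * k) * k⁻¹ = g by group] at this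

/-- An element of order three fixes only the centre. -/
theorem free {x : G} (hx : x * L.u = L.u * x) (hxE : x ∉ F.E) (hx3 : x * x * x = 1) {e : G} (he : e ∈ F.E)
    (hxe : x * e = e * x) : e = 1 ∨ e = L.u := by
  obtain ⟨q, hq, rfl⟩ := F.mem_E.1 he
  have hfix : x * f q * x⁻¹ = f q := mul_inv_eq_iff_eq_mul.2 hxe
  rcases two_pairs q hq with rfl | rfl | hqB | ⟨b, hb, b', hb', cb, cb', ne1, ne2, hall⟩
  · exact Or.inl F.at_zero
  · exact Or.inr F.at_one
  · exact absurd (F.stab_pair hx (F.mem q hqB).1 (F.mem q hqB).2 (Or.inl hfix)) hxE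
  exfalso
  have hxu : x * L.u * x⁻¹ = L.u := mul_inv_eq_iff_eq_mul.2 hx
  have himg : ∀ r ∈ bCodes, qMul q r = qMul r q →
      (∃ r' ∈ [b, qMul 1 b, b', qMul 1 b'], f r' = x * f r * x⁻¹) := by
    intro r hr hc
    obtain ⟨hY, hu⟩ := F.mem r hr
    obtain ⟨r', hr', e'⟩ := F.all (x * f r * x⁻¹) (hY.trans (isConj_iff.2 ⟨x, rfl⟩)) (by
      calc x * f r * x⁻¹ * L.u = x * f r * x⁻¹ * (x * L.u * x⁻¹) := by rw [hxu]
        _ = x * (f r * L.u) * x⁻¹ := by group
        _ = x * (L.u * f r) * x⁻¹ := by rw [hu]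
        _ = x * L.u * x⁻¹ * (x * f r * x⁻¹) := by group
        _ = _ := by rw [hxu])
    refine ⟨r', hall r' hr' (F.inj _ (qMul_lt _ hq _ (bCodes_facts.2.2 r' hr')) _
      (qMul_lt _ (bCodes_facts.2.2 r' hr') _ hq) ?_), e'⟩
    rw [← F.rel.mul, ← F.rel.mul, e']
    calc f q * (x * f r * x⁻¹) = x * f q * x⁻¹ * (x * f r * x⁻¹) := by rw [hfix]
      _ = x * (f q * f r) * x⁻¹ := by group
      _ = x * (f r * f q) * x⁻¹ := by rw [F.rel.mul, F.rel.mul, hc]
      _ = x * f r * x⁻¹ * (x * f q * x⁻¹) := by group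
      _ = _ := by rw [hfix]
  have hno : ∀ r ∈ bCodes, ∀ z, z * L.u = L.u * z → z ∉ F.E →
      z * f r * z⁻¹ = f r ∨ z * f r * z⁻¹ = f (qMul 1 r) → False := by
    intro r hr z hz hzE h
    rw [F.flip] at h
    exact hzE (F.stab_pair hz (F.mem r hr).1 (F.mem r hr).2 h)
  obtain ⟨r₁, hr₁, e₁⟩ := himg b hb cb
  obtain ⟨r₂, hr₂, e₂⟩ := himg b' hb' cb'
  simp only [List.mem_cons, List.not_mem_nil, or_false] at hr₁ hr₂
  have h1 : x * f b * x⁻¹ = f b' ∨ x * f b * x⁻¹ = f (qMul 1 b') := by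
    rcases hr₁ with rfl | rfl | rfl | rfl
    · exact (hno _ hb x hx hxE (Or.inl e₁.symm)).elim
    · exact (hno _ hb x hx hxE (Or.inr e₁.symm)).elim
    · exact Or.inl e₁.symm
    · exact Or.inr e₁.symm
  have h2 : x * f b' * x⁻¹ = f b ∨ x * f b' * x⁻¹ = L.u * f b := by
    rcases hr₂ with rfl | rfl | rfl | rfl
    · exact Or.inl e₂.symm
    · exact Or.inr (by rw [← F.flip]; exact e₂.symm)
    · exact (hno _ hb' x hx hxE (Or.inl e₂.symm)).elim
    · exact (hno _ hb' x hx hxE (Or.inr e₂.symm)).elim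
  have hxu' : ∀ g, x * (L.u * g) * x⁻¹ = L.u * (x * g * x⁻¹) := fun g => by
    rw [show x * (L.u * g) * x⁻¹ = x * L.u * x⁻¹ * (x * g * x⁻¹) by group, hxu]
  have hxx : x * x ∉ F.E := by
    intro h
    refine hxE ?_
    have h4 := mul_mem h h
    rwa [show x * x * (x * x) = x * x * x * x by group, hx3, one_mul] at h4
  refine hno b hb (x * x) (((show Commute x L.u from hx).mul_left hx).eq) hxx ?_
  have e : x * x * f b * (x * x)⁻¹ = x * (x * f b * x⁻¹) * x⁻¹ := by group
  rw [e, F.flip]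
  rcases h1 with h1 | h1 <;> rw [h1]
  · exact h2
  · rw [F.flip, hxu']
    rcases h2 with h2 | h2 <;> rw [h2]
    · exact Or.inr rfl
    · exact Or.inl (by rw [← mul_assoc, L.u_sq, one_mul])

theorem isExtraspecial : Cfsg.IsExtraspecial 2 F.E := by
  haveI : Fact (Nat.Prime 2) := ⟨Nat.prime_two⟩
  obtain ⟨hc1, hsq, hcomm, -, -, -, hcen⟩ := qCode_facts
  refine CfsgLib.Spor.LargeQ.isExtraspecial_sub (Q := F.E) (IsPGroup.of_card (n := 5) (by rw [F.card_E]; norm_num))
    le_rfl (z := L.u) L.u_order F.u_mem ?_ ?_ ?_ ⟨L.y, F.at_two ▸ F.code_mem (by norm_num), d, ?_, ?_⟩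
  · intro p hp r hr
    obtain ⟨i, hi, rfl⟩ := F.mem_E.1 hp
    obtain ⟨j, hj, rfl⟩ := F.mem_E.1 hr
    rcases hcomm i hi j hj with h | h
    · left
      rw [show f i * f j = f j * f i by rw [F.rel.mul, F.rel.mul, h]]
      group
    · right
      rw [show f i * f j = L.u * (f j * f i) by rw [F.rel.mul, F.rel.mul, ← F.flip, h]]
      group
  · intro p hp
    obtain ⟨i, hi, rfl⟩ := F.mem_E.1 hp
    rcases hsq i hi with h | h
    · exact Or.inl (by rw [F.rel.mul, h, F.at_zero])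
    · exact Or.inr (by rw [F.rel.mul, h, F.at_one])
  · intro p hp
    constructor
    · intro h
      obtain ⟨i, hi, rfl⟩ := F.mem_E.1 hp
      rcases hcen i hi fun r hr => (F.inj _ (qMul_lt _ hr _ hi) _ (qMul_lt _ hi _ hr) (by
          rw [← F.rel.mul, ← F.rel.mul]; exact h _ (F.code_mem hr))).symm with rfl | rfl
      · exact Or.inl F.at_zero
      · exact Or.inr F.at_one
    · rintro (rfl | rfl) s hs
      · rw [one_mul, mul_one]
      · exact F.comm_u hs
  · have h := F.code_mem (q := 16) (by norm_num)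
    rwa [show f 16 = d by simp [qVal, qBit]] at h
  · intro h
    have h' : f 2 * f 16 = f 16 * f 2 := by
      rw [F.at_two, show f 16 = d by simp [qVal, qBit]]
      exact h
    rw [F.rel.mul, F.rel.mul] at h'
    replace h := h'
    exact absurd (F.inj _ (qMul_lt _ (by norm_num) _ (by norm_num)) _ (qMul_lt _ (by norm_num) _ (by norm_num)) h)
      (by decide)

/-- The involutions outside the extraspecial subgroup meet two cosets. -/
theorem exists_two : ∃ s t : G, (s * L.u = L.u * s ∧ s * s = 1 ∧ s ∉ F.E) ∧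
    (t * L.u = L.u * t ∧ t * t = 1 ∧ t ∉ F.E) ∧ s⁻¹ * t ∉ F.E := by
  classical
  haveI := Fintype.ofFinite G
  let T : Finset G := Finset.univ.filter fun x => (IsConj L.u x ∨ IsConj L.y x) ∧ x * L.u = L.u * x
  let I : Finset G := (((List.range 32).filter fun q => q != 0 && qMul q q == 0).toFinset).image f
  have hI : I.card = 19 := by
    rw [Finset.card_image_of_injOn, List.toFinset_card_of_nodup (List.nodup_range.filter _),
      qCode_facts.2.2.2.2.1]
    intro p hp q hq e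
    exact F.inj p (List.mem_range.1 (List.mem_filter.1 (List.mem_toFinset.1 hp)).1) q
      (List.mem_range.1 (List.mem_filter.1 (List.mem_toFinset.1 hq)).1) e
  have hT : T.card = 43 := by
    have h1 : (Finset.univ.filter fun x : G => IsConj L.u x ∧ x * L.u = L.u * x).card = 31 := by
      rw [← L.count_uu, Nat.card_eq_fintype_card, Fintype.card_subtype]
    have h2 : (Finset.univ.filter fun x : G => IsConj L.y x ∧ x * L.u = L.u * x).card = 12 := by
      rw [← L.count_yu, Nat.card_eq_fintype_card, Fintype.card_subtype]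
    have hd : Disjoint (Finset.univ.filter fun x : G => IsConj L.u x ∧ x * L.u = L.u * x)
        (Finset.univ.filter fun x : G => IsConj L.y x ∧ x * L.u = L.u * x) := by
      rw [Finset.disjoint_left]
      intro x hx hx'
      exact L.not_both (Finset.mem_filter.1 hx).2.1 (Finset.mem_filter.1 hx').2.1
    have h := Finset.card_union_of_disjoint hd
    rw [h1, h2] at h
    rw [← show (31 : ℕ) + 12 = 43 from rfl, ← h]
    refine congrArg Finset.card (Finset.ext fun x => ?_)
    simp only [T, Finset.mem_filter, Finset.mem_union, Finset.mem_univ, true_and]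
    exact or_and_right
  have hsq : ∀ x ∈ T, x * x = 1 ∧ x ≠ 1 := by
    intro x hx
    have ho : orderOf x = 2 := (Finset.mem_filter.1 hx).2.1.elim L.order_of_u L.order_of_y
    exact ⟨by rw [← pow_two, ← ho, pow_orderOf_eq_one], fun e => by rw [e, orderOf_one] at ho; norm_num at ho⟩
  have hout : 24 ≤ (T.filter fun x => x ∉ F.E).card := by
    have hin : (T.filter fun x => x ∈ F.E) ⊆ I := by
      intro x hx
      obtain ⟨hxT, hxE⟩ := Finset.mem_filter.1 hx
      obtain ⟨q, hq, rfl⟩ := F.mem_E.1 hxE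
      obtain ⟨h2, h1⟩ := hsq _ hxT
      refine Finset.mem_image.2 ⟨q, List.mem_toFinset.2 (List.mem_filter.2 ⟨List.mem_range.2 hq, ?_⟩), rfl⟩
      simp only [Bool.and_eq_true, bne_iff_ne, ne_eq, beq_iff_eq]
      refine ⟨fun e => h1 (by rw [e, F.at_zero]), F.inj _ (qMul_lt _ hq _ hq) 0 (by norm_num) ?_⟩
      rw [← F.rel.mul, h2, F.at_zero]
    have h := Finset.card_le_card hin
    have h' := Finset.card_filter_add_card_filter_not (s := T) (p := fun x => x ∈ F.E)
    omega
  obtain ⟨t, ht⟩ : (T.filter fun x => x ∉ F.E).Nonempty := Finset.card_pos.1 (by omega)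
  obtain ⟨htT, htE⟩ := Finset.mem_filter.1 ht
  have htu := (Finset.mem_filter.1 htT).2.2
  have htt := (hsq t htT).1
  by_contra hcon
  push Not at hcon
  have hall : ∀ x ∈ T.filter (fun x => x ∉ F.E), t⁻¹ * x ∈ F.E := by
    intro x hx
    obtain ⟨hxT, hxE⟩ := Finset.mem_filter.1 hx
    exact hcon t x ⟨htu, htt, htE⟩ ⟨(Finset.mem_filter.1 hxT).2.2, (hsq x hxT).1, hxE⟩
  have hcu : ∀ g, t * (L.u * g) * t⁻¹ = L.u * (t * g * t⁻¹) := fun g => by
    rw [← mul_assoc, htu, mul_assoc L.u t, mul_assoc L.u]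
  let S : Subgroup G :=
    { carrier := {g | g ∈ F.E ∧ (t * g * t⁻¹ = g ∨ t * g * t⁻¹ = L.u * g)}
      one_mem' := ⟨one_mem _, Or.inl (by group)⟩
      mul_mem' := by
        rintro p r ⟨hp, hp'⟩ ⟨hr, hr'⟩
        refine ⟨mul_mem hp hr, ?_⟩
        rw [show t * (p * r) * t⁻¹ = t * p * t⁻¹ * (t * r * t⁻¹) by group]
        have pu := F.comm_u hp
        rcases hp' with e | e <;> rcases hr' with e' | e' <;> rw [e, e']
        · exact Or.inl rfl
        · exact Or.inr (by rw [← mul_assoc, pu, mul_assoc])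
        · exact Or.inr (mul_assoc _ _ _)
        · exact Or.inl (by
            rw [show L.u * p * (L.u * r) = L.u * (p * L.u) * r by group, pu, ← mul_assoc L.u L.u, L.u_sq, one_mul])
      inv_mem' := by
        rintro p ⟨hp, hp'⟩
        refine ⟨inv_mem hp, ?_⟩
        rw [show t * p⁻¹ * t⁻¹ = (t * p * t⁻¹)⁻¹ by group]
        rcases hp' with e | e
        · exact Or.inl (by rw [e])
        · exact Or.inr (by
            rw [e, mul_inv_rev, inv_eq_of_mul_eq_one_right L.u_sq, F.comm_u (inv_mem hp)]) }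
  have hSE : S ≤ F.E := fun g hg => hg.1
  have hyS : L.y ∉ S := fun h => htE (F.stab_pair htu (IsConj.refl _) F.huy.symm h.2)
  have hS : Nat.card S ≤ 16 := by
    have hd : Nat.card S ∣ 32 := F.card_E ▸ Subgroup.card_dvd_of_le hSE
    have hne : Nat.card S ≠ 32 := fun h =>
      hyS ((eq_of_le_of_card_ge hSE (by rw [h, F.card_E])).symm ▸ F.at_two ▸ F.code_mem (by norm_num))
    obtain ⟨k, hk⟩ := hd
    by_contra hlt
    rcases Nat.lt_or_ge k 2 with hk2 | hk2
    · interval_cases k <;> simp_all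
    · nlinarith
  have hmap : ∀ x ∈ T.filter (fun x => x ∉ F.E), t⁻¹ * x ∈ S := by
    intro x hx
    refine ⟨hall x hx, ?_⟩
    have hxx := (hsq x (Finset.mem_filter.1 hx).1).1
    have hti : t⁻¹ = t := inv_eq_of_mul_eq_one_right htt
    have hinv : t * (t⁻¹ * x) * t⁻¹ = (t⁻¹ * x)⁻¹ := by
      rw [mul_inv_rev, inv_inv, inv_eq_of_mul_eq_one_right hxx]
      rw [show t * (t⁻¹ * x) * t⁻¹ = x * t⁻¹ by group, hti]
    rw [hinv]
    obtain ⟨i, hi, ei⟩ := F.mem_E.1 (hall x hx)
    rw [← ei]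
    rcases qCode_facts.2.1 i hi with h | h
    · exact Or.inl (inv_eq_of_mul_eq_one_right (by rw [F.rel.mul, h, F.at_zero]))
    · refine Or.inr (inv_eq_of_mul_eq_one_right ?_)
      rw [← mul_assoc, F.comm_u (F.code_mem hi), mul_assoc, F.rel.mul, h, F.at_one, L.u_sq]
  have hle : (T.filter fun x => x ∉ F.E).card ≤ Nat.card S := by
    rw [← Fintype.card_coe, ← Nat.card_eq_fintype_card]
    exact Nat.card_le_card_of_injective (fun x => (⟨t⁻¹ * x.1, hmap x.1 x.2⟩ : S))
      fun p q e => Subtype.ext (mul_left_cancel (congrArg Subtype.val e))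
  omega

end ExtraFrame

end CfsgLib.Char.MTwelveOrder
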