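import Cfsg.Agent.Lib.Char.MTwelveOrder.LocalModelStar
import Cfsg.Agent.Lib.Spor.ExtraSymThree.QCode

/-!
# The twelve involutions of the second class in the centralizer of the first
-/

set_option autoImplicit false
set_option linter.all false
set_option maxRecDepth 20000

namespace CfsgLib.Char.MTwelveOrder

open Subgroup CfsgLib.Spor.ExtraSymThree

/-- The codes of the twelve involutions. -/
def bCodes : List ℕ := [2, 3, 4, 5, 6, 7, 8, 9, 16, 17, 24, 25]

theorem bCodes_facts : bCodes.length = 12 ∧ bCodes.Nodup ∧ ∀ q ∈ bCodes, q < 32 := by decide +kernel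

/-- The coordinates of the subgroup generated by the twelve involutions. -/
structure ExtraFrame {G : Type*} [Group G] (L : Local G) (a c d : G) : Prop where
  huy : L.u * L.y = L.y * L.u
  rel : QRel L.u L.y a c d
  mem : ∀ q ∈ bCodes, IsConj L.y (qVal L.u L.y a c d q) ∧
    qVal L.u L.y a c d q * L.u = L.u * qVal L.u L.y a c d q
  all : ∀ b : G, IsConj L.y b → b * L.u = L.u * b → ∃ q ∈ bCodes, qVal L.u L.y a c d q = b
  inj : ∀ p < 32, ∀ r < 32, qVal L.u L.y a c d p = qVal L.u L.y a c d r → p = r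
  fused : IsConj L.u (L.y * c)
  trans : ∀ b : G, IsConj L.y b → b * L.u = L.u * b → ∃ g : G, g * L.u = L.u * g ∧ g * L.y * g⁻¹ = b
  cent : Nat.card (centralizer ({L.u} : Set G) ⊓ centralizer ({L.y} : Set G) : Subgroup G) = 16

theorem qVal_inj {G : Type*} [Group G] {s u u' v v' : G} (R : QRel s u u' v v') :
    ∀ p < 32, ∀ r < 32, qVal s u u' v v' p = qVal s u u' v v' r → p = r := by
  set f := qVal s u u' v v' with hf
  have f1 : f 1 = s := by simp [hf, qVal, qBit]
  have f0 : f 0 = 1 := by simp [hf, qVal, qBit]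
  have ker : ∀ q < 32, f q = 1 → q = 0 := by
    intro q hq h
    rcases noncentral q hq with h' | rfl | ⟨g, hg, e⟩
    · exact h'
    · exact absurd (f1 ▸ h) R.ne
    · have e' : f q * f g = f 1 * (f g * f q) := by rw [hf, R.mul, R.mul, R.mul, e]
      rw [h, one_mul, mul_one, f1] at e'
      exact absurd (mul_eq_right.1 e'.symm) R.ne
  intro p hp r hr h
  obtain ⟨r', hr', e1, e2⟩ := qMul_facts.2 r hr
  have hfr : f r * f r' = 1 := by rw [hf, R.mul, e1]; exact f0
  have h2 : qMul p r' = 0 := ker _ (qMul_lt p hp r' hr') (by rw [hf, ← R.mul, ← hf, h, hfr])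
  have key : ∀ a < 32, ∀ b < 32, ∀ k < 32, qMul a k = 0 → qMul b k = 0 → a = b := by decide +kernel
  exact key p hp r hr r' hr' h2 e1

namespace Local

variable {G : Type*} [Group G] [Finite G]

theorem trans_u (L : Local G) (huy : L.u * L.y = L.y * L.u) {b : G} (hb : IsConj L.y b)
    (hbu : b * L.u = L.u * b) : ∃ g : G, g * L.u = L.u * g ∧ g * L.y * g⁻¹ = b := by
  classical
  obtain ⟨c, a, -, -, -, -, -, -, -, -, hcent⟩ := L.star huy
  have h := CfsgLib.Invol.JTwo.card_orbit_mul (centralizer ({L.u} : Set G)) L.y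
  rw [inf_comm, hcent, L.cent_u] at h
  let i : {x : G // ∃ g ∈ centralizer ({L.u} : Set G), g * L.y * g⁻¹ = x} →
      {x : G // IsConj L.y x ∧ x * L.u = L.u * x} := fun x => ⟨x.1, by
    obtain ⟨g, hg, e⟩ := x.2
    exact ⟨isConj_iff.2 ⟨g, e⟩, mem_centralizer_singleton_iff.1 (e ▸ mul_mem (mul_mem hg
      (mem_centralizer_singleton_iff.2 huy.symm)) (inv_mem hg))⟩⟩
  have hi : Function.Injective i := fun x y e => Subtype.ext (congrArg (fun t => (t.1 : G)) e)
  obtain ⟨x, hx⟩ := (hi.bijective_of_nat_card_le (by rw [L.count_yu]; omega)).2 ⟨b, hb, hbu⟩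
  obtain ⟨g, hg, e⟩ := x.2
  exact ⟨g, mem_centralizer_singleton_iff.1 hg, e.trans (congrArg Subtype.val hx)⟩

/-- The same picture around each of the twelve. -/
theorem star_at (L : Local G) (huy : L.u * L.y = L.y * L.u) {b : G} (hb : IsConj L.y b)
    (hbu : b * L.u = L.u * b) : ∃ c a : G,
    (IsConj L.y c ∧ c * L.u = L.u * c ∧ c * b = b * c) ∧
    (IsConj L.y a ∧ a * L.u = L.u * a ∧ a * b = b * a) ∧ IsConj L.y (a * b) ∧ IsConj L.u (b * c) ∧
    a * c ≠ c * a ∧ a * c * (a * c) = L.u ∧ a * b * c * (a * b * c) = L.u ∧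
    (∀ x : G, IsConj L.y x → x * L.u = L.u * x → x * b = b * x →
      x ∈ [b, b * L.u, c, c * L.u, a, a * L.u, a * b, a * b * L.u]) := by
  obtain ⟨g, hgu, rfl⟩ := L.trans_u huy hb hbu
  obtain ⟨c, a, ⟨c1, c2, c3⟩, ⟨a1, a2, a3⟩, hay, hyc, hne, h1, h2, hall, -⟩ := L.star huy
  have hu : g * L.u * g⁻¹ = L.u := by rw [hgu, mul_inv_cancel_right]
  set φ := MulAut.conj g with hφ
  have hφu : φ L.u = L.u := hu
  have hcm : ∀ {p q : G}, p * q = q * p → φ p * φ q = φ q * φ p := fun h => by rw [← map_mul, ← map_mul, h]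
  have hY : ∀ {x : G}, IsConj L.y x → IsConj L.y (φ x) := fun h => h.trans (isConj_iff.2 ⟨g, rfl⟩)
  show ∃ c a : G, (_ ∧ _ ∧ c * φ L.y = φ L.y * c) ∧ _
  refine ⟨φ c, φ a, ⟨hY c1, ?_, hcm c3⟩, ⟨hY a1, ?_, hcm a3⟩, ?_, ?_, ?_, ?_, ?_, ?_⟩
  · rw [← hφu]; exact hcm c2
  · rw [← hφu]; exact hcm a2
  · rw [show g * L.y * g⁻¹ = φ L.y from rfl, ← map_mul]; exact hY hay
  · rw [show g * L.y * g⁻¹ = φ L.y from rfl, ← map_mul]
    exact hyc.trans (isConj_iff.2 ⟨g, rfl⟩)
  · rw [← map_mul, ← map_mul]
    exact fun e => hne (φ.injective e)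
  · rw [← map_mul, ← map_mul, h1, hφu]
  · rw [show g * L.y * g⁻¹ = φ L.y from rfl, ← map_mul, ← map_mul, ← map_mul, h2, hφu]
  · intro x hx hxu hxy
    have hx' : φ.symm x ∈ [L.y, L.y * L.u, c, c * L.u, a, a * L.u, a * L.y, a * L.y * L.u] := by
      refine hall _ (hx.trans (isConj_iff.2 ⟨g⁻¹, by simp [hφ]⟩)) (φ.injective ?_) (φ.injective ?_)
      · rw [map_mul, map_mul, φ.apply_symm_apply, hφu]; exact hxu
      · rw [map_mul, map_mul, φ.apply_symm_apply]; exact hxy
    rw [show g * L.y * g⁻¹ = φ L.y from rfl]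
    simp only [List.mem_cons, List.not_mem_nil, or_false] at hx' ⊢
    rcases hx' with e | e | e | e | e | e | e | e <;>
      rw [← φ.apply_symm_apply x, e] <;> simp [hφu]

theorem exists_extraFrame (L : Local G) (huy : L.u * L.y = L.y * L.u) : ∃ a c d : G, ExtraFrame L a c d := by
  classical
  haveI := Fintype.ofFinite G
  obtain ⟨c, a, ⟨cY, cu, cy⟩, ⟨aY, au, ay⟩, hayY, hycU, hac, hsq, hsq', hall, hcent⟩ := L.star huy
  have uu := L.u_sq
  have yy := L.y_sq
  have two : ∀ {x : G}, IsConj L.y x → x * x = 1 := fun h => by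
    rw [← pow_two, ← L.order_of_y h, pow_orderOf_eq_one]
  have cc := two cY
  have aa := two aY
  have hmulu : ∀ {p q : G}, q * L.u = L.u * q → p * q = q * p → p * L.u * q = q * (p * L.u) := fun {p q} hq h => by
    rw [mul_assoc, ← hq, ← mul_assoc, h, mul_assoc]
  have hflip : ∀ {x : G}, IsConj L.y x → x * L.u = L.u * x → IsConj L.y (x * L.u) := fun h h' => L.flip_y _ h h'
  have hncu : ∀ {x : G}, IsConj L.y x → x ≠ L.u := fun h e => L.not_conj (e ▸ h).symm
  have hn1 : ∀ {x : G}, IsConj L.y x → x ≠ 1 := fun h e => by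
    have := L.order_of_y h
    rw [e, orderOf_one] at this
    norm_num at this
  have ayu : a * L.y * L.u = L.u * (a * L.y) := by rw [mul_assoc, ← huy, ← mul_assoc, au, mul_assoc]
  -- the neighbours of `a`
  obtain ⟨d, a', ⟨dY, du, da⟩, ⟨a'Y, a'u, a'a⟩, -, -, hd', hd1, hd2, hlist⟩ := L.star_at huy aY au
  have hyd : L.y * d * (L.y * d) = L.u := by
    have h := hlist L.y (IsConj.refl _) huy.symm ay.symm
    have hsqu : ∀ p : G, p * L.u = L.u * p → p * d * (p * d) = L.u → p * L.u * d * (p * L.u * d) = L.u := by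
      intro p hp hh
      calc p * L.u * d * (p * L.u * d) = p * (L.u * d) * (p * L.u) * d := by group
        _ = p * d * (L.u * p * L.u) * d := by rw [← du]; group
        _ = p * d * (p * (L.u * L.u)) * d := by rw [← hp]; group
        _ = p * d * (p * d) := by rw [uu, mul_one, mul_assoc (p * d)]
        _ = L.u := hh
    have hau' : a' * a * L.u = L.u * (a' * a) := by rw [mul_assoc, au, ← mul_assoc, a'u, mul_assoc]
    simp only [List.mem_cons, List.not_mem_nil, or_false] at h
    rcases h with e | e | e | e | e | e | e | e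
    · exact absurd (by rw [← e, cy]) hac
    · refine absurd ?_ hac
      have : a = L.y * L.u := by rw [e, mul_assoc, uu, mul_one]
      rw [this]
      exact hmulu cu cy.symm
    all_goals try (rw [e]; first | exact hd1 | exact hd2 | exact hsqu _ a'u hd1 | exact hsqu _ hau' hd2)
    all_goals
      exfalso
      have hdy : d * L.y = L.y * d := by
        first
        | (rw [e]; done)
        | (rw [e, ← mul_assoc, mul_assoc d L.u, ← du, ← mul_assoc])
      have hm : a * L.y ∈ [a, a * L.u, d, d * L.u, a', a' * L.u, a' * a, a' * a * L.u] :=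
        hlist _ hayY ayu (by rw [mul_assoc, ← ay])
      have hcd : d * (a * L.y) = a * L.y * d := by rw [← mul_assoc, da, mul_assoc, hdy, ← mul_assoc]
      have key : ∀ p : G, p = a * L.y → p * d ≠ d * p → False := fun p hp hh => hh (by rw [hp]; exact hcd.symm)
      have hne2 : a' * a * d ≠ d * (a' * a) := fun hh => hd' (by
        have : a' * d * a = d * a' * a := by rw [mul_assoc, da, ← mul_assoc, hh, mul_assoc]
        exact mul_right_cancel this)
      have hu' : ∀ p : G, p * d ≠ d * p → p * L.u * d ≠ d * (p * L.u) := fun p hh h' => hh (by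
        rw [mul_assoc, ← du, ← mul_assoc, ← mul_assoc] at h'
        exact mul_right_cancel h')
      simp only [List.mem_cons, List.not_mem_nil, or_false] at hm
      rcases hm with e' | e' | e' | e' | e' | e' | e' | e'
      · exact L.y_ne (mul_eq_left.1 e')
      · exact hncu (IsConj.refl L.y) (mul_left_cancel e')
      · have h2 : a = 1 ∨ a = L.u := by
          rw [show a = a * L.y * L.y by rw [mul_assoc, yy, mul_one], e', e]
          have dd := two dY
          have ddu : d * (d * L.u) = L.u := by rw [← mul_assoc, dd, one_mul]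
          have dud : d * L.u * d = L.u := by rw [mul_assoc, ← du, ddu]
          have dudu : d * L.u * (d * L.u) = 1 := by rw [← mul_assoc, dud, uu]
          first
          | exact Or.inl dd
          | exact Or.inr ddu
          | exact Or.inr dud
          | exact Or.inl dudu
        exact h2.elim (hn1 aY) (hncu aY)
      · have h2 : a = 1 ∨ a = L.u := by
          rw [show a = a * L.y * L.y by rw [mul_assoc, yy, mul_one], e', e]
          have dd := two dY
          have ddu : d * (d * L.u) = L.u := by rw [← mul_assoc, dd, one_mul]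
          have dud : d * L.u * d = L.u := by rw [mul_assoc, ← du, ddu]
          have dudu : d * L.u * (d * L.u) = 1 := by rw [← mul_assoc, dud, uu]
          first
          | exact Or.inl dd
          | exact Or.inr ddu
          | exact Or.inr dud
          | exact Or.inl dudu
        exact h2.elim (hn1 aY) (hncu aY)
      · exact key _ e'.symm hd'
      · exact key _ e'.symm (hu' _ hd')
      · exact key _ e'.symm hne2
      · exact key _ e'.symm (hu' _ hne2)
  -- the neighbours of `c`
  obtain ⟨y', a'', ⟨y'Y, y'u, y'c⟩, ⟨a''Y, a''u, a''c⟩, ha''cY, -, hn'', hs1, hs2, hlistc⟩ := L.star_at huy cY cu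
  have ha''cu : a'' * c * L.u = L.u * (a'' * c) := by rw [mul_assoc, cu, ← mul_assoc, a''u, mul_assoc]
  have hy' : L.y = y' ∨ L.y = y' * L.u := by
    have h := hlistc L.y (IsConj.refl _) huy.symm cy.symm
    have hbad : ¬ IsConj L.y (L.y * c) := fun h => L.not_both hycU h
    simp only [List.mem_cons, List.not_mem_nil, or_false] at h
    rcases h with e | e | e | e | e | e | e | e
    · exact absurd (by rw [← e, ay]) hac
    · refine absurd ?_ hac
      have : c = L.y * L.u := by rw [e, mul_assoc, uu, mul_one]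
      rw [this]
      exact (hmulu au ay.symm).symm
    · exact Or.inl e
    · exact Or.inr e
    · exact absurd (e ▸ ha''cY) hbad
    · refine absurd ?_ hbad
      rw [show L.y * c = a'' * c * L.u by rw [e, mul_assoc, ← cu, ← mul_assoc]]
      exact hflip ha''cY ha''cu
    · refine absurd ?_ hbad
      rw [show L.y * c = a'' by rw [e, mul_assoc, cc, mul_one]]
      exact a''Y
    · refine absurd ?_ hbad
      rw [show L.y * c = a'' * L.u by rw [e, mul_assoc (a'' * c), ← cu, ← mul_assoc, mul_assoc a'', cc, mul_one]]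
      exact hflip a''Y a''u
  -- the involutions not commuting with `y`
  have hNN : ∀ p : G, IsConj L.y p → p * L.u = L.u * p → p * c = c * p → p * y' ≠ y' * p → p * L.y ≠ L.y * p := by
    intro p _ hpu _ hh h'
    rcases hy' with e | e
    · exact hh (e ▸ h')
    · rw [e, ← mul_assoc, mul_assoc y', ← hpu, ← mul_assoc] at h'
      exact hh (mul_right_cancel h')
  have hn2 : a'' * c * y' ≠ y' * (a'' * c) := fun hh => hn'' (by
    have : a'' * y' * c = y' * a'' * c := by rw [mul_assoc, y'c, ← mul_assoc, hh, mul_assoc]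
    exact mul_right_cancel this)
  have hu2 : ∀ p : G, p * y' ≠ y' * p → p * L.u * y' ≠ y' * (p * L.u) := fun p hh h' => hh (by
    rw [mul_assoc, ← y'u, ← mul_assoc, ← mul_assoc] at h'
    exact mul_right_cancel h')
  have hfour : ∀ p ∈ [a'', a'' * L.u, a'' * c, a'' * c * L.u], IsConj L.y p ∧ p * L.u = L.u * p ∧
      p * c = c * p ∧ p * L.y ≠ L.y * p ∧ IsConj L.y (p * c) := by
    have huu : ∀ {p : G}, p * L.u = L.u * p → p * L.u * L.u = L.u * (p * L.u) := fun hp => by
      rw [← mul_assoc, ← hp]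
    have hcc : a'' * c * c = c * (a'' * c) := by rw [← mul_assoc, ← a''c]
    intro p hp
    simp only [List.mem_cons, List.not_mem_nil, or_false] at hp
    rcases hp with rfl | rfl | rfl | rfl
    · exact ⟨a''Y, a''u, a''c, hNN _ a''Y a''u a''c hn'', ha''cY⟩
    · have h1 := hflip a''Y a''u
      refine ⟨h1, huu a''u, hmulu cu a''c, hNN _ h1 (huu a''u) (hmulu cu a''c) (hu2 _ hn''), ?_⟩
      rw [mul_assoc, ← cu, ← mul_assoc]
      exact hflip ha''cY ha''cu
    · refine ⟨ha''cY, ha''cu, hcc, hNN _ ha''cY ha''cu hcc hn2, ?_⟩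
      rw [mul_assoc, cc, mul_one]
      exact a''Y
    · have h1 := hflip ha''cY ha''cu
      refine ⟨h1, huu ha''cu, hmulu cu hcc, hNN _ h1 (huu ha''cu) (hmulu cu hcc) (hu2 _ hn2), ?_⟩
      rw [mul_assoc (a'' * c), ← cu, ← mul_assoc, mul_assoc a'', cc, mul_one]
      exact hflip a''Y a''u
  have hdc : d * c = c * d ∧ IsConj L.y (d * c) := by
    let T : Finset {x : G // IsConj L.y x ∧ x * L.u = L.u * x} := Finset.univ.filter fun x => x.1 * L.y ≠ L.y * x.1
    have hdy : d * L.y ≠ L.y * d := by
      intro h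
      refine L.u_ne ?_
      rw [← hyd]
      calc L.y * d * (L.y * d) = L.y * (d * L.y) * d := by group
        _ = L.y * (L.y * d) * d := by rw [h]
        _ = L.y * L.y * (d * d) := by group
        _ = 1 := by rw [yy, two dY, one_mul]
    have hT : T.card ≤ 4 := by
      let N : List G := [L.y, L.y * L.u, c, c * L.u, a, a * L.u, a * L.y, a * L.y * L.u]
      have huu : ∀ {p : G}, p * L.u = L.u * p → p * L.u * L.u = L.u * (p * L.u) := fun hp => by
        rw [← mul_assoc, ← hp]
      have hN : ∀ p ∈ N, IsConj L.y p ∧ p * L.u = L.u * p ∧ p * L.y = L.y * p := by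
        intro p hp
        simp only [N, List.mem_cons, List.not_mem_nil, or_false] at hp
        have hay' : a * L.y * L.y = L.y * (a * L.y) := by rw [← mul_assoc, ← ay]
        rcases hp with rfl | rfl | rfl | rfl | rfl | rfl | rfl | rfl
        · exact ⟨IsConj.refl _, huy.symm, rfl⟩
        · exact ⟨hflip (IsConj.refl _) huy.symm, huu huy.symm, hmulu huy.symm rfl⟩
        · exact ⟨cY, cu, cy⟩
        · exact ⟨hflip cY cu, huu cu, hmulu huy.symm cy⟩
        · exact ⟨aY, au, ay⟩
        · exact ⟨hflip aY au, huu au, hmulu huy.symm ay⟩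
        · exact ⟨hayY, ayu, hay'⟩
        · exact ⟨hflip hayY ayu, huu ayu, hmulu huy.symm hay'⟩
      have hnd : N.Nodup := by
        have hu1 : ∀ {p : G}, p ≠ p * L.u := fun h => L.u_ne (mul_eq_left.1 h.symm)
        have hsw : ∀ {p q : G}, p * L.u = q → p = q * L.u := fun h => by rw [← h, mul_assoc, uu, mul_one]
        have e1 : L.y ≠ c := fun h => hac (by rw [← h]; exact ay)
        have e2 : L.y ≠ c * L.u := fun h => hac (by
          rw [show c = L.y * L.u from hsw h.symm]; exact (hmulu au ay.symm).symm)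
        have e3 : L.y ≠ a := fun h => hac (by rw [← h]; exact cy.symm)
        have e4 : L.y ≠ a * L.u := fun h => hac (by
          rw [show a = L.y * L.u from hsw h.symm]; exact hmulu cu cy.symm)
        have e5 : L.y ≠ a * L.y := fun h => hn1 aY (mul_eq_right.1 h.symm)
        have e6 : L.y ≠ a * L.y * L.u := fun h => hncu aY (by
          have h' : L.y * L.u = a * L.y := (hsw h.symm).symm
          rw [← huy] at h'
          exact (mul_right_cancel h').symm)
        have e7 : c ≠ a := fun h => hac (by rw [h])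
        have e8 : c ≠ a * L.u := fun h => hac (by rw [show a = c * L.u from hsw h.symm]; exact hmulu cu rfl)
        have e9 : c ≠ a * L.y := fun h => hac (by rw [h, ← mul_assoc, aa, mul_assoc, ← ay, ← mul_assoc, aa])
        have e10 : c ≠ a * L.y * L.u := fun h => hac (by
          rw [h, ← mul_assoc, ← mul_assoc, aa, mul_assoc (a * L.y), ← au, ← mul_assoc, mul_assoc a L.y, ← ay,
            ← mul_assoc, aa])
        have e11 : a ≠ a * L.y := fun h => L.y_ne (mul_eq_left.1 h.symm)
        have e12 : a ≠ a * L.y * L.u := fun h => L.not_conj (by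
          rw [mul_assoc] at h
          have h' : L.y * L.u = 1 := mul_eq_left.1 h.symm
          rw [show L.u = L.y from (eq_inv_of_mul_eq_one_right h').trans (inv_eq_of_mul_eq_one_right yy)])
        have r : ∀ {p q : G}, p ≠ q * L.u → p * L.u ≠ q := fun h h' => h (hsw h')
        have r' : ∀ {p q : G}, p ≠ q → p * L.u ≠ q * L.u := fun h h' => h (mul_right_cancel h')
        simp only [N, List.nodup_cons, List.mem_cons, List.not_mem_nil, or_false, not_or, List.nodup_nil,
          and_true, not_false_eq_true]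
        exact ⟨⟨hu1, e1, e2, e3, e4, e5, e6⟩, ⟨r e2, r' e1, r e4, r' e3, r e6, r' e5⟩, ⟨hu1, e7, e8, e9, e10⟩,
          ⟨r e8, r' e7, r e10, r' e9⟩, ⟨hu1, e11, e12⟩, ⟨r e12, r' e11⟩, hu1⟩
      have hsub : T ∪ (N.attach.map fun p => (⟨p.1, (hN p.1 p.2).1, (hN p.1 p.2).2.1⟩ :
          {x : G // IsConj L.y x ∧ x * L.u = L.u * x})).toFinset ⊆ Finset.univ := Finset.subset_univ _
      have hc := Finset.card_le_card hsub
      rw [Finset.card_union_of_disjoint, List.toFinset_card_of_nodup, List.length_map, List.length_attach,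
        Finset.card_univ, ← Nat.card_eq_fintype_card, L.count_yu] at hc
      · simp only [N, List.length_cons, List.length_nil] at hc
        omega
      · exact hnd.attach.map fun p q e => Subtype.ext (congrArg (fun t => (t.1 : G)) e)
      · rw [Finset.disjoint_left]
        intro x hx hx'
        simp only [List.mem_toFinset, List.mem_map] at hx'
        obtain ⟨p, -, rfl⟩ := hx'
        exact (Finset.mem_filter.1 hx).2 (hN p.1 p.2).2.2
    let F : List G := [a'', a'' * L.u, a'' * c, a'' * c * L.u]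
    have hFnd : F.Nodup := by
      have hu1 : ∀ {p : G}, p ≠ p * L.u := fun h => L.u_ne (mul_eq_left.1 h.symm)
      have f1 : a'' ≠ a'' * c := fun h => hn1 cY (mul_eq_left.1 h.symm)
      have f2 : a'' ≠ a'' * c * L.u := fun h => hncu cY (by
        rw [mul_assoc] at h
        have h' : c * L.u = 1 := mul_eq_left.1 h.symm
        exact (eq_inv_of_mul_eq_one_left h').trans (inv_eq_of_mul_eq_one_right uu))
      have f3 : a'' * L.u ≠ a'' * c := fun h => hncu cY (mul_left_cancel h).symm
      have f4 : a'' * L.u ≠ a'' * c * L.u := fun h => f1 (mul_right_cancel h)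
      simp only [F, List.nodup_cons, List.mem_cons, List.not_mem_nil, or_false, not_or, List.nodup_nil, and_true,
        not_false_eq_true]
      exact ⟨⟨hu1, f1, f2⟩, ⟨f3, f4⟩, hu1⟩
    let F' : Finset {x : G // IsConj L.y x ∧ x * L.u = L.u * x} :=
      (F.attach.map fun p => ⟨p.1, (hfour p.1 p.2).1, (hfour p.1 p.2).2.1⟩).toFinset
    have hF' : F'.card = 4 := by
      rw [List.toFinset_card_of_nodup (hFnd.attach.map fun p q e => Subtype.ext (congrArg (fun t => (t.1 : G)) e)),
        List.length_map, List.length_attach]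
      rfl
    have hFT : F' = T := by
      refine Finset.eq_of_subset_of_card_le (fun x hx => ?_) (by omega)
      simp only [F', List.mem_toFinset, List.mem_map] at hx
      obtain ⟨p, -, rfl⟩ := hx
      exact Finset.mem_filter.2 ⟨Finset.mem_univ _, (hfour p.1 p.2).2.2.2.1⟩
    have hd : (⟨d, dY, du⟩ : {x : G // IsConj L.y x ∧ x * L.u = L.u * x}) ∈ F' :=
      hFT ▸ Finset.mem_filter.2 ⟨Finset.mem_univ _, hdy⟩
    simp only [F', List.mem_toFinset, List.mem_map] at hd
    obtain ⟨p, -, hp⟩ := hd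
    have := hfour p.1 p.2
    rw [show p.1 = d from congrArg Subtype.val hp] at this
    exact ⟨this.2.2.1, this.2.2.2.2⟩
  -- assemble
  have R : QRel L.u L.y a c d := by
    have swap : ∀ {p q : G}, p * p = 1 → q * q = 1 → p * q * (p * q) = L.u → p * L.u = L.u * p →
        q * p = L.u * (p * q) := fun {p q} hp hq h hpu => by
      have e : p * q = L.u * (q * p) := by
        calc p * q = p * q * (p * (q * q) * p) := by rw [hq, mul_one, hp, mul_one]
          _ = p * q * (p * q) * (q * p) := by group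
          _ = _ := by rw [h]
      rw [e, ← mul_assoc, uu, one_mul]
    refine ⟨L.u_ne, uu, yy, aa, cc, two dY, huy.symm, au, cu, du, ay, hdc.1, cy, da, ?_, ?_⟩
    · exact swap aa cc hsq au
    · exact swap yy (two dY) hyd huy.symm
  set f := qVal L.u L.y a c d with hf
  have hmem : ∀ q ∈ bCodes, IsConj L.y (f q) ∧ f q * L.u = L.u * f q := by
    have v : f 2 = L.y ∧ f 4 = a ∧ f 6 = L.y * a ∧ f 8 = c ∧ f 16 = d ∧ f 24 = c * d := by
      simp [hf, qVal, qBit]
    have vu : ∀ q, f (qMul 1 q) = L.u * f q := fun q => by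
      rw [hf, ← R.mul]
      simp [qVal, qBit]
    obtain ⟨v2, v4, v6, v8, v16, v24⟩ := v
    have ya : IsConj L.y (L.y * a) ∧ L.y * a * L.u = L.u * (L.y * a) := by
      rw [← ay]; exact ⟨hayY, ayu⟩
    have cd : IsConj L.y (c * d) ∧ c * d * L.u = L.u * (c * d) := by
      refine ⟨hdc.1 ▸ hdc.2, ?_⟩
      rw [mul_assoc, du, ← mul_assoc, cu, mul_assoc]
    have fu : ∀ {x : G}, IsConj L.y x ∧ x * L.u = L.u * x →
        IsConj L.y (L.u * x) ∧ L.u * x * L.u = L.u * (L.u * x) := fun {x} h => by
      rw [← h.2]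
      exact ⟨hflip h.1 h.2, by rw [← mul_assoc, ← h.2]⟩
    intro q hq
    simp only [bCodes, List.mem_cons, List.not_mem_nil, or_false] at hq
    rcases hq with rfl | rfl | rfl | rfl | rfl | rfl | rfl | rfl | rfl | rfl | rfl | rfl
    · rw [v2]; exact ⟨IsConj.refl _, huy.symm⟩
    · rw [show (3 : ℕ) = qMul 1 2 from rfl, vu, v2]; exact fu ⟨IsConj.refl _, huy.symm⟩
    · rw [v4]; exact ⟨aY, au⟩
    · rw [show (5 : ℕ) = qMul 1 4 from rfl, vu, v4]; exact fu ⟨aY, au⟩
    · rw [v6]; exact ya
    · rw [show (7 : ℕ) = qMul 1 6 from rfl, vu, v6]; exact fu ya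
    · rw [v8]; exact ⟨cY, cu⟩
    · rw [show (9 : ℕ) = qMul 1 8 from rfl, vu, v8]; exact fu ⟨cY, cu⟩
    · rw [v16]; exact ⟨dY, du⟩
    · rw [show (17 : ℕ) = qMul 1 16 from rfl, vu, v16]; exact fu ⟨dY, du⟩
    · rw [v24]; exact cd
    · rw [show (25 : ℕ) = qMul 1 24 from rfl, vu, v24]; exact fu cd
  have hinj := qVal_inj R
  obtain ⟨hlen, hnd, hlt⟩ := bCodes_facts
  refine ⟨a, c, d, huy, R, hmem, fun b hb hbu => ?_, hinj, hycU, fun b hb hbu => L.trans_u huy hb hbu, ?_⟩
  · let j : {q // q ∈ bCodes.toFinset} → {x : G // IsConj L.y x ∧ x * L.u = L.u * x} :=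
      fun q => ⟨f q.1, hmem q.1 (List.mem_toFinset.1 q.2)⟩
    have hj : Function.Injective j := fun p q e => Subtype.ext (hinj _ (hlt _ (List.mem_toFinset.1 p.2)) _
      (hlt _ (List.mem_toFinset.1 q.2)) (congrArg Subtype.val e))
    obtain ⟨q, hq⟩ := (hj.bijective_of_nat_card_le (by
      rw [L.count_yu, Nat.card_eq_fintype_card, Fintype.card_coe, List.toFinset_card_of_nodup hnd, hlen])).2 ⟨b, hb, hbu⟩
    exact ⟨q.1, List.mem_toFinset.1 q.2, congrArg Subtype.val hq⟩
  · rw [inf_comm]
    exact hcent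

end Local

end CfsgLib.Char.MTwelveOrder
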