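import Cfsg.Agent.Lib.Char.MTwelveOrder.LocalModelSyl

/-!
# The involutions commuting with two given ones
-/

set_option autoImplicit false
set_option linter.all false

namespace CfsgLib.Char.MTwelveOrder

open Subgroup

/-- A product of two disjoint transpositions. -/
def dd : Equiv.Perm (Fin 5) := Equiv.swap 0 1 * Equiv.swap 2 3

/-- A transposition commuting with it. -/
def tt : Equiv.Perm (Fin 5) := Equiv.swap 0 1

/-- Another product of two transpositions commuting with it. -/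
def ss : Equiv.Perm (Fin 5) := Equiv.swap 0 2 * Equiv.swap 1 3

theorem perm_invol : ∀ σ : Equiv.Perm (Fin 5), σ * σ = 1 → σ ≠ 1 →
    (∃ τ, τ * σ * τ⁻¹ = dd) ∨ ∃ τ, τ * σ * τ⁻¹ = tt := by decide +kernel

theorem perm_count :
    (Finset.univ.filter fun σ : Equiv.Perm (Fin 5) => ∃ τ, τ * dd * τ⁻¹ = σ).card = 15 ∧
    (Finset.univ.filter fun σ : Equiv.Perm (Fin 5) => ∃ τ, τ * tt * τ⁻¹ = σ).card = 10 ∧
    (∀ τ : Equiv.Perm (Fin 5), τ * tt * τ⁻¹ ≠ dd) := by decide +kernel

theorem perm_star : ∀ σ : Equiv.Perm (Fin 5), σ * σ = 1 → σ ≠ 1 → σ * dd = dd * σ →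
    σ ∈ [dd, tt, tt * dd, ss, ss * dd] := by decide +kernel

theorem perm_facts : dd * dd = 1 ∧ tt * tt = 1 ∧ ss * ss = 1 ∧ tt * dd = dd * tt ∧ ss * dd = dd * ss ∧
    tt * ss * (tt * ss) = dd ∧ dd ≠ 1 ∧ tt ≠ 1 ∧ ss ≠ 1 ∧ ss ≠ dd ∧ ss * dd ≠ dd ∧ tt * dd ≠ dd ∧
    (∃ τ, τ * ss * τ⁻¹ = dd) ∧ (∃ τ, τ * (ss * dd) * τ⁻¹ = dd) := by decide +kernel

namespace Local

variable {G : Type*} [Group G]

theorem image_sq (L : Local G) {π : ↥(centralizer ({L.y} : Set G)) →* Equiv.Perm (Fin 5)}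
    (hker : ∀ g : ↥(centralizer ({L.y} : Set G)), π g = 1 ↔ (g : G) = 1 ∨ (g : G) = L.y)
    (g : ↥(centralizer ({L.y} : Set G))) (h : π g * π g = 1) : (g : G) * g = 1 := by
  rcases (hker (g * g)).1 (by rw [map_mul, h]) with h' | h'
  · exact h'
  · exact absurd h' (L.no_root g)

variable [Finite G]

/-- A map onto the symmetric group sending `u` to the standard product of two transpositions. -/
theorem exists_pi (L : Local G) (huy : L.u * L.y = L.y * L.u) :
    ∃ π : ↥(centralizer ({L.y} : Set G)) →* Equiv.Perm (Fin 5), Function.Surjective π ∧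
      (∀ g : ↥(centralizer ({L.y} : Set G)), π g = 1 ↔ (g : G) = 1 ∨ (g : G) = L.y) ∧
      π ⟨L.u, L.mem_H.2 huy⟩ = dd ∧
      (∀ g : ↥(centralizer ({L.y} : Set G)), IsConj L.u (g : G) → ∃ τ, τ * π g * τ⁻¹ = dd) ∧
      ∀ g : ↥(centralizer ({L.y} : Set G)), (∃ τ, τ * π g * τ⁻¹ = dd) → IsConj L.u (g : G) ∨ IsConj L.u (g * L.y : G) := by
  classical
  obtain ⟨π, hs, hker⟩ := L.exists_hom
  set U := {g : ↥(centralizer ({L.y} : Set G)) // IsConj L.u (g : G)} with hU
  have hUcard : Nat.card U = 15 := by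
    rw [← L.count_uy]
    exact Nat.card_congr
      { toFun := fun g => ⟨(g.1 : G), g.2, L.mem_H.1 g.1.2⟩
        invFun := fun x => ⟨⟨x.1, L.mem_H.2 x.2.2⟩, x.2.1⟩
        left_inv := fun g => rfl
        right_inv := fun x => rfl }
  have hsame : ∀ a b : U, π a.1 = π b.1 → a = b := by
    intro a b e
    rcases (hker (a.1⁻¹ * b.1)).1 (by rw [map_mul, map_inv, e, inv_mul_cancel]) with h | h
    · exact Subtype.ext (Subtype.ext (inv_mul_eq_one.1 h))
    · exfalso
      have h' : (b.1 : G) = a.1 * L.y := inv_mul_eq_iff_eq_mul.1 h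
      exact L.not_both b.2 (h' ▸ L.flip_u _ a.2 (L.mem_H.1 a.1.2))
  set S := Finset.univ.filter (fun σ : Equiv.Perm (Fin 5) => ∃ g : U, π g.1 = σ) with hS
  have hScard : S.card = 15 := by
    rw [← hUcard, ← Set.ncard_coe_finset, ← Nat.card_coe_set_eq]
    refine (Nat.card_congr (Equiv.ofBijective (fun g : U => (⟨π g.1, Finset.mem_coe.2 (Finset.mem_filter.2 ⟨Finset.mem_univ _, g, rfl⟩)⟩ :
      ((S : Finset _) : Set (Equiv.Perm (Fin 5))))) ⟨fun a b e => hsame a b (congrArg Subtype.val e), fun σ => ?_⟩)).symm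
    obtain ⟨g, hg⟩ := (Finset.mem_filter.1 σ.2).2
    exact ⟨g, Subtype.ext hg⟩
  have hSconj : ∀ σ ∈ S, ∀ τ, τ * σ * τ⁻¹ ∈ S := by
    intro σ hσ τ
    obtain ⟨g, rfl⟩ := (Finset.mem_filter.1 hσ).2
    obtain ⟨k, rfl⟩ := hs τ
    refine Finset.mem_filter.2 ⟨Finset.mem_univ _, ⟨⟨k * g.1 * k⁻¹, ?_⟩, by simp⟩⟩
    exact g.2.trans (isConj_iff.2 ⟨k, rfl⟩)
  have hSinv : ∀ σ ∈ S, σ * σ = 1 ∧ σ ≠ 1 := by
    intro σ hσ
    obtain ⟨g, rfl⟩ := (Finset.mem_filter.1 hσ).2
    refine ⟨?_, fun h => ?_⟩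
    · rw [← map_mul, show g.1 * g.1 = 1 from Subtype.ext (by
        show (g.1 : G) * g.1 = 1
        rw [← pow_two, ← L.order_of_u g.2, pow_orderOf_eq_one]), map_one]
    · rcases (hker g.1).1 h with h' | h'
      · have := L.order_of_u g.2
        rw [h', orderOf_one] at this
        norm_num at this
      · exact L.not_conj (h' ▸ g.2)
  obtain ⟨hc15, hc10, hne⟩ := perm_count
  have hsub : ∀ c : Equiv.Perm (Fin 5), ∀ σ ∈ S, (∃ τ, τ * σ * τ⁻¹ = c) →
      (Finset.univ.filter fun ρ : Equiv.Perm (Fin 5) => ∃ τ, τ * c * τ⁻¹ = ρ) ⊆ S := by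
    intro c σ hσ hτ ρ hρ
    obtain ⟨τ, rfl⟩ := hτ
    obtain ⟨τ', rfl⟩ := (Finset.mem_filter.1 hρ).2
    exact hSconj _ (hSconj σ hσ τ) τ'
  have hdd : ∀ σ ∈ S, ∃ τ, τ * σ * τ⁻¹ = dd := by
    intro σ hσ
    refine (perm_invol σ (hSinv σ hσ).1 (hSinv σ hσ).2).resolve_right fun ht => ?_
    have h10 := hsub tt σ hσ ht
    obtain ⟨ρ, hρ, hρn⟩ : ∃ ρ ∈ S, ρ ∉ Finset.univ.filter fun ρ : Equiv.Perm (Fin 5) => ∃ τ, τ * tt * τ⁻¹ = ρ := by
      by_contra h
      push Not at h
      have := Finset.card_le_card (show S ⊆ _ from h)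
      omega
    rcases perm_invol ρ (hSinv ρ hρ).1 (hSinv ρ hρ).2 with hd | ⟨τ, hτ⟩
    · have h15 := hsub dd ρ hρ hd
      have hdisj : Disjoint (Finset.univ.filter fun ρ : Equiv.Perm (Fin 5) => ∃ τ, τ * tt * τ⁻¹ = ρ)
          (Finset.univ.filter fun ρ : Equiv.Perm (Fin 5) => ∃ τ, τ * dd * τ⁻¹ = ρ) := by
        rw [Finset.disjoint_left]
        intro x hx hx'
        obtain ⟨a, rfl⟩ := (Finset.mem_filter.1 hx).2
        obtain ⟨b, hb⟩ := (Finset.mem_filter.1 hx').2
        refine hne (b⁻¹ * a) ?_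
        calc b⁻¹ * a * tt * (b⁻¹ * a)⁻¹ = b⁻¹ * (a * tt * a⁻¹) * b := by group
          _ = b⁻¹ * (b * dd * b⁻¹) * b := by rw [hb]
          _ = dd := by group
      have := Finset.card_le_card (Finset.union_subset h10 h15)
      rw [Finset.card_union_of_disjoint hdisj] at this
      omega
    · exact hρn (Finset.mem_filter.2 ⟨Finset.mem_univ _, τ⁻¹, by rw [← hτ]; group⟩)
  have hSeq : S = Finset.univ.filter fun ρ : Equiv.Perm (Fin 5) => ∃ τ, τ * dd * τ⁻¹ = ρ := by
    refine Finset.eq_of_subset_of_card_le (fun σ hσ => ?_) (by omega)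
    obtain ⟨τ, hτ⟩ := hdd σ hσ
    exact Finset.mem_filter.2 ⟨Finset.mem_univ _, τ⁻¹, by rw [← hτ]; group⟩
  obtain ⟨τ₀, hτ₀⟩ := hdd (π ⟨L.u, L.mem_H.2 huy⟩)
    (Finset.mem_filter.2 ⟨Finset.mem_univ _, ⟨⟨L.u, L.mem_H.2 huy⟩, IsConj.refl _⟩, rfl⟩)
  refine ⟨(MulAut.conj τ₀).toMonoidHom.comp π, (MulAut.conj τ₀).surjective.comp hs, fun g => ?_, hτ₀, fun g hg => ?_, fun g hg => ?_⟩
  · rw [← hker g]
    simp
  · obtain ⟨τ, hτ⟩ := hdd (π g) (Finset.mem_filter.2 ⟨Finset.mem_univ _, ⟨g, hg⟩, rfl⟩)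
    refine ⟨τ * τ₀⁻¹, ?_⟩
    rw [← hτ]
    simp only [MonoidHom.coe_comp, MulEquiv.coe_toMonoidHom, Function.comp_apply, MulAut.conj_apply]
    group
  · obtain ⟨τ, hτ⟩ := hg
    obtain ⟨k, hk⟩ := (Finset.mem_filter.1 (hSeq ▸ Finset.mem_filter.2 ⟨Finset.mem_univ _, (τ * τ₀)⁻¹, by
      rw [← hτ]
      simp only [MonoidHom.coe_comp, MulEquiv.coe_toMonoidHom, Function.comp_apply, MulAut.conj_apply]
      group⟩ : π g ∈ S)).2
    rcases (hker (g⁻¹ * k.1)).1 (by rw [map_mul, map_inv, hk, inv_mul_cancel]) with h | h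
    · exact Or.inl (by rw [show (g : G) = (k.1 : G) from inv_mul_eq_one.1 h]; exact k.2)
    · refine Or.inr ?_
      rw [show (g : G) * L.y = (k.1 : G) from (inv_mul_eq_iff_eq_mul.1 h).symm]
      exact k.2

/-- The involutions of the second class commuting with both given ones. -/
theorem star (L : Local G) (huy : L.u * L.y = L.y * L.u) : ∃ c a : G,
    (IsConj L.y c ∧ c * L.u = L.u * c ∧ c * L.y = L.y * c) ∧
    (IsConj L.y a ∧ a * L.u = L.u * a ∧ a * L.y = L.y * a) ∧ IsConj L.y (a * L.y) ∧ IsConj L.u (L.y * c) ∧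
    a * c ≠ c * a ∧ a * c * (a * c) = L.u ∧ a * L.y * c * (a * L.y * c) = L.u ∧
    (∀ x : G, IsConj L.y x → x * L.u = L.u * x → x * L.y = L.y * x →
      x ∈ [L.y, L.y * L.u, c, c * L.u, a, a * L.u, a * L.y, a * L.y * L.u]) ∧
    Nat.card (centralizer ({L.y} : Set G) ⊓ centralizer ({L.u} : Set G) : Subgroup G) = 16 := by
  classical
  obtain ⟨π, hs, hker, hu, hall, hdbl⟩ := L.exists_pi huy
  obtain ⟨fd, ft, fs, ftd, fsd, fts, fd1, ft1, fs1, fsne, fsdne, ftdne, fsc, fsdc⟩ := perm_facts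
  set uH : ↥(centralizer ({L.y} : Set G)) := ⟨L.u, L.mem_H.2 huy⟩ with huH
  set yH : ↥(centralizer ({L.y} : Set G)) := ⟨L.y, L.mem_H.2 rfl⟩ with hyH
  have hy1 : π yH = 1 := (hker yH).2 (Or.inr rfl)
  have hyc : ∀ g : ↥(centralizer ({L.y} : Set G)), (g : G) * L.y = L.y * g := fun g => L.mem_H.1 g.2
  -- lifts
  have hclass : ∀ g : ↥(centralizer ({L.y} : Set G)), π g * π g = 1 → π g ≠ 1 →
      IsConj L.u (g : G) ∨ IsConj L.y (g : G) := fun g h h1 => by
    refine L.cover g (orderOf_eq_prime (by rw [pow_two]; exact L.image_sq hker g h) fun e => h1 ?_)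
    exact (hker g).2 (Or.inl e)
  have hlift : ∀ g g' : ↥(centralizer ({L.y} : Set G)), π g = π g' → (g' : G) = g ∨ (g' : G) = g * L.y := by
    intro g g' e
    rcases (hker (g⁻¹ * g')).1 (by rw [map_mul, map_inv, e, inv_mul_cancel]) with h | h
    · exact Or.inl (inv_mul_eq_one.1 h).symm
    · exact Or.inr (inv_mul_eq_iff_eq_mul.1 h)
  have hcomm : ∀ g k : ↥(centralizer ({L.y} : Set G)), π g * π g = 1 → π k * π k = 1 → π g * π k = π k * π g →
      (g : G) * k = k * g := by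
    intro g k hg hk hgk
    have h1 := L.image_sq hker (g * k) (by
      rw [map_mul, mul_assoc, ← mul_assoc (π k), ← hgk, mul_assoc (π g), hk, mul_one, hg])
    have hg' := L.image_sq hker g hg
    have hk' := L.image_sq hker k hk
    have h2 : (g : G) * k * (g * k) = 1 := h1
    calc (g : G) * k = ((g : G) * k)⁻¹ := eq_inv_of_mul_eq_one_left h2
      _ = k * g := by rw [mul_inv_rev, inv_eq_of_mul_eq_one_right hg', inv_eq_of_mul_eq_one_right hk']
  -- c
  obtain ⟨c₀, hc₀⟩ := hs ss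
  obtain ⟨cH, hcH, hcY, hcyU⟩ : ∃ cH : ↥(centralizer ({L.y} : Set G)), π cH = ss ∧ IsConj L.y (cH : G) ∧
      IsConj L.u (L.y * cH : G) := by
    rcases hdbl c₀ (by rw [hc₀]; exact fsc) with h | h
    · refine ⟨c₀ * yH, by rw [map_mul, hy1, hc₀, mul_one], L.flip_u _ h (hyc c₀), ?_⟩
      show IsConj L.u (L.y * ((c₀ : G) * L.y))
      rw [← mul_assoc, ← hyc c₀, mul_assoc, L.y_sq, mul_one]
      exact h
    · refine ⟨c₀, hc₀, ?_, by rw [← hyc c₀]; exact h⟩
      rcases hclass c₀ (by rw [hc₀, fs]) (by rw [hc₀]; exact fs1) with h' | h'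
      · exact absurd (L.flip_u _ h' (hyc c₀)) (fun hh => L.not_both h hh)
      · exact h'
  obtain ⟨aH, haH⟩ := hs tt
  have htrY : ∀ g : ↥(centralizer ({L.y} : Set G)), π g = tt → IsConj L.y (g : G) := by
    intro g hg
    refine (hclass g (by rw [hg, ft]) (by rw [hg]; exact ft1)).resolve_left fun h => ?_
    obtain ⟨τ, hτ⟩ := hall g h
    exact perm_count.2.2 τ (by rw [← hg]; exact hτ)
  have haY := htrY aH haH
  have hayY : IsConj L.y ((aH : G) * L.y) := htrY (aH * yH) (by rw [map_mul, hy1, haH, mul_one])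
  have hcu : (cH : G) * L.u = L.u * cH := hcomm cH uH (by rw [hcH, fs]) (by rw [hu, fd]) (by rw [hcH, hu, fsd])
  have hau : (aH : G) * L.u = L.u * aH := hcomm aH uH (by rw [haH, ft]) (by rw [hu, fd]) (by rw [haH, hu, ftd])
  have hsq : ∀ g : ↥(centralizer ({L.y} : Set G)), π g = tt →
      (g : G) * cH * (g * cH) = L.u := by
    intro g hg
    rcases hlift uH (g * cH * (g * cH)) (by rw [hu, map_mul, map_mul, hg, hcH, fts]) with h | h
    · exact h
    · exact absurd h (L.no_root' (L.flip_u _ (IsConj.refl _) huy) _)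
  refine ⟨cH, aH, ⟨hcY, hcu, hyc cH⟩, ⟨haY, hau, hyc aH⟩, hayY, hcyU, fun h => ?_, hsq aH haH,
    hsq (aH * yH) (by rw [map_mul, hy1, haH, mul_one]), fun x hx hxu hxy => ?_, ?_⟩
  · refine L.u_ne ?_
    rw [← hsq aH haH]
    conv_lhs => arg 2; rw [h]
    rw [← mul_assoc, mul_assoc (aH : G), L.image_sq hker cH (by rw [hcH, fs]), mul_one,
      L.image_sq hker aH (by rw [haH, ft])]
  · set xH : ↥(centralizer ({L.y} : Set G)) := ⟨x, L.mem_H.2 hxy⟩ with hxH
    have hx2 : π xH * π xH = 1 := by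
      rw [← map_mul, show xH * xH = 1 from Subtype.ext (by
        show x * x = 1
        rw [← pow_two, ← L.order_of_y hx, pow_orderOf_eq_one]), map_one]
    have hnotu : ∀ z, x = z → IsConj L.u z → False := fun z e hz => L.not_both hz (e ▸ hx)
    by_cases h1 : π xH = 1
    · rcases (hker xH).1 h1 with h | h
      · have := L.order_of_y hx
        rw [show x = 1 from h, orderOf_one] at this
        norm_num at this
      · simp [show x = L.y from h]
    have hxd : π xH * dd = dd * π xH := by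
      rw [← hu, ← map_mul, ← map_mul]
      exact congrArg π (Subtype.ext hxu)
    have hmem := perm_star _ hx2 h1 hxd
    simp only [List.mem_cons, List.not_mem_nil, or_false] at hmem ⊢
    rcases hmem with e | e | e | e | e
    · rcases hlift uH xH (hu.trans e.symm) with h | h
      · exact absurd (IsConj.refl L.u) fun hh => hnotu _ h hh
      · exact Or.inr (Or.inl ((show x = L.u * L.y from h).trans huy))
    · rcases hlift aH xH (haH.trans e.symm) with h | h
      · exact Or.inr (Or.inr (Or.inr (Or.inr (Or.inl h))))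
      · exact Or.inr (Or.inr (Or.inr (Or.inr (Or.inr (Or.inr (Or.inl h))))))
    · rcases hlift (aH * uH) xH (by rw [map_mul, haH, hu, e]) with h | h
      · exact Or.inr (Or.inr (Or.inr (Or.inr (Or.inr (Or.inl h)))))
      · refine Or.inr (Or.inr (Or.inr (Or.inr (Or.inr (Or.inr (Or.inr ?_))))))
        show x = (aH : G) * L.y * L.u
        rw [mul_assoc, ← huy, ← mul_assoc]
        exact h
    · rcases hlift cH xH (hcH.trans e.symm) with h | h
      · exact Or.inr (Or.inr (Or.inl h))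
      · exact (hnotu _ ((show x = (cH : G) * L.y from h).trans (hyc cH)) hcyU).elim
    · rcases hlift (cH * uH) xH (by rw [map_mul, hcH, hu, e]) with h | h
      · exact Or.inr (Or.inr (Or.inr (Or.inl h)))
      · exfalso
        have hY : IsConj L.y ((cH : G) * L.u) := L.flip_y _ hcY hcu
        rcases hdbl xH (by rw [e]; exact fsdc) with h' | h'
        · exact L.not_both h' hx
        · rw [show (xH : G) * L.y = (cH : G) * L.u by
            rw [h]
            show (cH : G) * L.u * L.y * L.y = (cH : G) * L.u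
            rw [mul_assoc, L.y_sq, mul_one]] at h'
          exact L.not_both h' hY
  · have h := CfsgLib.Invol.JTwo.card_orbit_mul (centralizer ({L.y} : Set G)) L.u
    have he : Nat.card {x : G // ∃ k ∈ centralizer ({L.y} : Set G), k * L.u * k⁻¹ = x} =
        Nat.card {x : G // IsConj L.u x ∧ x * L.y = L.y * x} := by
      refine Nat.card_congr (Equiv.subtypeEquivRight fun x => ⟨fun ⟨k, hk, e⟩ => ?_, fun ⟨hx, hxy⟩ => ?_⟩)
      · refine ⟨isConj_iff.2 ⟨k, e⟩, L.mem_H.1 ?_⟩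
        rw [← e]
        exact mul_mem (mul_mem hk uH.2) (inv_mem hk)
      · set xH : ↥(centralizer ({L.y} : Set G)) := ⟨x, L.mem_H.2 hxy⟩ with hxH
        have hx2 : π xH * π xH = 1 := by
          rw [← map_mul, show xH * xH = 1 from Subtype.ext (by
            show x * x = 1
            rw [← pow_two, ← L.order_of_u hx, pow_orderOf_eq_one]), map_one]
        have hx1 : π xH ≠ 1 := fun e => by
          rcases (hker xH).1 e with h' | h'
          · have := L.order_of_u hx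
            rw [show x = 1 from h', orderOf_one] at this
            norm_num at this
          · exact L.not_conj ((show x = L.y from h') ▸ hx)
        rcases perm_invol _ hx2 hx1 with ⟨τ, hτ⟩ | ⟨τ, hτ⟩
        · obtain ⟨k, rfl⟩ := hs τ
          refine ⟨(k⁻¹ : ↥(centralizer ({L.y} : Set G))), (k⁻¹).2, ?_⟩
          rcases hlift (k⁻¹ * uH * k) xH (by rw [map_mul, map_mul, map_inv, hu, ← hτ]; group) with h' | h'
          · rw [show x = _ from h']
            show (k : G)⁻¹ * L.u * ((k : G)⁻¹)⁻¹ = (k : G)⁻¹ * L.u * k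
            rw [inv_inv]
          · exfalso
            refine L.not_both hx ?_
            rw [show x = _ from h']
            refine L.flip_u _ (isConj_iff.2 ⟨(k : G)⁻¹, ?_⟩) (hyc _)
            show (k : G)⁻¹ * L.u * ((k : G)⁻¹)⁻¹ = (k : G)⁻¹ * L.u * k
            rw [inv_inv]
        · exfalso
          obtain ⟨k, rfl⟩ := hs τ
          exact L.not_both (hx.trans (isConj_iff.2 ⟨k, rfl⟩))
            (htrY (k * xH * k⁻¹) (by rw [map_mul, map_mul, map_inv, hτ]))
    rw [L.cent_y, he, L.count_uy] at h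
    omega

end Local

end CfsgLib.Char.MTwelveOrder
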