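import Cfsg.Agent.Lib.Char.MTwelveOrder.Local
import Cfsg.Agent.S5945
import Cfsg.Agent.Lib.Invol.JTwo.Center

/-!
# The centralizer of an involution of the second class
-/

set_option autoImplicit false
set_option linter.all false

namespace CfsgLib.Char.MTwelveOrder

open Subgroup

namespace Local

variable {G : Type*} [Group G]

/-- The same data around a conjugate of the first involution. -/
def moveU (L : Local G) (g : G) : Local G where
  u := g * L.u * g⁻¹
  y := L.y
  f := L.f
  u_order := by rw [← L.u_order]; exact (orderOf_injective (MulAut.conj g).toMonoidHom (MulAut.conj g).injective L.u)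
  y_order := L.y_order
  f_order := L.f_order
  cover := fun x hx => (L.cover x hx).imp_left fun h => (isConj_iff.2 ⟨g, rfl⟩ : IsConj L.u _).symm.trans h
  not_conj := fun h => L.not_conj ((isConj_iff.2 ⟨g, rfl⟩ : IsConj L.u _).trans h)
  cent_u := by
    rw [← L.cent_u]
    refine Nat.card_congr (Equiv.subtypeEquiv (MulAut.conj g⁻¹).toEquiv fun x => ?_)
    rw [mem_centralizer_singleton_iff, mem_centralizer_singleton_iff]
    simp only [MulEquiv.toEquiv_eq_coe, EquivLike.coe_coe, MulAut.conj_apply, inv_inv]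
    constructor <;> intro h
    · calc g⁻¹ * x * g * L.u = g⁻¹ * (x * (g * L.u * g⁻¹)) * g := by group
        _ = g⁻¹ * (g * L.u * g⁻¹ * x) * g := by rw [h]
        _ = _ := by group
    · calc x * (g * L.u * g⁻¹) = g * (g⁻¹ * x * g * L.u) * g⁻¹ := by group
        _ = g * (L.u * (g⁻¹ * x * g)) * g⁻¹ := by rw [h]
        _ = _ := by group
  cent_y := L.cent_y
  f_comm := L.f_comm
  cent_f := L.cent_f
  count_uu := by
    rw [← L.count_uu]
    refine Nat.card_congr (Equiv.subtypeEquiv (MulAut.conj g⁻¹).toEquiv fun x => ?_)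
    simp only [MulEquiv.toEquiv_eq_coe, EquivLike.coe_coe, MulAut.conj_apply, inv_inv]
    refine and_congr ⟨fun h => ?_, fun h => ?_⟩ ⟨fun h => ?_, fun h => ?_⟩
    · exact ((isConj_iff.2 ⟨g, rfl⟩ : IsConj L.u _).trans h).trans (isConj_iff.2 ⟨g⁻¹, by group⟩)
    · exact ((isConj_iff.2 ⟨g, rfl⟩ : IsConj L.u _).symm.trans h).trans (isConj_iff.2 ⟨g, by group⟩)
    · calc g⁻¹ * x * g * L.u = g⁻¹ * (x * (g * L.u * g⁻¹)) * g := by group
        _ = g⁻¹ * (g * L.u * g⁻¹ * x) * g := by rw [h]
        _ = _ := by group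
    · calc x * (g * L.u * g⁻¹) = g * (g⁻¹ * x * g * L.u) * g⁻¹ := by group
        _ = g * (L.u * (g⁻¹ * x * g)) * g⁻¹ := by rw [h]
        _ = _ := by group
  count_uy := by
    rw [← L.count_uy]
    exact Nat.card_congr (Equiv.subtypeEquivRight fun x => and_congr
      ⟨fun h => (isConj_iff.2 ⟨g, rfl⟩ : IsConj L.u _).trans h,
        fun h => (isConj_iff.2 ⟨g, rfl⟩ : IsConj L.u _).symm.trans h⟩ Iff.rfl)
  count_yu := by
    rw [← L.count_yu]
    refine Nat.card_congr (Equiv.subtypeEquiv (MulAut.conj g⁻¹).toEquiv fun x => ?_)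
    simp only [MulEquiv.toEquiv_eq_coe, EquivLike.coe_coe, MulAut.conj_apply, inv_inv]
    refine and_congr ⟨fun h => ?_, fun h => ?_⟩ ⟨fun h => ?_, fun h => ?_⟩
    · exact h.trans (isConj_iff.2 ⟨g⁻¹, by group⟩)
    · exact h.trans (isConj_iff.2 ⟨g, by group⟩)
    · calc g⁻¹ * x * g * L.u = g⁻¹ * (x * (g * L.u * g⁻¹)) * g := by group
        _ = g⁻¹ * (g * L.u * g⁻¹ * x) * g := by rw [h]
        _ = _ := by group
    · calc x * (g * L.u * g⁻¹) = g * (g⁻¹ * x * g * L.u) * g⁻¹ := by group
        _ = g * (L.u * (g⁻¹ * x * g)) * g⁻¹ := by rw [h]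
        _ = _ := by group
  count_yy := L.count_yy
  flip_u := fun x hx => L.flip_u x ((isConj_iff.2 ⟨g, rfl⟩ : IsConj L.u _).trans hx)
  flip_y := fun x hx hc => by
    have h := L.flip_y (g⁻¹ * x * g) (hx.trans (isConj_iff.2 ⟨g⁻¹, by group⟩)) (by
      calc g⁻¹ * x * g * L.u = g⁻¹ * (x * (g * L.u * g⁻¹)) * g := by group
        _ = g⁻¹ * (g * L.u * g⁻¹ * x) * g := by rw [hc]
        _ = _ := by group)
    exact h.trans (isConj_iff.2 ⟨g, by group⟩)
  no_root := L.no_root

variable (L : Local G)

theorem mem_H {g : G} : g ∈ centralizer ({L.y} : Set G) ↔ g * L.y = L.y * g := mem_centralizer_singleton_iff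

theorem u_sq : L.u * L.u = 1 := by rw [← pow_two, ← L.u_order, pow_orderOf_eq_one]

theorem y_sq : L.y * L.y = 1 := by rw [← pow_two, ← L.y_order, pow_orderOf_eq_one]

theorem u_ne : L.u ≠ 1 := fun h => by have := L.u_order; rw [h, orderOf_one] at this; norm_num at this

theorem y_ne : L.y ≠ 1 := fun h => by have := L.y_order; rw [h, orderOf_one] at this; norm_num at this

theorem order_of_y {x : G} (h : IsConj L.y x) : orderOf x = 2 := by
  obtain ⟨g, rfl⟩ := isConj_iff.1 h
  rw [← L.y_order]
  exact orderOf_injective (MulAut.conj g).toMonoidHom (MulAut.conj g).injective L.y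

theorem order_of_u {x : G} (h : IsConj L.u x) : orderOf x = 2 := by
  obtain ⟨g, rfl⟩ := isConj_iff.1 h
  rw [← L.u_order]
  exact orderOf_injective (MulAut.conj g).toMonoidHom (MulAut.conj g).injective L.u

theorem not_both {x : G} (hu : IsConj L.u x) (hy : IsConj L.y x) : False := L.not_conj (hu.trans hy.symm)

/-- No conjugate of `y` is a square. -/
theorem no_root' {x : G} (h : IsConj L.y x) (g : G) : g * g ≠ x := by
  obtain ⟨k, rfl⟩ := isConj_iff.1 h
  intro e
  refine L.no_root (k⁻¹ * g * k) ?_
  rw [show k⁻¹ * g * k * (k⁻¹ * g * k) = k⁻¹ * (g * g) * k by group, e]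
  group

/-- The two involutions may be taken to commute. -/
theorem exists_comm [Finite G] (L : Local G) : ∃ L' : Local G, L'.u * L'.y = L'.y * L'.u := by
  have hne : Nonempty {x : G // IsConj L.u x ∧ x * L.y = L.y * x} :=
    (Nat.card_pos_iff.1 (by rw [L.count_uy]; norm_num)).1
  obtain ⟨x, hx, hxy⟩ := hne
  obtain ⟨g, rfl⟩ := isConj_iff.1 hx
  exact ⟨L.moveU g, hxy⟩

variable [Finite G]

theorem cent_f_comm {g : G} (hg : g * L.f = L.f * g) : ∃ k : ℤ, (L.f * L.y) ^ k = g := by
  have ho : orderOf (L.f * L.y) = 10 := by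
    rw [(show Commute L.f L.y from L.f_comm).orderOf_mul_eq_mul_orderOf_of_coprime
      (by rw [L.f_order, L.y_order]; norm_num), L.f_order, L.y_order]
  have hle : zpowers (L.f * L.y) ≤ centralizer ({L.f} : Set G) := by
    rw [zpowers_le, mem_centralizer_singleton_iff, mul_assoc, ← L.f_comm, ← mul_assoc]
  have he := eq_of_le_of_card_ge hle (by rw [L.cent_f, Nat.card_zpowers, ho])
  exact mem_zpowers_iff.1 (he ▸ mem_centralizer_singleton_iff.2 hg)

/-- The centralizer of `y` maps onto the symmetric group of degree five, with `y` spanning the kernel. -/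
theorem exists_hom : ∃ π : ↥(centralizer ({L.y} : Set G)) →* Equiv.Perm (Fin 5), Function.Surjective π ∧
    ∀ g : ↥(centralizer ({L.y} : Set G)), π g = 1 ↔ (g : G) = 1 ∨ (g : G) = L.y := by
  classical
  set H := centralizer ({L.y} : Set G) with hHdef
  have hH : Nat.card H = 240 := L.cent_y
  haveI : Fact (Nat.Prime 5) := ⟨by norm_num⟩
  set fH : H := ⟨L.f, L.mem_H.2 L.f_comm⟩ with hfH
  set yH : H := ⟨L.y, L.mem_H.2 rfl⟩ with hyH
  have hf5 : orderOf fH = 5 := by
    rw [← L.f_order]; exact (orderOf_injective H.subtype H.subtype_injective fH).symm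
  have hfac : (240 : ℕ).factorization 5 = 1 := by
    rw [show (240 : ℕ) = 5 ^ 1 * 48 by norm_num, Nat.factorization_mul (by norm_num) (by norm_num)]
    simp [Nat.Prime.factorization_pow (show Nat.Prime 5 by norm_num),
      Nat.Prime.factorization_self (show Nat.Prime 5 by norm_num),
      Nat.factorization_eq_zero_of_not_dvd (show ¬ (5 : ℕ) ∣ 48 by norm_num)]
  set P : Sylow 5 H := Sylow.ofCard (zpowers fH) (by rw [Nat.card_zpowers, hf5, hH, hfac, pow_one]) with hPdef
  have hPz : (P : Subgroup H) = zpowers fH := rfl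
  have hP5 : Nat.card (P : Subgroup H) = 5 := by rw [hPz, Nat.card_zpowers, hf5]
  have hC : ∀ k : H, k * fH = fH * k → ∃ i : ℤ, (fH * yH) ^ i = k := by
    intro k hk
    obtain ⟨i, hi⟩ := L.cent_f_comm (congrArg Subtype.val hk)
    exact ⟨i, Subtype.ext (by rw [coe_zpow]; exact hi)⟩
  have hCard : Nat.card (centralizer ({fH} : Set H)) = 10 := by
    rw [← L.cent_f]
    refine Nat.card_congr
      { toFun := fun k => ⟨(k.1 : G), mem_centralizer_singleton_iff.2
          (congrArg Subtype.val (mem_centralizer_singleton_iff.1 k.2))⟩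
        invFun := fun g => ⟨⟨g.1, L.mem_H.2 (by
            obtain ⟨i, hi⟩ := L.cent_f_comm (mem_centralizer_singleton_iff.1 g.2)
            rw [← hi]
            exact ((show Commute (L.f * L.y) L.y from
              (Commute.mul_left L.f_comm (Commute.refl L.y))).zpow_left i).eq)⟩,
          mem_centralizer_singleton_iff.2 (Subtype.ext (mem_centralizer_singleton_iff.1 g.2))⟩
        left_inv := fun k => rfl
        right_inv := fun g => rfl }
  have hn1 : Nat.card (Sylow 5 H) ≠ 1 := by
    intro h1
    have hu : ∀ k : H, k * fH * k⁻¹ ∈ zpowers fH := fun k => by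
      haveI := (Nat.card_eq_one_iff_unique.1 h1).1
      have hmem : k * fH * k⁻¹ ∈ ((k • P : Sylow 5 H) : Subgroup H) := by
        rw [Sylow.coe_subgroup_smul]
        exact ⟨fH, by rw [hPz]; exact mem_zpowers fH, rfl⟩
      rw [Subsingleton.elim (k • P) P, hPz] at hmem
      exact hmem
    have h := CfsgLib.Invol.JTwo.card_orbit_mul (⊤ : Subgroup H) fH
    rw [top_inf_eq, hCard, card_top, hH] at h
    have hle : Nat.card {x : H // ∃ c ∈ (⊤ : Subgroup H), c * fH * c⁻¹ = x} ≤ Nat.card (zpowers fH) :=
      Nat.card_le_card_of_injective (fun x => ⟨x.1, by obtain ⟨c, -, e⟩ := x.2; exact e ▸ hu c⟩)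
        fun a b e => Subtype.ext (congrArg (fun t => (t.1 : H)) e)
    rw [Nat.card_zpowers, hf5] at hle
    omega
  have hnorm : Nat.card (normalizer (P : Set H)) * Nat.card (Sylow 5 H) = 240 := by
    rw [P.card_eq_index_normalizer, card_mul_index, hH]
  have hCN : centralizer ({fH} : Set H) ≤ normalizer (P : Set H) := by
    intro k hk
    obtain ⟨i, rfl⟩ := hC k (mem_centralizer_singleton_iff.1 hk)
    refine zpow_mem (mul_mem (le_normalizer (hPz ▸ mem_zpowers fH)) ?_) i
    rw [mem_set_normalizer_iff]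
    intro h
    rw [show yH * h * yH⁻¹ = h from mul_inv_eq_iff_eq_mul.2 (Subtype.ext (L.mem_H.1 h.2).symm)]
  have hn : Nat.card (Sylow 5 H) = 6 := by
    have hmod : Nat.card (Sylow 5 H) % 5 = 1 := card_sylow_modEq_one 5 H
    have hd : Nat.card (Sylow 5 H) ∣ 48 := by
      have h := P.card_dvd_index
      have := (P : Subgroup H).card_mul_index
      rw [hP5, hH] at this
      rwa [show (P : Subgroup H).index = 48 by omega] at h
    have hlt : Nat.card (Sylow 5 H) ≤ 48 := Nat.le_of_dvd (by norm_num) hd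
    have hdvd := Subgroup.card_dvd_of_le hCN
    rw [hCard] at hdvd
    generalize Nat.card (Sylow 5 H) = n at *
    generalize Nat.card (normalizer (P : Set H)) = m at *
    obtain ⟨d, rfl⟩ := hdvd
    interval_cases n <;> omega
  let eS : Sylow 5 H ≃ Fin 6 := Finite.equivFinOfCardEq hn
  let φ : H →* Equiv.Perm (Fin 6) := eS.permCongrHom.toMonoidHom.comp (MulAction.toPermHom H (Sylow 5 H))
  have hφ : ∀ k : H, φ k = 1 ↔ ∀ Q : Sylow 5 H, k • Q = Q := by
    intro k
    simp only [φ, MonoidHom.coe_comp, MulEquiv.coe_toMonoidHom, Function.comp_apply, MulEquiv.map_eq_one_iff,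
      Equiv.Perm.ext_iff, MulAction.toPermHom_apply, MulAction.toPerm_apply, Equiv.Perm.one_apply]
  have hker : ∀ k : H, φ k = 1 ↔ (k : G) = 1 ∨ (k : G) = L.y := by
    intro k
    constructor
    · intro hk
      have hfix := (hφ k).1 hk
      have hfk : fH ∉ φ.ker := by
        intro hf
        haveI : Subsingleton (Sylow 5 H) := by
          refine ⟨fun Q R => ?_⟩
          have hall : ∀ S : Sylow 5 H, (S : Subgroup H) = zpowers fH := by
            intro S
            have hS5 : Nat.card (S : Subgroup H) = 5 := by rw [S.card_eq_multiplicity, hH, hfac, pow_one]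
            have hfn : fH ∈ normalizer (S : Set H) :=
              Sylow.smul_eq_iff_mem_normalizer.1 ((hφ fH).1 (MonoidHom.mem_ker.1 hf) S)
            have hpg : IsPGroup 5 (zpowers fH) := IsPGroup.of_card (n := 1) (by rw [Nat.card_zpowers, hf5, pow_one])
            have hle : zpowers fH ≤ (S : Subgroup H) := by
              have h1 := hpg.inf_normalizer_sylow S
              rw [inf_eq_left.2 (zpowers_le.2 hfn)] at h1
              exact h1.le.trans inf_le_right
            exact (eq_of_le_of_card_ge hle (by rw [hS5, Nat.card_zpowers, hf5])).symm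
          exact Sylow.ext ((hall Q).trans (hall R).symm)
        have := Nat.card_of_subsingleton P
        omega
      have hkf : k * fH * k⁻¹ * fH⁻¹ = 1 := by
        have h1 : k * fH * k⁻¹ * fH⁻¹ ∈ φ.ker := by
          rw [MonoidHom.mem_ker, map_mul, map_mul, map_mul, map_inv, map_inv, hk]
          simp
        have hkn := Sylow.smul_eq_iff_mem_normalizer.1 (hfix P)
        have h2 : k * fH * k⁻¹ * fH⁻¹ ∈ zpowers fH :=
          mul_mem ((mem_set_normalizer_iff.1 hkn fH).1 (mem_zpowers fH)) (inv_mem (mem_zpowers fH))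
        by_contra hne
        refine hfk ?_
        have hle : zpowers (k * fH * k⁻¹ * fH⁻¹) ≤ zpowers fH := zpowers_le.2 h2
        have heq : zpowers (k * fH * k⁻¹ * fH⁻¹) = zpowers fH := by
          refine eq_of_le_of_card_ge hle ?_
          have hd := Subgroup.card_dvd_of_le hle
          rw [Nat.card_zpowers fH, hf5] at hd ⊢
          rcases (Nat.dvd_prime (by norm_num)).1 hd with h | h
          · exact absurd (zpowers_eq_bot.1 (eq_bot_of_card_eq _ h)) hne
          · omega
        exact (zpowers_le.2 h1) (heq ▸ mem_zpowers fH)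
      obtain ⟨i, hi⟩ := hC k (by
        calc k * fH = k * fH * k⁻¹ * fH⁻¹ * fH * k := by group
          _ = _ := by rw [hkf, one_mul])
      have hc : Commute fH yH := Subtype.ext L.f_comm
      have hi' : fH ^ i * yH ^ i = k := by rw [← hc.mul_zpow]; exact hi
      have hy1 : φ yH = 1 := (hφ yH).2 fun Q => Sylow.smul_eq_iff_mem_normalizer.2 (by
        rw [mem_set_normalizer_iff]
        intro h
        rw [show yH * h * yH⁻¹ = h from mul_inv_eq_iff_eq_mul.2 (Subtype.ext (L.mem_H.1 h.2).symm)])
      have hfi : fH ^ i ∈ φ.ker := by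
        have : φ (fH ^ i) = 1 := by
          have h := congrArg φ hi'
          rw [map_mul, map_zpow φ yH, hy1, one_zpow, mul_one, hk] at h
          exact h
        exact MonoidHom.mem_ker.2 this
      have h5 : fH ^ i = 1 := by
        by_contra hne
        refine hfk ?_
        have heq : zpowers (fH ^ i) = zpowers fH := by
          refine eq_of_le_of_card_ge (zpowers_le.2 (zpow_mem (mem_zpowers fH) i)) ?_
          have hd := Subgroup.card_dvd_of_le (zpowers_le.2 (zpow_mem (mem_zpowers fH) i) :
            zpowers (fH ^ i) ≤ zpowers fH)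
          rw [Nat.card_zpowers fH, hf5] at hd ⊢
          rcases (Nat.dvd_prime (by norm_num)).1 hd with h | h
          · exact absurd (zpowers_eq_bot.1 (eq_bot_of_card_eq _ h)) hne
          · omega
        exact (zpowers_le.2 hfi) (heq ▸ mem_zpowers fH)
      rw [h5, one_mul] at hi'
      rw [← hi', coe_zpow]
      show L.y ^ i = 1 ∨ L.y ^ i = L.y
      rw [← zpow_mod_orderOf, L.y_order]
      rcases Int.emod_two_eq_zero_or_one i with h | h <;> simp [h]
    · intro hk
      rw [hφ]
      intro Q
      rw [Sylow.smul_eq_iff_mem_normalizer, mem_set_normalizer_iff]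
      intro h
      rw [show k * h * k⁻¹ = h from mul_inv_eq_iff_eq_mul.2 (Subtype.ext ?_)]
      rcases hk with hk | hk
      · show (k : G) * h = h * k
        rw [hk, one_mul, mul_one]
      · show (k : G) * h = h * k
        rw [hk]
        exact (L.mem_H.1 h.2).symm
  have hK : Nat.card φ.ker = 2 := by
    refine Nat.card_eq_two_iff.2 ⟨⟨1, one_mem _⟩, ⟨yH, MonoidHom.mem_ker.2 ((hker yH).2 (Or.inr rfl))⟩, ?_, ?_⟩
    · exact fun h => L.y_ne (congrArg (fun t : φ.ker => ((t : H) : G)) h).symm
    · refine Set.eq_univ_of_forall fun k => ?_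
      rcases (hker k.1).1 (MonoidHom.mem_ker.1 k.2) with h | h
      · exact Or.inl (Subtype.ext (Subtype.ext h))
      · exact Or.inr (Subtype.ext (Subtype.ext h))
  have hidx : φ.range.index = 6 := by
    have h1 := φ.ker.card_mul_index
    rw [index_ker, hK, hH] at h1
    have h2 := φ.range.card_mul_index
    rw [Nat.card_perm, Nat.card_fin, show Nat.factorial 6 = 720 from rfl] at h2
    nlinarith
  obtain ⟨e⟩ := Cfsg.Agent.S5945.result.2.1 φ.range hidx
  refine ⟨e.toMonoidHom.comp φ.rangeRestrict, e.surjective.comp φ.rangeRestrict_surjective, fun g => ?_⟩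
  rw [← hker g]
  simp [Subtype.ext_iff]

end Local

end CfsgLib.Char.MTwelveOrder
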