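import Cfsg.Agent.Lib.Char.MTwelveOrder.Tools

/-!
# Inverting pairs, invariants of subgroups and a centralizer in degree twelve
-/

set_option autoImplicit false
set_option linter.all false

open Cfsg CfsgLib.Perm.PrimeBlock CfsgLib.Block Finset CfsgLib.Char.MEleven.Order

namespace CfsgLib.Char.MTwelveOrder

universe u

variable {G : Type u} [Group G] [Finite G]

/-- The conjugates of `u` inverting `x`. -/
noncomputable def inverters (u x : G) : Finset G :=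
  (Set.toFinite {a : G | IsConj u a ∧ a * x * a⁻¹ = x⁻¹}).toFinset

theorem mem_inverters {u x a : G} : a ∈ inverters u x ↔ IsConj u a ∧ a * x * a⁻¹ = x⁻¹ := by
  simp [inverters]

theorem inverts_of_pair {p : ℕ} [hp : Fact p.Prime] {u x k a b : G} (hu : orderOf u = 2)
    (hx : orderOf x = p) (hk : ¬ p ∣ orderOf k) (hc : Commute x k) (ha : IsConj u a)
    (hb : IsConj u b) (hab : a * b = x * k) :
    a * x * a⁻¹ = x⁻¹ ∧ b * x * b⁻¹ = x⁻¹ := by
  obtain ⟨h1, h2, hinv, -⟩ := pair_inverts hu ha hb hab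
  have hcop : Nat.Coprime p (orderOf k) := (Nat.Prime.coprime_iff_not_dvd hp.out).2 hk
  obtain ⟨m, hm1, hm2⟩ := Nat.chineseRemainder hcop 1 0
  have hxm : (x * k) ^ m = x := by
    rw [hc.mul_pow, show x ^ m = x ^ 1 from pow_eq_pow_iff_modEq.2 (by rwa [hx]),
      show k ^ m = k ^ 0 from pow_eq_pow_iff_modEq.2 hm2, pow_zero, mul_one, pow_one]
  have hai : a * x * a⁻¹ = x⁻¹ := by
    rw [← hxm, ← conj_pow, hinv, inv_pow]
  refine ⟨hai, ?_⟩
  have hb' : b = a * (x * k) := by rw [← hab, ← mul_assoc, h1, one_mul]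
  have hkx : k * x * k⁻¹ = x := by rw [← hc.eq, mul_inv_cancel_right]
  calc b * x * b⁻¹ = a * (x * (k * x * k⁻¹) * x⁻¹) * a⁻¹ := by rw [hb']; group
    _ = x⁻¹ := by rw [hkx, mul_inv_cancel_right, hai]

variable [Fintype G]

/-- The pairs with product in the coset `x K` are a `p`-th part of all pairs of inverters. -/
theorem exists_sq {p c : ℕ} [hp : Fact p.Prime] (hodd : p ≠ 2) (P : Sylow p G)
    (hP : Nat.card (P : Subgroup G) = p)
    (hC : Nat.card (Subgroup.centralizer ((P : Subgroup G) : Set G)) = p * c)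
    {x : G} (hx : x ∈ (P : Subgroup G)) (hx1 : x ≠ 1) {u : G} (hu : orderOf u = 2) :
    p * (∑ y ∈ regCent p (P : Subgroup G), CfsgLib.Char.classConst u u (x * y)) =
      (inverters u x).card * (inverters u x).card := by
  classical
  obtain ⟨K, hK⟩ := CfsgLib.Block.Cyclic.exists_regular_subgroup (Q := (P : Subgroup G)) hP
    (CfsgLib.Block.Cyclic.not_sq_dvd_of_sylow hP)
  set C := Subgroup.centralizer ((P : Subgroup G) : Set G) with hCdef
  have hKR : ∀ y, y ∈ regCent p (P : Subgroup G) ↔ y ∈ K := fun y => by rw [mem_regCent, hK]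
  have hxo : orderOf x = p := orderOf_mem hP hx hx1
  have hcomK : ∀ y ∈ K, Commute x y := fun y hy => Subgroup.mem_centralizer_iff.1 ((hK y).1 hy).1 x hx
  have hxC : x ∈ C := by
    haveI : IsMulCommutative (P : Subgroup G) := (isCyclic_of_prime_card hP).isMulCommutative
    exact Subgroup.le_centralizer _ hx
  have hcomC : ∀ g : G, Commute x g → g ∈ C := fun g hg =>
    (CfsgLib.Block.Cyclic.mem_centralizer_iff_commute hP hx hx1 g).2 hg.symm
  -- uniqueness of the decomposition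
  have huniq : ∀ i j : Fin p, ∀ y ∈ K, ∀ y' ∈ K, x ^ (i : ℕ) * y = x ^ (j : ℕ) * y' → i = j ∧ y = y' := by
    intro i j y hy y' hy' e
    have e2 : (x ^ (j : ℕ))⁻¹ * x ^ (i : ℕ) = y' * y⁻¹ := by
      rw [inv_mul_eq_iff_eq_mul, ← mul_assoc, ← e, mul_inv_cancel_right]
    have hmemK : (x ^ (j : ℕ))⁻¹ * x ^ (i : ℕ) ∈ K := e2 ▸ K.mul_mem hy' (K.inv_mem hy)
    have hmemP : (x ^ (j : ℕ))⁻¹ * x ^ (i : ℕ) ∈ (P : Subgroup G) :=
      mul_mem (inv_mem (pow_mem hx _)) (pow_mem hx _)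
    have h1 : (x ^ (j : ℕ))⁻¹ * x ^ (i : ℕ) = 1 := by
      by_contra hne
      exact ((hK _).1 hmemK).2 (by rw [orderOf_mem hP hmemP hne])
    rw [h1] at e2
    rw [inv_mul_eq_one] at h1
    exact ⟨Fin.ext (pow_injOn_Iio_orderOf (by rw [hxo]; exact i.2) (by rw [hxo]; exact j.2) h1.symm),
      (mul_inv_eq_one.1 e2.symm).symm⟩
  have hcardK : Nat.card K = c := by
    rw [← card_regCent P hP hC, ← Fintype.card_coe, ← Nat.card_eq_fintype_card]
    exact Nat.card_congr (Equiv.subtypeEquivRight fun y => (hKR y).symm)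
  have hsurj : ∀ g ∈ C, ∃ i : Fin p, ∃ y ∈ K, x ^ (i : ℕ) * y = g := by
    let f : Fin p × K → C := fun q => ⟨x ^ (q.1 : ℕ) * q.2, mul_mem (pow_mem hxC _) ((hK _).1 q.2.2).1⟩
    have hf : Function.Injective f := fun q q' e => by
      obtain ⟨h1, h2⟩ := huniq _ _ _ q.2.2 _ q'.2.2 (congrArg Subtype.val e)
      exact Prod.ext h1 (Subtype.ext h2)
    have hb := Function.Injective.bijective_of_nat_card_le hf (by
      rw [Nat.card_prod, Nat.card_fin, hcardK, hC])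
    intro g hg
    obtain ⟨⟨i, y⟩, e⟩ := hb.2 ⟨g, hg⟩
    exact ⟨i, y, y.2, congrArg Subtype.val e⟩
  -- the pairs
  let Q : Type u := {q : G × G // IsConj u q.1 ∧ IsConj u q.2 ∧ ∃ y ∈ K, q.1 * q.2 = x * y}
  have hQcard : Nat.card Q = ∑ y ∈ regCent p (P : Subgroup G), CfsgLib.Char.classConst u u (x * y) := by
    rw [← Finset.sum_coe_sort]
    simp only [CfsgLib.Char.classConst]
    rw [← Nat.card_sigma]
    refine (Nat.card_congr (Equiv.ofBijective
      (fun s : Σ y : regCent p (P : Subgroup G),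
          {q : G × G // IsConj u q.1 ∧ IsConj u q.2 ∧ q.1 * q.2 = x * (y : G)} =>
        (⟨s.2.1, s.2.2.1, s.2.2.2.1, (s.1 : G), (hKR _).1 s.1.2, s.2.2.2.2⟩ : Q)) ⟨?_, ?_⟩)).symm
    · rintro ⟨⟨y, hy⟩, ⟨q, hq⟩⟩ ⟨⟨y', hy'⟩, ⟨q', hq'⟩⟩ e
      obtain rfl : q = q' := congrArg Subtype.val e
      obtain rfl : y = y' := mul_left_cancel (hq.2.2.symm.trans hq'.2.2)
      rfl
    · rintro ⟨q, h1, h2, y, hy, h3⟩
      exact ⟨⟨⟨y, (hKR y).2 hy⟩, ⟨q, h1, h2, h3⟩⟩, rfl⟩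
  rw [← hQcard, ← Finset.card_product, ← Fintype.card_coe, ← Nat.card_eq_fintype_card]
  nth_rewrite 1 [← Nat.card_fin p]
  rw [mul_comm, ← Nat.card_prod]
  have hmemA : ∀ (q : Q) (i : Fin p),
      (x ^ (i : ℕ) * q.1.1 * (x ^ (i : ℕ))⁻¹, q.1.2) ∈ inverters u x ×ˢ inverters u x := by
    rintro ⟨⟨a, b⟩, ha, hb, y, hy, hab⟩ i
    obtain ⟨hai, hbi⟩ := inverts_of_pair hu hxo ((hK y).1 hy).2 (hcomK y hy) ha hb hab
    refine Finset.mem_product.2 ⟨mem_inverters.2 ⟨ha.trans (isConj_iff.2 ⟨x ^ (i : ℕ), rfl⟩), ?_⟩,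
      mem_inverters.2 ⟨hb, hbi⟩⟩
    calc x ^ (i : ℕ) * a * (x ^ (i : ℕ))⁻¹ * x * (x ^ (i : ℕ) * a * (x ^ (i : ℕ))⁻¹)⁻¹
        = x ^ (i : ℕ) * (a * x * a⁻¹) * (x ^ (i : ℕ))⁻¹ := by group
      _ = x⁻¹ := by rw [hai]; group
  have hshift : ∀ a : G, a * x * a⁻¹ = x⁻¹ → ∀ n : ℕ,
      x ^ n * a * (x ^ n)⁻¹ = x ^ (2 * n) * a := by
    intro a ha n
    have e : a * (x ^ n)⁻¹ * a⁻¹ = x ^ n := by
      rw [← inv_pow, ← conj_pow]
      congr 1
      rw [← inv_inv (a * x⁻¹ * a⁻¹), show (a * x⁻¹ * a⁻¹)⁻¹ = a * x * a⁻¹ by group, ha, inv_inv]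
    calc x ^ n * a * (x ^ n)⁻¹ = x ^ n * (a * (x ^ n)⁻¹ * a⁻¹) * a := by group
      _ = x ^ (2 * n) * a := by rw [e, ← pow_add, two_mul]
  haveI : Fact (1 < p) := ⟨hp.out.one_lt⟩
  have h2ne : (2 : ZMod p) ≠ 0 := by
    intro h
    have h' : ((2 : ℕ) : ZMod p) = 0 := by exact_mod_cast h
    rw [ZMod.natCast_eq_zero_iff] at h'
    exact hodd ((Nat.prime_dvd_prime_iff_eq hp.out Nat.prime_two).1 h')
  have hpowcast : ∀ n m : ℕ, (n : ZMod p) = (m : ZMod p) → x ^ n = x ^ m := fun n m h =>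
    pow_eq_pow_iff_modEq.2 (by rw [hxo]; exact (ZMod.natCast_eq_natCast_iff' n m p).1 h)
  have hcastpow : ∀ n m : ℕ, x ^ n = x ^ m → (n : ZMod p) = (m : ZMod p) := fun n m h => by
    have h' := pow_eq_pow_iff_modEq.1 h
    rw [hxo] at h'
    exact (ZMod.natCast_eq_natCast_iff' n m p).2 h'
  refine Nat.card_congr (Equiv.ofBijective (fun s : Q × Fin p =>
    (⟨(x ^ (s.2 : ℕ) * s.1.1.1 * (x ^ (s.2 : ℕ))⁻¹, s.1.1.2), hmemA s.1 s.2⟩ :
      (inverters u x ×ˢ inverters u x : Finset (G × G)))) ⟨?_, ?_⟩)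
  · rintro ⟨⟨⟨a, b⟩, ha, hb, y, hy, hab⟩, i⟩ ⟨⟨⟨a', b'⟩, ha', hb', y', hy', hab'⟩, i'⟩ e
    simp only at hab hab'
    obtain ⟨e1, e2⟩ := Prod.ext_iff.1 (congrArg Subtype.val e)
    simp only at e1 e2
    subst e2
    obtain ⟨hai, -⟩ := inverts_of_pair hu hxo ((hK y).1 hy).2 (hcomK y hy) ha hb hab
    obtain ⟨hai', -⟩ := inverts_of_pair hu hxo ((hK y').1 hy').2 (hcomK y' hy') ha' hb' hab'
    rw [hshift a hai, hshift a' hai'] at e1
    have e3 := congrArg (· * b) e1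
    simp only [mul_assoc, hab, hab'] at e3
    rw [← mul_assoc, ← mul_assoc, ← pow_succ, ← pow_succ] at e3
    have e4 : x ^ ((2 * (i : ℕ) + 1) % p) * y = x ^ ((2 * (i' : ℕ) + 1) % p) * y' := by
      have h1 := pow_mod_orderOf x (2 * (i : ℕ) + 1)
      have h2 := pow_mod_orderOf x (2 * (i' : ℕ) + 1)
      rw [hxo] at h1 h2
      rw [h1, h2]; exact e3
    obtain ⟨h4, -⟩ := huniq ⟨_, Nat.mod_lt _ hp.out.pos⟩ ⟨_, Nat.mod_lt _ hp.out.pos⟩ y hy y' hy' e4
    have h5 : ((2 * (i : ℕ) + 1 : ℕ) : ZMod p) = ((2 * (i' : ℕ) + 1 : ℕ) : ZMod p) :=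
      (ZMod.natCast_eq_natCast_iff' _ _ _).2 (Fin.mk.inj_iff.1 h4)
    push_cast at h5
    have h6 : ((i : ℕ) : ZMod p) = ((i' : ℕ) : ZMod p) := mul_left_cancel₀ h2ne (by linear_combination h5)
    have hii : i = i' := Fin.ext (by
      have h7 := (ZMod.natCast_eq_natCast_iff' _ _ _).1 h6
      rwa [Nat.mod_eq_of_lt i.2, Nat.mod_eq_of_lt i'.2] at h7)
    subst hii
    obtain rfl : a = a' := mul_left_cancel e1
    rfl
  · rintro ⟨⟨a, b⟩, hmem⟩
    obtain ⟨hA, hB⟩ := Finset.mem_product.1 hmem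
    obtain ⟨ha, hai⟩ := mem_inverters.1 hA
    obtain ⟨hb, hbi⟩ := mem_inverters.1 hB
    have hab : Commute x (a * b) := by
      refine ((mul_inv_eq_iff_eq_mul).1 ?_).symm
      calc a * b * x * (a * b)⁻¹ = a * (b * x * b⁻¹) * a⁻¹ := by group
        _ = (a * x * a⁻¹)⁻¹ := by rw [hbi]; group
        _ = x := by rw [hai, inv_inv]
    obtain ⟨j, y, hy, hj⟩ := hsurj _ (hcomC _ hab)
    -- choose `i` with `2 i + 1 ≡ j`
    set i : ZMod p := (((j : ℕ) : ZMod p) - 1) * (2 : ZMod p)⁻¹ with hi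
    have hi2 : 2 * i + 1 = ((j : ℕ) : ZMod p) := by
      rw [hi]; field_simp; ring
    have hinv' : ∀ n : ℕ, a * x ^ n = (x ^ n)⁻¹ * a := fun n => by
      rw [← mul_inv_eq_iff_eq_mul, ← conj_pow, hai, inv_pow]
    set a₀ : G := (x ^ i.val)⁻¹ * a * x ^ i.val with ha₀
    have ha₀c : IsConj u a₀ := ha.trans (isConj_iff.2 ⟨(x ^ i.val)⁻¹, by rw [ha₀]; group⟩)
    have ha₀b : a₀ * b = x * y := by
      have e : a₀ * b = (x ^ (2 * i.val))⁻¹ * (a * b) := by
        rw [ha₀, mul_assoc (x ^ i.val)⁻¹ a, hinv', two_mul, pow_add, mul_inv_rev]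
        simp only [mul_assoc]
      rw [e, ← hj, ← mul_assoc]
      congr 1
      rw [inv_mul_eq_iff_eq_mul, ← pow_succ]
      refine hpowcast _ _ ?_
      push_cast
      rw [ZMod.natCast_zmod_val, hi2]
    refine ⟨(⟨(a₀, b), ha₀c, hb, y, hy, ha₀b⟩, ⟨i.val, ZMod.val_lt i⟩), Subtype.ext (Prod.ext ?_ rfl)⟩
    show x ^ i.val * a₀ * (x ^ i.val)⁻¹ = a
    rw [ha₀]; group

theorem exists_sq' {p c : ℕ} [hp : Fact p.Prime] (hodd : p ≠ 2) (P : Sylow p G)
    (hP : Nat.card (P : Subgroup G) = p)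
    (hC : Nat.card (Subgroup.centralizer ((P : Subgroup G) : Set G)) = p * c)
    {x : G} (hx : x ∈ (P : Subgroup G)) (hx1 : x ≠ 1) {u : G} (hu : orderOf u = 2) :
    ∃ a₀ : ℕ, (∑ y ∈ regCent p (P : Subgroup G), CfsgLib.Char.classConst u u (x * y)) = p * (a₀ * a₀) := by
  have h := exists_sq hodd P hP hC hx hx1 hu
  have hd : p ∣ (inverters u x).card :=
    ((Nat.Prime.dvd_mul hp.out).1 ⟨_, h.symm⟩).elim id id
  obtain ⟨a₀, ha⟩ := hd
  refine ⟨a₀, Nat.eq_of_mul_eq_mul_left hp.out.pos ?_⟩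
  rw [h, ha]; ring

/-- The average over a larger subgroup is at most the average over a smaller one. -/
theorem invariants_mono {χ : G → ℂ} (hχ : IsCharacter G χ) {P H : Subgroup G} (hPH : P ≤ H)
    (SP SH : Finset G) (hSP : ∀ g, g ∈ SP ↔ g ∈ P) (hSH : ∀ g, g ∈ SH ↔ g ∈ H) :
    ∃ a b : ℕ, a ≤ b ∧ ∑ g ∈ SH, χ g = ((a * Nat.card H : ℕ) : ℂ) ∧
      ∑ g ∈ SP, χ g = ((b * Nat.card P : ℕ) : ℂ) := by
  classical
  obtain ⟨m, ρ, rfl⟩ := hχ
  have key : ∀ (H : Subgroup G) (SH : Finset G), (∀ g, g ∈ SH ↔ g ∈ H) →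
      ∑ g ∈ SH, ρ.character g =
        ((Module.finrank ℂ (Representation.invariants (ρ.comp H.subtype)) * Nat.card H : ℕ) : ℂ) := by
    intro H SH hSH
    haveI := Fintype.ofFinite H
    haveI : Invertible (Nat.card H : ℂ) := invertibleOfNonzero (Nat.cast_ne_zero.2 Nat.card_pos.ne')
    have h := FDRep.average_char_eq_finrank_invariants (FDRep.of (ρ.comp H.subtype))
    have e : ∑ g ∈ SH, ρ.character g = ∑ g : H, (FDRep.of (ρ.comp H.subtype)).character g :=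
      Finset.sum_subtype SH hSH ρ.character
    rw [inv_mul_eq_iff_eq_mul₀ (Nat.cast_ne_zero.2 Nat.card_pos.ne')] at h
    rw [e, h, Nat.cast_mul, mul_comm]
    rfl
  refine ⟨_, _, ?_, key H SH hSH, key P SP hSP⟩
  refine Submodule.finrank_mono fun v hv g => ?_
  exact hv ⟨(g : G), hPH g.2⟩

/-- In degree twelve an element of order eleven is self-centralizing. -/
theorem cent_eleven_of_twelve {α : Type*} [Finite α] (hα : Nat.card α = 12) (f : G →* Equiv.Perm α)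
    (hf : Function.Injective f) {x : G} (hx : orderOf x = 11) :
    Nat.card (Subgroup.centralizer ({x} : Set G)) ≤ 11 := by
  classical
  haveI := Fintype.ofFinite α
  haveI : Fact (Nat.Prime 11) := ⟨by norm_num⟩
  have hfx : orderOf (f x) = 11 := by rw [orderOf_injective f hf, hx]
  have hmap : ∀ y : Subgroup.centralizer ({x} : Set G), f y ∈ Subgroup.centralizer ({f x} : Set (Equiv.Perm α)) :=
    fun y => by
      rw [Subgroup.mem_centralizer_singleton_iff, ← map_mul, ← map_mul,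
        Subgroup.mem_centralizer_singleton_iff.1 y.2]
  have hle : Nat.card (Subgroup.centralizer ({x} : Set G)) ≤
      Nat.card (Subgroup.centralizer ({f x} : Set (Equiv.Perm α))) :=
    Nat.card_le_card_of_injective (fun y => ⟨f y, hmap y⟩) fun a b e =>
      Subtype.ext (hf (congrArg Subtype.val e))
  refine hle.trans ?_
  obtain ⟨n, hn⟩ := Equiv.Perm.cycleType_prime_order (σ := f x) (by rw [hfx]; norm_num)
  have hsum : (f x).cycleType.sum ≤ 12 := by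
    rw [← hα, Nat.card_eq_fintype_card, Equiv.Perm.sum_cycleType]
    exact Finset.card_le_univ _
  rw [hfx] at hn
  have hn0 : n = 0 := by
    rw [hn, Multiset.sum_replicate, smul_eq_mul] at hsum
    omega
  subst hn0
  rw [Equiv.Perm.nat_card_centralizer, hn, ← Nat.card_eq_fintype_card, hα]
  simp

end CfsgLib.Char.MTwelveOrder
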