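import Mathlib

/-!
# Simple groups of order 95040: the search for the remaining characters
-/

set_option autoImplicit false
set_option linter.all false

namespace CfsgLib.Char.MTwelveOrder

/-- An item: the degree divided by eleven and three values. -/
abbrev Item := ℤ × ℤ × ℤ × ℤ

/-- The sums that are prescribed. -/
structure Goal where
  R : ℤ
  sa : ℤ
  sb : ℤ
  sv : ℤ
  ka : ℤ
  kv : ℤ
  av : ℤ
deriving DecidableEq

/-- What remains after `j` copies of an item. -/
def Goal.sub (G : Goal) (x : Item) (j : ℤ) : Goal :=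
  ⟨G.R - j * (x.1 * x.1), G.sa - j * (x.2.1 * x.2.1), G.sb - j * (x.2.2.1 * x.2.2.1),
    G.sv - j * (x.2.2.2 * x.2.2.2), G.ka - j * (x.1 * x.2.1), G.kv - j * (x.1 * x.2.2.2),
    G.av - j * (x.2.1 * x.2.2.2)⟩

/-- The squares do not exceed what is prescribed. -/
def Goal.ok (G : Goal) : Bool :=
  decide (0 ≤ G.R) && decide (0 ≤ G.sa) && decide (0 ≤ G.sb) && decide (0 ≤ G.sv)

/-- The inequalities of Cauchy and Schwarz among what is prescribed. -/
def Goal.feas (G : Goal) : Bool :=
  decide (G.ka * G.ka ≤ G.R * G.sa) && decide (G.kv * G.kv ≤ G.R * G.sv) && decide (G.av * G.av ≤ G.sa * G.sv)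

/-- Whether all is attained. -/
def Goal.done (G : Goal) : Bool :=
  (G.R == 0) && (G.sa == 0) && (G.sb == 0) && (G.sv == 0) && (G.ka == 0) && (G.kv == 0) && (G.av == 0)

/-- The multisets of items attaining the sums. -/
def search : List Item → Goal → List (List Item)
  | [], G => if G.done then [[]] else []
  | x :: r, G =>
    if G.R == 0 then (if G.done then [[]] else [])
    else if !G.feas then []
    else (List.range ((G.R / (x.1 * x.1)).toNat + 1)).flatMap fun (j : ℕ) =>
      if (G.sub x (j : ℤ)).ok then (search r (G.sub x (j : ℤ))).map (List.replicate j x ++ ·) else []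

/-- The sums of a list of items. -/
def sumsOf (l : List Item) : Goal :=
  ⟨(l.map fun x => x.1 * x.1).sum, (l.map fun x => x.2.1 * x.2.1).sum,
    (l.map fun x => x.2.2.1 * x.2.2.1).sum, (l.map fun x => x.2.2.2 * x.2.2.2).sum,
    (l.map fun x => x.1 * x.2.1).sum, (l.map fun x => x.1 * x.2.2.2).sum,
    (l.map fun x => x.2.1 * x.2.2.2).sum⟩

theorem sum_mul_sq_le {α : Type*} (g h : α → ℤ) : ∀ l : List α,
    (l.map fun x => g x * h x).sum * (l.map fun x => g x * h x).sum ≤
      (l.map fun x => g x * g x).sum * (l.map fun x => h x * h x).sum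
  | [] => by simp
  | x :: l => by
    have ih := sum_mul_sq_le g h l
    simp only [List.map_cons, List.sum_cons]
    have hA : 0 ≤ (l.map fun x => g x * g x).sum := List.sum_nonneg fun y hy => by
      obtain ⟨z, -, rfl⟩ := List.mem_map.1 hy; exact mul_self_nonneg _
    have hB : 0 ≤ (l.map fun x => h x * h x).sum := List.sum_nonneg fun y hy => by
      obtain ⟨z, -, rfl⟩ := List.mem_map.1 hy; exact mul_self_nonneg _
    generalize (l.map fun x => g x * g x).sum = A at *
    generalize (l.map fun x => h x * h x).sum = B at *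
    generalize (l.map fun x => g x * h x).sum = S at *
    have key : 2 * (g x * h x * S) ≤ g x * g x * B + h x * h x * A := by
      by_contra hlt
      push_neg at hlt
      have h0 : 0 ≤ g x * g x * B + h x * h x * A :=
        add_nonneg (mul_nonneg (mul_self_nonneg _) hB) (mul_nonneg (mul_self_nonneg _) hA)
      have h1 := mul_lt_mul'' hlt hlt h0 h0
      have h2 := mul_nonneg (mul_self_nonneg (g x * h x)) (sub_nonneg.2 ih)
      nlinarith [mul_self_nonneg (g x * g x * B - h x * h x * A)]
    nlinarith

theorem search_complete {ι : Type*} (f : ι → Item) :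
    ∀ (L : List Item) (X : List ι), (∀ a ∈ X, f a ∈ L) → (∀ a ∈ X, 0 < (f a).1) →
      ∃ X' : List ι, List.Perm X' X ∧ X'.map f ∈ search L (sumsOf (X.map f)) := by
  intro L
  induction L with
  | nil =>
    intro X hX _
    cases X with
    | nil => exact ⟨[], List.Perm.refl _, by simp [search, sumsOf, Goal.done]⟩
    | cons a X => simpa using hX a (by simp)
  | cons x r ih =>
    intro X hX hpos
    set A := X.filter (fun y => decide (f y = x)) with hA
    set B := X.filter (fun y => !decide (f y = x)) with hB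
    have hperm0 : List.Perm (A ++ B) X := List.filter_append_perm _ X
    by_cases hR : (sumsOf (X.map f)).R = 0
    · cases X with
      | nil => exact ⟨[], List.Perm.refl _, by simp [search, sumsOf, Goal.done]⟩
      | cons a X =>
        exfalso
        simp only [sumsOf, List.map_cons, List.sum_cons] at hR
        have h1 := mul_pos (hpos a (by simp)) (hpos a (by simp))
        have h2 : 0 ≤ ((X.map f).map fun y => y.1 * y.1).sum := List.sum_nonneg fun y hy => by
          obtain ⟨z, -, rfl⟩ := List.mem_map.1 hy; exact mul_self_nonneg _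
        linarith
    obtain ⟨R, hRp, hRm⟩ := ih B (fun y hy => by
      simp only [hB, List.mem_filter, Bool.not_eq_true', decide_eq_false_iff_not] at hy
      exact (List.mem_cons.1 (hX y hy.1)).resolve_left hy.2)
      (fun y hy => hpos y (List.mem_filter.1 hy).1)
    refine ⟨A ++ R, (List.Perm.append_left _ hRp).trans hperm0, ?_⟩
    have hAf : A.map f = List.replicate A.length x := List.eq_replicate_iff.2
      ⟨List.length_map (as := A) f, fun b hb => by
        obtain ⟨y, hy, rfl⟩ := List.mem_map.1 hb
        simpa [hA] using (List.mem_filter.1 hy).2⟩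
    have hsum : ∀ g : Item → ℤ, ((X.map f).map g).sum = (A.length : ℤ) * g x + ((B.map f).map g).sum := by
      intro g
      rw [← ((hperm0.map f).map g).sum_eq, List.map_append, List.map_append, List.sum_append, hAf,
        List.map_replicate, List.sum_replicate, nsmul_eq_mul]
    have hsub : (sumsOf (X.map f)).sub x (A.length : ℤ) = sumsOf (B.map f) := by
      simp only [Goal.sub, sumsOf, hsum, add_sub_cancel_left]
    have hok : (sumsOf (B.map f)).ok = true := by
      have hnn : ∀ g : Item → ℤ, 0 ≤ ((B.map f).map fun y => g y * g y).sum := fun g => List.sum_nonneg fun y hy => by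
        obtain ⟨z, -, rfl⟩ := List.mem_map.1 hy; exact mul_self_nonneg _
      simp only [Goal.ok, sumsOf, Bool.and_eq_true, decide_eq_true_eq]
      exact ⟨⟨⟨decide_eq_true (hnn _), decide_eq_true (hnn _)⟩, decide_eq_true (hnn _)⟩, decide_eq_true (hnn _)⟩
    have hfeas : (sumsOf (X.map f)).feas = true := by
      simp only [Goal.feas, sumsOf, Bool.and_eq_true, decide_eq_true_eq]
      exact ⟨⟨decide_eq_true (sum_mul_sq_le _ _ _), decide_eq_true (sum_mul_sq_le _ _ _)⟩,
        decide_eq_true (sum_mul_sq_le _ _ _)⟩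
    simp only [search, beq_iff_eq, if_neg hR, hfeas, Bool.not_true, Bool.false_eq_true, if_false,
      List.mem_flatMap, List.mem_range]
    refine ⟨A.length, ?_, ?_⟩
    · rcases Nat.eq_zero_or_pos A.length with h0 | h0
      · rw [h0]; omega
      have hAx : ∃ y, y ∈ A := ⟨A[0], List.getElem_mem _⟩
      obtain ⟨y, hy⟩ := hAx
      have hfy : f y = x := by simpa [hA] using (List.mem_filter.1 hy).2
      have hx0 : 0 < x.1 := hfy ▸ hpos y (List.mem_filter.1 hy).1
      have hle : (A.length : ℤ) ≤ (sumsOf (X.map f)).R / (x.1 * x.1) := by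
        rw [Int.le_ediv_iff_mul_le (mul_pos hx0 hx0)]
        simp only [sumsOf, hsum fun y => y.1 * y.1]
        have : 0 ≤ ((B.map f).map fun y => y.1 * y.1).sum := List.sum_nonneg fun z hz => by
          obtain ⟨w, -, rfl⟩ := List.mem_map.1 hz; exact mul_self_nonneg _
        linarith
      omega
    · rw [hsub, hok, if_pos rfl, List.mem_map, List.map_append, hAf]
      exact ⟨_, hRm, rfl⟩

/-- The admissible items. -/
def items : List Item :=
  [(1, 1, -1, -1), (1, 1, 1, -9), (2, 2, -2, -2), (2, 2, 0, -10), (2, 2, 0, 10),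
    (2, 2, 2, 2), (4, -1, -1, 4), (4, -1, 1, -4), (6, 1, -1, -6), (6, 1, 1, 6),
    (8, -2, -2, 8), (8, -2, 0, 0), (8, -2, 2, -8), (9, -1, -1, -1), (9, -1, 1, -9),
    (9, -1, 1, 11), (12, 2, -2, 8), (12, 2, 0, 0), (12, 2, 2, -8), (16, 1, -1, 4),
    (16, 1, 1, -4), (18, -2, -2, -2), (18, -2, 0, -10), (18, -2, 0, 10), (18, -2, 2, 2),
    (20, 0, 0, 0), (15, 0, 0, 5), (10, 0, 0, -10), (10, 0, 0, 10), (5, 0, 0, -5)]

/-- The conditions on an item. -/
def itemOK (k a b v : ℤ) : Bool :=
  decide (0 ≤ k + 4 * a) && decide (a ≤ k) && ((a - k) % 5 == 0) && (!(k % 5 == 0) || ((a == 0) && (b == 0))) &&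
    ((b - a) % 2 == 0) && decide (v.natAbs < (11 * k).natAbs) && ((v - 11 * k) % 4 == 0) &&
    ((v - b) % 5 == 0) && decide (v * v ≤ 130)

theorem items_spec : ∀ k ∈ List.range 22, 8640 % k = 0 → ∀ a ∈ List.range 5, ∀ b ∈ List.range 5,
    ∀ v ∈ List.range 23, itemOK (k : ℤ) ((a : ℤ) - 2) ((b : ℤ) - 2) ((v : ℤ) - 11) = true →
      ((k : ℤ), (a : ℤ) - 2, (b : ℤ) - 2, (v : ℤ) - 11) ∈ items := by
  decide +kernel

/-- The prescribed sums. -/
def target : Goal := ⟨450, 5, 5, 130, 15, -114, 1⟩

/-- The rest of the table in the case of the Mathieu group. -/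
def restM : List Item :=
  [(1, 1, -1, -1), (1, 1, -1, -1), (6, 1, 1, 6), (9, -1, -1, -1), (16, 1, 1, -4), (5, 0, 0, -5), (5, 0, 0, -5),
    (5, 0, 0, -5)]

/-- The rest of the table in the case to be excluded. -/
def restX : List Item :=
  [(4, -1, 1, -4), (6, 1, -1, -6), (6, 1, 1, 6), (9, -1, -1, -1), (16, 1, 1, -4), (5, 0, 0, -5)]

theorem search_result : search items target = [restX, restM] ∨ search items target = [restM, restX] := by
  decide +kernel

end CfsgLib.Char.MTwelveOrder
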