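import Cfsg.Agent.Lib.Char.MTwelveOrder.Base
import Cfsg.Agent.Lib.Char.MTwelveOrder.Search
import Cfsg.Agent.Lib.Block.Cartan

/-!
# Simple groups of order 95040: the characters outside the block of the prime eleven
-/

set_option autoImplicit false
set_option linter.all false
set_option maxHeartbeats 1000000

open Cfsg CfsgLib.Perm.PrimeBlock CfsgLib.Block Finset CfsgLib.Char.MEleven.Order
open scoped ComplexConjugate

namespace CfsgLib.Char.MTwelveOrder

universe u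

variable {G : Type u} [Group G] [Fintype G] [IsSimpleGroup G]

namespace Base

variable (B : Base G)

/-- The product of the element of order five with the involution centralizing it. -/
def w : G := B.E.f * B.y

theorem f_comm : B.E.f * B.y = B.y * B.E.f :=
  Subgroup.mem_centralizer_iff.1 B.y_mem _ B.F.f_mem

theorem w_order : orderOf B.w = 10 := by
  have hc : Commute B.E.f B.y := B.f_comm
  rw [w, hc.orderOf_mul_eq_mul_orderOf_of_coprime (by rw [B.E.f_order, B.y_order]; norm_num), B.E.f_order,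
    B.y_order]

theorem cent_f : Nat.card (Subgroup.centralizer ({B.E.f} : Set G)) = 10 := by
  haveI : Fact (Nat.Prime 5) := ⟨by norm_num⟩
  rw [centralizer_of_order B.F.card_Q B.E.f_order, B.F.cent_Q]

theorem w_gen : Subgroup.zpowers B.w = Subgroup.centralizer ({B.E.f} : Set G) := by
  refine Subgroup.eq_of_le_of_card_ge (Subgroup.zpowers_le.2 ?_) (by rw [Nat.card_zpowers, B.w_order, B.cent_f])
  rw [Subgroup.mem_centralizer_singleton_iff, w, mul_assoc, ← B.f_comm]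

theorem cent_w : Nat.card (Subgroup.centralizer ({B.w} : Set G)) = 10 := by
  rw [← B.cent_f]
  congr 1
  suffices h : Subgroup.centralizer ({B.w} : Set G) = Subgroup.centralizer ({B.E.f} : Set G) by rw [h]
  refine le_antisymm (fun g hg => ?_) (fun g hg => ?_)
  · rw [Subgroup.mem_centralizer_singleton_iff] at hg ⊢
    have h6 : B.w ^ 6 = B.E.f := by
      have hc : Commute B.E.f B.y := B.f_comm
      rw [w, hc.mul_pow, show (6 : ℕ) = 5 + 1 from rfl, pow_succ B.E.f, show B.E.f ^ 5 = 1 by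
        rw [← B.E.f_order]; exact pow_orderOf_eq_one _, one_mul, show 5 + 1 = 2 * 3 from rfl, pow_mul,
        show B.y ^ 2 = 1 by rw [← B.y_order]; exact pow_orderOf_eq_one _, one_pow, mul_one]
    rw [← h6]
    exact ((show Commute g B.w from hg).pow_right 6).eq
  · rw [← B.w_gen] at hg
    obtain ⟨i, rfl⟩ := hg
    rw [Subgroup.mem_centralizer_singleton_iff]
    exact ((Commute.refl B.w).zpow_left i).eq

theorem y_unique {z : G} (hz : z * B.E.f = B.E.f * z) (hz2 : orderOf z = 2) : z = B.y := by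
  have key : ∀ z : G, z * B.E.f = B.E.f * z → orderOf z = 2 → z = B.w ^ 5 := by
    intro z hz hz2
    have hm : z ∈ Subgroup.zpowers B.w := by
      rw [B.w_gen, Subgroup.mem_centralizer_singleton_iff]; exact hz
    obtain ⟨i, hi⟩ := (isOfFinOrder_of_finite B.w).mem_powers_iff_mem_zpowers.2 hm
    replace hi : B.w ^ i = z := hi
    rw [← pow_mod_orderOf, B.w_order] at hi
    have hlt : i % 10 < 10 := Nat.mod_lt _ (by norm_num)
    have ho := congrArg orderOf hi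
    rw [orderOf_pow, B.w_order, hz2] at ho
    rw [← hi]
    interval_cases hj : i % 10 <;> first | rfl | norm_num at ho
  rw [key z hz hz2, key B.y B.f_comm.symm B.y_order]

theorem conj_w {j : ℕ} (hj : ¬ 5 ∣ j) : IsConj B.w (B.E.f ^ j * B.y) := by
  obtain ⟨g, hg⟩ := isConj_iff.1 (B.F.conj_pow rfl hj)
  refine isConj_iff.2 ⟨g, ?_⟩
  have hcomm : g * B.y * g⁻¹ * (B.E.f ^ j) = B.E.f ^ j * (g * B.y * g⁻¹) := by
    rw [← hg, show g * B.y * g⁻¹ * (g * B.E.f * g⁻¹) = g * (B.y * B.E.f) * g⁻¹ by group, ← B.f_comm]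
    group
  obtain ⟨i, hi⟩ : ∃ i : ℕ, (B.E.f ^ j) ^ i = B.E.f := by
    have hcop : j.Coprime (orderOf B.E.f) := by
      rw [B.E.f_order]; exact ((Nat.Prime.coprime_iff_not_dvd (by norm_num)).2 hj).symm
    exact exists_pow_eq_self_of_coprime hcop
  have h1 : g * B.y * g⁻¹ * B.E.f = B.E.f * (g * B.y * g⁻¹) := by
    rw [← hi]; exact ((show Commute (g * B.y * g⁻¹) (B.E.f ^ j) from hcomm).pow_right i).eq
  have h2 : g * B.y * g⁻¹ = B.y := B.y_unique h1 (((MulAut.conj g).orderOf_eq B.y).trans B.y_order)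
  rw [w, show g * (B.E.f * B.y) * g⁻¹ = g * B.E.f * g⁻¹ * (g * B.y * g⁻¹) by group, hg, h2]

theorem val_y (χ : IrrCharacter G) (h : Nat.card G = 95040) : (χ : G → ℂ) B.y = (iv χ B.y : ℂ) :=
  val_invol (noncomm h) χ B.y_order

theorem val_pow_w (χ : IrrCharacter G) {j : ℕ} (hj : j % 2 = 1) (h5 : ¬ 5 ∣ j) :
    (χ : G → ℂ) (B.w ^ j) = (χ : G → ℂ) B.w := by
  obtain ⟨g, hg⟩ := isConj_iff.1 (B.conj_w h5)
  have hc : Commute B.E.f B.y := B.f_comm
  have e : B.w ^ j = B.E.f ^ j * B.y := by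
    rw [w, hc.mul_pow]
    congr 1
    rw [← pow_mod_orderOf, B.y_order, hj, pow_one]
  rw [e, ← hg]
  exact CfsgLib.Char.isClassFunction_irr χ _ g

/-- The values at the element of order ten. -/
theorem w_facts (χ : IrrCharacter G) (h : Nat.card G = 95040) :
    (χ : G → ℂ) B.w = (iv χ B.w : ℂ) ∧ (5 : ℤ) ∣ iv χ B.y - iv χ B.w ∧ (2 : ℤ) ∣ iv χ B.w - iv χ B.E.f := by
  classical
  obtain ⟨n, ρ, hρ⟩ := CfsgLib.Char.isCharacter_irr χ
  obtain ⟨b, μ, hμ, -, hpow⟩ := CfsgLib.Char.exists_eigen_data ρ B.w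
  rw [B.w_order] at hμ
  have hint : IsIntegral ℤ ((χ : G → ℂ) B.w) :=
    CfsgLib.Char.isCharacter_isIntegral (CfsgLib.Char.isCharacter_irr χ) _
  have hc : Commute B.E.f B.y := B.f_comm
  have f5 : B.E.f ^ 5 = 1 := by rw [← B.E.f_order]; exact pow_orderOf_eq_one _
  have y2 : B.y ^ 2 = 1 := by rw [← B.y_order]; exact pow_orderOf_eq_one _
  have h5 : B.w ^ 5 = B.y := by
    rw [w, hc.mul_pow, f5, one_mul, show (5 : ℕ) = 2 * 2 + 1 from rfl, pow_succ, pow_mul, y2, one_pow, one_mul]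
  have h6 : B.w ^ 6 = B.E.f := by
    rw [w, hc.mul_pow, show (6 : ℕ) = 5 + 1 from rfl, pow_succ B.E.f, f5, one_mul,
      show 5 + 1 = 2 * 3 from rfl, pow_mul, y2, one_pow, mul_one]
  -- the odd powers
  have hgeo : ∀ i, ∑ j ∈ range 5, μ i ^ (2 * j + 1) = if μ i ^ 2 = 1 then 5 * μ i else 0 := by
    intro i
    rw [Finset.sum_congr rfl fun j _ => show μ i ^ (2 * j + 1) = (μ i ^ 2) ^ j * μ i by rw [pow_succ, pow_mul],
      ← Finset.sum_mul]
    split_ifs with he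
    · simp [he]
    · rw [geom_sum_eq he, ← pow_mul, show 2 * 5 = 10 from rfl, hμ, sub_self, zero_div, zero_mul]
  have hsign : ∀ i, ∃ e : ℤ, (if μ i ^ 2 = 1 then μ i else 0) = (e : ℂ) := by
    intro i
    split_ifs with he
    · rcases sq_eq_one_iff.1 he with e | e
      · exact ⟨1, by simp [e]⟩
      · exact ⟨-1, by simp [e]⟩
    · exact ⟨0, by simp⟩
  choose sg hsg using hsign
  have hodd : 4 * (χ : G → ℂ) B.w + (iv χ B.y : ℂ) = 5 * ((∑ i, sg i : ℤ) : ℂ) := by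
    have e : ∑ j ∈ range 5, (χ : G → ℂ) (B.w ^ (2 * j + 1)) = 5 * ((∑ i, sg i : ℤ) : ℂ) := by
      rw [← hρ]
      simp only [hpow]
      rw [Finset.sum_comm]
      push_cast
      rw [Finset.mul_sum]
      refine Finset.sum_congr rfl fun i _ => ?_
      rw [hgeo, ← hsg]
      split_ifs <;> simp
    simp only [Finset.sum_range_succ, Finset.sum_range_zero, zero_add] at e
    norm_num at e
    rw [B.val_pow_w χ (j := 3) (by norm_num) (by norm_num), B.val_pow_w χ (j := 7) (by norm_num) (by norm_num),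
      B.val_pow_w χ (j := 9) (by norm_num) (by norm_num), h5, B.val_y χ h] at e
    push_cast
    linear_combination e
  obtain ⟨m, hm⟩ := exists_int_of_rational hint (b := 4) (a := 5 * (∑ i, sg i) - iv χ B.y) (by norm_num)
    (by push_cast at hodd ⊢; linear_combination hodd)
  have hval : (χ : G → ℂ) B.w = (iv χ B.w : ℂ) := iv_spec ⟨m, hm⟩
  refine ⟨hval, ?_, ?_⟩
  · rw [hval] at hodd
    have e : 4 * iv χ B.w + iv χ B.y = 5 * (∑ i, sg i) := by exact_mod_cast hodd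
    exact ⟨(∑ i, sg i) - iv χ B.w, by linarith⟩
  -- the difference with the fifth part
  set z : ℂ := ∑ i, (if μ i ^ 5 = 1 then 0 else μ i) with hz
  have hzint : IsIntegral ℤ z := by
    refine IsIntegral.sum _ fun i _ => ?_
    split_ifs
    · exact isIntegral_zero
    · exact ⟨Polynomial.X ^ 10 - 1, Polynomial.monic_X_pow_sub_C 1 (by norm_num), by simp [hμ i]⟩
  have hdiff : (χ : G → ℂ) (B.w ^ 1) - (χ : G → ℂ) (B.w ^ 6) = 2 * z := by
    rw [← hρ, hpow, hpow, ← Finset.sum_sub_distrib, hz, Finset.mul_sum]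
    refine Finset.sum_congr rfl fun i _ => ?_
    have h10 : (μ i ^ 5) ^ 2 = 1 := by rw [← pow_mul, hμ]
    rw [pow_succ (μ i) 5]
    rcases sq_eq_one_iff.1 h10 with e | e
    · rw [if_pos e, e]; ring
    · rw [if_neg (by rw [e]; norm_num), e]; ring
  rw [pow_one, h6, hval, B.F.val_f χ] at hdiff
  obtain ⟨k, hk⟩ := exists_int_of_rational hzint (b := 2) (a := iv χ B.w - iv χ B.E.f) (by norm_num)
    (by push_cast; linear_combination -hdiff)
  rw [hk] at hdiff
  exact ⟨k, by exact_mod_cast hdiff⟩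

/-- The characters outside the block of the prime eleven. -/
noncomputable def out : Finset (IrrCharacter G) :=
  haveI := Fintype.ofFinite (IrrCharacter G)
  open Classical in Finset.univ.filter fun χ => χ ≠ oneChar G ∧ χ ∉ B.E.S.X ∧ χ ∉ B.E.S.Y

theorem mem_out {χ : IrrCharacter G} : χ ∈ B.out ↔ χ ≠ oneChar G ∧ χ ∉ B.E.S.X ∧ χ ∉ B.E.S.Y := by
  simp [out]

theorem sum_all [Fintype (IrrCharacter G)] {M : Type*} [AddCommMonoid M] (φ : IrrCharacter G → M) :
    ∑ χ : IrrCharacter G, φ χ =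
      φ (oneChar G) + (φ B.b45 + φ B.b54 + φ B.b120 + φ B.b144 + (φ B.t1 + φ B.t2)) + ∑ χ ∈ B.out, φ χ := by
  classical
  haveI : Fact (Nat.Prime 11) := ⟨by norm_num⟩
  have hu : (Finset.univ : Finset (IrrCharacter G)) = ({oneChar G} ∪ B.E.S.X ∪ B.E.S.Y) ∪ B.out := by
    refine (Finset.eq_univ_iff_forall.2 fun χ => ?_).symm
    simp only [Finset.mem_union, Finset.mem_singleton, B.mem_out]
    tauto
  have hd : Disjoint ({oneChar G} ∪ B.E.S.X ∪ B.E.S.Y) B.out := by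
    rw [Finset.disjoint_left]
    intro χ h1 h2
    simp only [Finset.mem_union, Finset.mem_singleton] at h1
    rw [B.mem_out] at h2
    tauto
  rw [hu, Finset.sum_union hd, Finset.sum_union (Finset.disjoint_union_left.2
    ⟨Finset.disjoint_singleton_left.2 B.E.S.one_notMem_Y, B.E.S.disjoint⟩),
    Finset.sum_union (Finset.disjoint_singleton_left.2 B.E.S.one_notMem_X), Finset.sum_singleton,
    B.X_eq, List.sum_toFinset _ B.X_nodup, B.Y_eq, Finset.sum_pair B.t_ne]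
  simp [add_assoc]

theorem memX : B.b45 ∈ B.E.S.X ∧ B.b54 ∈ B.E.S.X ∧ B.b120 ∈ B.E.S.X ∧ B.b144 ∈ B.E.S.X := by
  classical
  rw [B.X_eq]; simp

theorem memY : B.t1 ∈ B.E.S.Y ∧ B.t2 ∈ B.E.S.Y := by
  classical
  rw [B.Y_eq]; simp

theorem degs : dg B.b45 = 45 ∧ dg B.b54 = 54 ∧ dg B.b120 = 120 ∧ dg B.b144 = 144 ∧ dg B.t1 = 16 ∧ dg B.t2 = 16 := by
  haveI : Fact (Nat.Prime 11) := ⟨by norm_num⟩
  obtain ⟨h1, h2, h3, h4⟩ := B.memX
  have e := B.sd_X
  simp only [List.map_cons, List.map_nil, List.cons.injEq, and_true] at e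
  obtain ⟨e1, e2, e3, e4⟩ := e
  refine ⟨?_, ?_, ?_, ?_, (B.E.S.degree_Y _ B.memY.1).trans B.D_eq, (B.E.S.degree_Y _ B.memY.2).trans B.D_eq⟩
  · rw [← natAbs_sd B.E.S h1, e1]; rfl
  · rw [← natAbs_sd B.E.S h2, e2]; rfl
  · rw [← natAbs_sd B.E.S h3, e3]; rfl
  · rw [← natAbs_sd B.E.S h4, e4]; rfl

theorem vals_f : iv B.b45 B.E.f = 0 ∧ iv B.b54 B.E.f = -1 ∧ iv B.b120 B.E.f = 0 ∧ iv B.b144 B.E.f = -1 ∧
    iv B.t1 B.E.f = 1 ∧ iv B.t2 B.E.f = 1 := by
  have e := B.f_X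
  simp only [List.map_cons, List.map_nil, List.cons.injEq, and_true] at e
  exact ⟨e.1, e.2.1, e.2.2.1, e.2.2.2, B.f_Y⟩

theorem vals_y : iv B.b45 B.y = 5 ∧ iv B.b54 B.y = 6 ∧ iv B.b120 B.y = 0 ∧ iv B.b144 B.y = 4 ∧
    iv B.t1 B.y = 4 ∧ iv B.t2 B.y = 4 := by
  have e := B.y_X
  simp only [List.map_cons, List.map_nil, List.cons.injEq, and_true] at e
  exact ⟨e.1, e.2.1, e.2.2.1, e.2.2.2, B.y_Y⟩

theorem w_small (χ : IrrCharacter G) (h : Nat.card G = 95040) : (iv χ B.w).natAbs ≤ 3 := by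
  have h1 := sum_iv_sq_le ({χ} : Finset (IrrCharacter G)) (g := B.w) (fun ψ _ => (B.w_facts ψ h).1)
  rw [B.cent_w, Finset.sum_singleton] at h1
  by_contra hgt
  have hh : (4 : ℤ) ≤ |iv χ B.w| := by rw [Int.abs_eq_natAbs]; omega
  push_cast at h1
  nlinarith [abs_mul_abs_self (iv χ B.w)]

theorem w_zero (χ : IrrCharacter G) (h : Nat.card G = 95040) (h5 : 5 ∣ dg χ) : iv χ B.w = 0 :=
  iv_eq (by rw [vanish_five h χ h5 (by rw [B.w_order]; norm_num)]; simp)

theorem vals_w (h : Nat.card G = 95040) : iv B.b45 B.w = 0 ∧ iv B.b54 B.w = 1 ∧ iv B.b120 B.w = 0 ∧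
    iv B.b144 B.w = -1 ∧ iv B.t1 B.w = -1 ∧ iv B.t2 B.w = -1 := by
  obtain ⟨d1, d2, d3, d4, d5, d6⟩ := B.degs
  obtain ⟨f1, f2, f3, f4, f5, f6⟩ := B.vals_f
  obtain ⟨y1, y2, y3, y4, y5, y6⟩ := B.vals_y
  have aux : ∀ χ : IrrCharacter G, ∀ a v r : ℤ, iv χ B.E.f = a → iv χ B.y = v →
      (v - r) % 5 = 0 → (r - a) % 2 = 0 → r.natAbs ≤ 1 → iv χ B.w = r := by
    intro χ a v r ha hv hr5 hr2 hr1
    obtain ⟨-, c5, c2⟩ := B.w_facts χ h
    rw [hv] at c5
    rw [ha] at c2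
    have := B.w_small χ h
    omega
  refine ⟨B.w_zero _ h (by rw [d1]; norm_num), aux _ _ _ _ f2 y2 ?_ ?_ ?_, B.w_zero _ h (by rw [d3]; norm_num),
    aux _ _ _ _ f4 y4 ?_ ?_ ?_, aux _ _ _ _ f5 y5 ?_ ?_ ?_, aux _ _ _ _ f6 y6 ?_ ?_ ?_⟩ <;> decide

/-- The item of a character. -/
noncomputable def item (χ : IrrCharacter G) : Item :=
  (((dg χ / 11 : ℕ) : ℤ), iv χ B.E.f, iv χ B.w, iv χ B.y)

theorem out_facts {χ : IrrCharacter G} (hχ : χ ∈ B.out) (h : Nat.card G = 95040) :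
    (dg χ : ℤ) = 11 * (B.item χ).1 ∧ 0 < (B.item χ).1 := by
  haveI : Fact (Nat.Prime 11) := ⟨by norm_num⟩
  obtain ⟨h1, hX, hY⟩ := B.mem_out.1 hχ
  obtain ⟨k, hk⟩ := dvd_dg_outside B.E.S B.E.card_P B.E.cent_P χ h1 hX hY
  have := dg_pos χ
  simp only [item]
  omega

theorem out_sums (h : Nat.card G = 95040) : sumsOf (B.out.toList.map B.item) = target := by
  classical
  haveI : Fact (Nat.Prime 11) := ⟨by norm_num⟩
  haveI := Fintype.ofFinite (IrrCharacter G)
  have hG := noncomm h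
  have hvy : ∀ χ : IrrCharacter G, (χ : G → ℂ) B.y = (iv χ B.y : ℂ) := fun χ => B.val_y χ h
  have hvf := B.F.val_f
  have hvw := fun χ : IrrCharacter G => (B.w_facts χ h).1
  have hfy : ¬ IsConj B.E.f B.y := fun hc => by
    obtain ⟨g, hg⟩ := isConj_iff.1 hc
    have e : orderOf B.y = orderOf B.E.f := by rw [← hg]; exact (MulAut.conj g).orderOf_eq B.E.f
    rw [B.y_order, B.E.f_order] at e
    norm_num at e
  have hone : ∀ g : G, iv (oneChar G) g = 1 := iv_oneChar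
  obtain ⟨d1, d2, d3, d4, d5, d6⟩ := B.degs
  obtain ⟨f1, f2, f3, f4, f5, f6⟩ := B.vals_f
  obtain ⟨y1, y2, y3, y4, y5, y6⟩ := B.vals_y
  obtain ⟨w1, w2, w3, w4, w5, w6⟩ := B.vals_w h
  have hd : ∀ χ ∈ B.out, (dg χ : ℤ) = 11 * (B.item χ).1 := fun χ hχ => (B.out_facts hχ h).1
  have e1 : ∑ χ : IrrCharacter G, (dg χ : ℤ) * dg χ = 95040 := by
    have := sum_dg_sq (G := G)
    rw [h] at this
    simp only [sq] at this
    exact_mod_cast this
  have e2 := sum_iv_sq hvf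
  rw [B.cent_f] at e2
  have e3 := sum_iv_sq hvw
  rw [B.cent_w] at e3
  have e4 := sum_iv_sq hvy
  rw [B.cent_y] at e4
  have e5 := sum_dg_iv (g := B.E.f) B.F.f_ne hvf
  have e6 := sum_dg_iv (g := B.y) (fun e => by simpa [e] using B.y_order) hvy
  have e7 := sum_iv_mul hfy hvf hvy
  rw [B.sum_all] at e1 e2 e3 e4 e5 e6 e7
  simp only [hone, dg_one, d1, d2, d3, d4, d5, d6, f1, f2, f3, f4, f5, f6, y1, y2, y3, y4, y5, y6,
    w1, w2, w3, w4, w5, w6] at e1 e2 e3 e4 e5 e6 e7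
  rw [Finset.sum_congr rfl fun χ hχ => by rw [hd χ hχ]] at e1 e5 e6
  have hl : ∀ φ : Item → ℤ, ((B.out.toList.map B.item).map φ).sum = ∑ χ ∈ B.out, φ (B.item χ) := fun φ => by
    rw [List.map_map, ← Finset.sum_map_toList]; rfl
  simp only [sumsOf, target, hl, Goal.mk.injEq]
  have r1 : ∑ χ ∈ B.out, 11 * (B.item χ).1 * (11 * (B.item χ).1) = 121 * ∑ χ ∈ B.out, (B.item χ).1 * (B.item χ).1 := by
    rw [Finset.mul_sum]; exact Finset.sum_congr rfl fun χ _ => by ring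
  have r5 : ∑ χ ∈ B.out, 11 * (B.item χ).1 * iv χ B.E.f = 11 * ∑ χ ∈ B.out, (B.item χ).1 * iv χ B.E.f := by
    rw [Finset.mul_sum]; exact Finset.sum_congr rfl fun χ _ => by ring
  have r6 : ∑ χ ∈ B.out, 11 * (B.item χ).1 * iv χ B.y = 11 * ∑ χ ∈ B.out, (B.item χ).1 * iv χ B.y := by
    rw [Finset.mul_sum]; exact Finset.sum_congr rfl fun χ _ => by ring
  rw [r1] at e1
  rw [r5] at e5
  rw [r6] at e6
  push_cast at e1 e2 e3 e4 e5 e6 e7
  exact ⟨by linarith, by simp only [item]; linarith, by simp only [item]; linarith, by simp only [item]; linarith,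
    by simp only [item] at e5 ⊢; linarith, by simp only [item] at e6 ⊢; linarith, by simp only [item]; linarith⟩

theorem item_mem {χ : IrrCharacter G} (hχ : χ ∈ B.out) (h : Nat.card G = 95040) : B.item χ ∈ items := by
  classical
  haveI : Fact (Nat.Prime 11) := ⟨by norm_num⟩
  have hG := noncomm h
  obtain ⟨h1, hX, hY⟩ := B.mem_out.1 hχ
  obtain ⟨hk, hkpos⟩ := B.out_facts hχ h
  have hs := B.out_sums h
  have hge : ∀ φ : Item → ℤ, φ (B.item χ) * φ (B.item χ) ≤ ((B.out.toList.map B.item).map fun x => φ x * φ x).sum := by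
    intro φ
    refine List.single_le_sum (fun x hx => ?_) _ ?_
    · obtain ⟨z, -, rfl⟩ := List.mem_map.1 hx; exact mul_self_nonneg _
    · exact List.mem_map_of_mem (List.mem_map_of_mem (Finset.mem_toList.2 hχ))
  simp only [sumsOf, target, Goal.mk.injEq] at hs
  have q1 := hge fun x => x.1
  have q2 := hge fun x => x.2.1
  have q3 := hge fun x => x.2.2.1
  have q4 := hge fun x => x.2.2.2
  rw [hs.1] at q1
  rw [hs.2.1] at q2
  rw [hs.2.2.1] at q3
  rw [hs.2.2.2.1] at q4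
  obtain ⟨b1, b2⟩ := B.F.bound_out χ h1 hX hY
  obtain ⟨c5, c50⟩ := B.F.val_f_dvd h χ
  obtain ⟨-, d5, d2⟩ := B.w_facts χ h
  obtain ⟨i1, i4⟩ := iv_bound hG χ h1 B.y_order
  haveI := Fintype.ofFinite (IrrCharacter G)
  have hdvd : dg χ ∣ 95040 := h ▸ CfsgLib.Block.charDegree_dvd χ
  have hw0 := B.w_zero χ h
  simp only [item] at q1 q2 q3 q4 hk hkpos ⊢
  set k : ℕ := dg χ / 11 with hkdef
  set a := iv χ B.E.f
  set b := iv χ B.w
  set v := iv χ B.y
  have hkn : dg χ = 11 * k := by omega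
  have hk22 : k < 22 := by
    by_contra hgt
    have : (22 : ℤ) ≤ k := by omega
    nlinarith
  have hb : ∀ z : ℤ, ∀ m : ℤ, 0 ≤ m → z * z ≤ 5 → z.natAbs ≤ 2 := by
    intro z m _ hz
    by_contra hgt
    have : (3 : ℤ) ≤ |z| := by rw [Int.abs_eq_natAbs]; omega
    nlinarith [abs_mul_abs_self z]
  have hv11 : v.natAbs ≤ 11 := by
    by_contra hgt
    have : (12 : ℤ) ≤ |v| := by rw [Int.abs_eq_natAbs]; omega
    nlinarith [abs_mul_abs_self v]
  have ha2 := hb a 0 le_rfl q2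
  have hb2 := hb b 0 le_rfl q3
  have hk8640 : 8640 % k = 0 := by
    rw [hkn] at hdvd
    exact Nat.mod_eq_zero_of_dvd (Nat.dvd_of_mul_dvd_mul_left (by norm_num) (show 11 * k ∣ 11 * 8640 from hdvd))
  have hspec := items_spec k (List.mem_range.2 hk22) hk8640 (a + 2).toNat (List.mem_range.2 (by omega))
    (b + 2).toNat (List.mem_range.2 (by omega)) (v + 11).toNat (List.mem_range.2 (by omega))
  have e1 : (((a + 2).toNat : ℕ) : ℤ) - 2 = a := by omega
  have e2 : (((b + 2).toNat : ℕ) : ℤ) - 2 = b := by omega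
  have e3 : (((v + 11).toNat : ℕ) : ℤ) - 11 = v := by omega
  rw [e1, e2, e3] at hspec
  refine hspec ?_
  have hz : (k : ℤ) % 5 = 0 → a = 0 ∧ b = 0 := fun hk5 =>
    ⟨c50 (by omega), hw0 (by omega)⟩
  simp only [itemOK, Bool.and_eq_true, Bool.or_eq_true, Bool.not_eq_true', decide_eq_true_eq, beq_iff_eq,
    beq_eq_false_iff_ne, ne_eq]
  refine ⟨⟨⟨⟨⟨⟨⟨⟨?_, ?_⟩, ?_⟩, ?_⟩, ?_⟩, ?_⟩, ?_⟩, ?_⟩, ?_⟩
  · omega
  · omega
  · omega
  · by_cases h5 : (k : ℤ) % 5 = 0
    · exact Or.inr (hz h5)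
    · exact Or.inl h5
  · omega
  · omega
  · omega
  · omega
  · exact q4

end Base

/-- A complete table of the values at `1`, `f`, `f y` and `y`. -/
structure Table (G : Type u) [Group G] [Fintype G] [IsSimpleGroup G] where
  B : Base G
  o : List (IrrCharacter G)
  nodup : o.Nodup
  cover : o.toFinset = B.out
  case : o.map B.item = restM ∨ o.map B.item = restX

theorem exists_table (h : Nat.card G = 95040) : Nonempty (Table G) := by
  classical
  obtain ⟨B⟩ := exists_base h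
  obtain ⟨o, hp, hm⟩ := search_complete B.item items B.out.toList
    (fun χ hχ => B.item_mem (Finset.mem_toList.1 hχ) h)
    (fun χ hχ => (B.out_facts (Finset.mem_toList.1 hχ) h).2)
  rw [B.out_sums h] at hm
  refine ⟨⟨B, o, hp.nodup_iff.2 B.out.nodup_toList, ?_, ?_⟩⟩
  · rw [List.toFinset_eq_of_perm _ _ hp, Finset.toList_toFinset]
  · rcases search_result with e | e <;> rw [e] at hm <;>
      simp only [List.mem_cons, List.not_mem_nil, or_false] at hm
    · exact hm.symm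
    · exact hm

end CfsgLib.Char.MTwelveOrder
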