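import Cfsg.Agent.Lib.Perm.Small.PrimeCriterion

/-!
# The principal block shape with the values of the other characters on a section

For a Sylow subgroup `P` of order `p` a character outside the principal block sums to zero over
`x K`, where `K` is the group of `p`-regular elements of `C_G(P)`.
-/

set_option autoImplicit false
set_option linter.all false

namespace CfsgLib.Char.MTwelveOrder

open Cfsg CfsgLib.Block CfsgLib.Perm.PrimeBlock

universe u

variable {G : Type u} [Group G] [Fintype G]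

/-- The `p`-regular elements of the centralizer. -/
noncomputable def regCent (p : ℕ) (P : Subgroup G) : Finset G :=
  (Set.toFinite {y : G | y ∈ Subgroup.centralizer (P : Set G) ∧ ¬ p ∣ orderOf y}).toFinset

theorem mem_regCent {p : ℕ} {P : Subgroup G} {y : G} :
    y ∈ regCent p P ↔ y ∈ Subgroup.centralizer (P : Set G) ∧ ¬ p ∣ orderOf y := by
  simp [regCent]

theorem card_regCent {p c : ℕ} [Fact p.Prime] (P : Sylow p G) (hP : Nat.card P = p)
    (hC : Nat.card (Subgroup.centralizer ((P : Subgroup G) : Set G)) = p * c) :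
    (regCent p (P : Subgroup G)).card = c := by
  classical
  obtain ⟨D, hD⟩ := CfsgLib.Block.Cyclic.exists_cycSetup (Q := (P : Subgroup G)) hP
    (CfsgLib.Block.Cyclic.not_sq_dvd_of_sylow hP)
  let _ : Fintype D.K := Fintype.ofFinite _
  have h1 : Nat.card D.C = p * Nat.card D.K := D.card_C
  have h2 : Nat.card D.C = p * c := by
    rw [← hC, ← hD]
  have h3 : Nat.card D.K = c := Nat.eq_of_mul_eq_mul_left (Fact.out : p.Prime).pos (h1.symm.trans h2)
  rw [← h3, ← Fintype.card_coe, ← Nat.card_eq_fintype_card]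
  refine Nat.card_congr (Equiv.subtypeEquivRight fun y => ?_)
  rw [mem_regCent, D.hK, hD]

theorem sum_outside {p : ℕ} [Fact p.Prime] {M : Ideal AlgInt} (hM : IsPModular p M)
    (P : Sylow p G) (hP : Nat.card P = p)
    {χ : IrrCharacter G} (hχ : χ ∉ principalBlock M G) {x : G} (hx : x ∈ (P : Subgroup G))
    (hx1 : x ≠ 1) : ∑ y ∈ regCent p (P : Subgroup G), (χ : G → ℂ) (x * y) = 0 := by
  classical
  have := hM.2.1
  obtain ⟨D₀, hD₀⟩ := CfsgLib.Block.Cyclic.exists_cycSetup (Q := (P : Subgroup G)) hP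
    (CfsgLib.Block.Cyclic.not_sq_dvd_of_sylow hP)
  let D := D₀.withChar (CfsgLib.Block.oneChar D₀.K)
  have hDQ : D.Q = (P : Subgroup G) := hD₀
  let _ : Fintype D.K := Fintype.ofFinite _
  have h1 : ∀ y, (D.φ : D.K → ℂ) y = 1 := fun _ => rfl
  have hBD := D.blockData_principal hM hDQ h1
  rw [← hDQ] at hx
  obtain ⟨i, rfl⟩ := D.exists_xp_eq hx
  have hi : i ≠ 0 := fun h => hx1 (by rw [h, D.xp_zero])
  have := Fintype.ofFinite (Cfsg.IrrCharacter D.K)
  have hsum : ∑ y ∈ regCent p (P : Subgroup G), (χ : G → ℂ) (D.xp i * y) =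
      ∑ y : D.K, (χ : G → ℂ) (D.xp i * (y : G)) := by
    refine (Finset.sum_subtype _ (fun y => ?_) (fun y => (χ : G → ℂ) (D.xp i * y)))
    rw [mem_regCent, D.hK, hDQ]
  rw [hsum, Finset.sum_congr rfl fun y _ =>
    CfsgLib.Block.Cyclic.value_eq_sum D.hQ D.hK (CfsgLib.Char.isClassFunction_irr χ) hx y,
    Finset.sum_comm]
  refine Finset.sum_eq_zero fun φ' _ => ?_
  rw [← Finset.mul_sum]
  rcases eq_or_ne φ' D.φ with h | h
  · subst h
    rw [show CfsgLib.Block.Cyclic.secMult (χ : G → ℂ) (D.φ : D.K → ℂ) (D.xp i) = 0 from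
      hBD.dval_out χ hχ i hi, zero_mul]
  · refine mul_eq_zero_of_right _ ?_
    have ho := CfsgLib.Char.classInner_irr_ne h
    simp only [classInner, h1, map_one, mul_one] at ho
    exact (mul_eq_zero.1 ho).resolve_left (by simp)

theorem exists_shape_out (hlin : ∀ χ : IrrCharacter G, charDegree (χ : G → ℂ) = 1 → χ = oneChar G)
    (p : ℕ) [Fact p.Prime] (hodd : p ≠ 2) (P : Sylow p G) (hP : Nat.card P = p) (e : ℕ)
    (he : (Subgroup.centralizer ((P : Subgroup G) : Set G)).relIndex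
      (Subgroup.normalizer ((P : Subgroup G) : Set G)) = e)
    (he2 : 2 ≤ e) (hep : e ∣ p - 1) : ∃ S : Shape p e (P : Subgroup G),
      ∀ χ : IrrCharacter G, χ ≠ oneChar G → χ ∉ S.X → χ ∉ S.Y → ∀ x ∈ (P : Subgroup G), x ≠ 1 →
        ∑ y ∈ regCent p (P : Subgroup G), (χ : G → ℂ) (x * y) = 0 := by
  classical
  have hp : p.Prime := Fact.out
  obtain ⟨M, hM⟩ := CfsgLib.Block.exists_pModular hp
  have := hM.2.1
  obtain ⟨X, Y, hu, hdis, hX, hY, εX, ε, hXp, hε, hYp, hYreg, hrel⟩ :=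
    Cfsg.Agent.S4441.result p M hM hodd P hP e he
  have := Fintype.ofFinite (IrrCharacter G)
  have hdeg : ∀ χ : IrrCharacter G, (χ : G → ℂ) 1 = (charDegree (χ : G → ℂ) : ℂ) :=
    fun χ => (charDegree_eq χ).1
  have h1B : oneChar G ∈ X ∪ Y := hu ▸ one_mem_principalBlock
  have hd1 : charDegree ((oneChar G : IrrCharacter G) : G → ℂ) = 1 := by
    simp [charDegree, oneChar]
  have hone : ∀ g : G, ((oneChar G : IrrCharacter G) : G → ℂ) g = 1 := fun _ => rfl
  obtain ⟨x₀, hx₀, hx₀o⟩ : ∃ x ∈ (P : Subgroup G), orderOf x = p := by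
    obtain ⟨x, hx⟩ := exists_prime_orderOf_dvd_card' (G := (P : Subgroup G)) p (by rw [hP])
    exact ⟨x, x.2, by rw [Subgroup.orderOf_coe, hx]⟩
  have hpp : ∀ x ∈ (P : Subgroup G), x ≠ 1 → ∀ y ∈ Subgroup.centralizer ((P : Subgroup G) : Set G),
      ¬ p ∣ orderOf y → p ∣ orderOf (x * y) := by
    intro x hx hx1 y hy hyr
    have hc : Commute x y := Subgroup.mem_centralizer_iff.1 hy x hx
    have hxo : orderOf x = p := by
      have h := orderOf_dvd_natCard (⟨x, hx⟩ : (P : Subgroup G))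
      rw [hP, Subgroup.orderOf_mk] at h
      exact ((Nat.dvd_prime hp).1 h).resolve_left fun h' => hx1 (orderOf_eq_one_iff.1 h')
    rw [hc.orderOf_mul_eq_mul_orderOf_of_coprime
      (by rw [hxo]; exact (Nat.Prime.coprime_iff_not_dvd hp).2 hyr), hxo]
    exact dvd_mul_right p _
  obtain ⟨Xf, hXf⟩ : ∃ Xf, Xf = X.toFinset := ⟨_, rfl⟩
  obtain ⟨Yf, hYf⟩ : ∃ Yf, Yf = Y.toFinset := ⟨_, rfl⟩
  have hXm : ∀ χ, χ ∈ Xf ↔ χ ∈ X := fun χ => by rw [hXf, Set.mem_toFinset]
  have hYm : ∀ χ, χ ∈ Yf ↔ χ ∈ Y := fun χ => by rw [hYf, Set.mem_toFinset]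
  have hXc : Xf.card = e := by rw [hXf, ← Set.ncard_eq_toFinset_card', ← Nat.card_coe_set_eq, hX]
  have hYc : Yf.card = (p - 1) / e := by
    rw [hYf, ← Set.ncard_eq_toFinset_card', ← Nat.card_coe_set_eq, hY]
  have hrel' : ∀ θ ∈ Yf, ∀ g : G, ¬ p ∣ orderOf g →
      (ε : ℂ) * (θ : G → ℂ) g = ∑ χ ∈ Xf, (εX χ : ℂ) * (χ : G → ℂ) g := fun θ hθ g hg => by
    rw [hrel θ ((hYm θ).1 hθ) g hg, finsum_mem_eq_toFinset_sum, hXf]
  have hout : Nat.card (Subgroup.centralizer ((P : Subgroup G) : Set G)) = p → ∀ χ : IrrCharacter G,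
      χ ∉ Xf → χ ∉ Yf → ∀ x ∈ (P : Subgroup G), x ≠ 1 → (χ : G → ℂ) x = 0 := by
    intro hC χ h2 h3 x hx hx1
    exact value_outside hM P hP hC (by
      rw [hu, Set.mem_union, not_or, ← hXm, ← hYm]; exact ⟨h2, h3⟩) hx hx1
  have hsumout : ∀ χ : IrrCharacter G, χ ∉ Xf → χ ∉ Yf → ∀ x ∈ (P : Subgroup G), x ≠ 1 →
      ∑ y ∈ regCent p (P : Subgroup G), (χ : G → ℂ) (x * y) = 0 := by
    intro χ h2 h3 x hx hx1
    exact sum_outside hM P hP (by
      rw [hu, Set.mem_union, not_or, ← hXm, ← hYm]; exact ⟨h2, h3⟩) hx hx1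
  -- orthogonality with the identity
  have horth : ∀ x ∈ (P : Subgroup G), x ≠ 1 → ∀ y ∈ Subgroup.centralizer ((P : Subgroup G) : Set G),
      ¬ p ∣ orderOf y → ∑ χ ∈ Xf, (charDegree (χ : G → ℂ) : ℂ) * (εX χ : ℂ) +
        ∑ θ ∈ Yf, (charDegree (θ : G → ℂ) : ℂ) * (starRingEnd ℂ) ((θ : G → ℂ) (x * y)) = 0 := by
    intro x hx hx1 y hy hyr
    have h := blockUnion_orthogonal_regular_singular hM
      (IsBlockUnion.of_isPBlock (isPBlock_principalBlock (G := G))) (g := 1)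
      (by rw [orderOf_one]; exact hp.not_dvd_one) (hpp x hx hx1 y hy hyr)
    rw [hu, finsum_mem_union hdis (Set.toFinite _) (Set.toFinite _), finsum_mem_eq_toFinset_sum,
      finsum_mem_eq_toFinset_sum, ← hXf, ← hYf] at h
    rw [← h]
    refine congrArg₂ (· + ·) (Finset.sum_congr rfl fun χ hχ => ?_) (Finset.sum_congr rfl fun θ _ => ?_)
    · rw [hdeg, (hXp χ ((hXm χ).1 hχ)).2.2 x hx hx1 y hy hyr, map_intCast]
    · rw [hdeg]
  rcases h1B with h1 | h1
  · -- the trivial character is not exceptional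
    have h1X : oneChar G ∈ Xf := (hXm _).2 h1
    have hε1 : εX (oneChar G) = 1 := by
      have h := (hXp _ h1).2.2 x₀ hx₀ (fun h => by rw [h, orderOf_one] at hx₀o; exact hp.one_lt.ne hx₀o)
        1 (one_mem _) (by rw [orderOf_one]; exact hp.not_dvd_one)
      rw [hone] at h
      exact_mod_cast h.symm
    have h1Y : oneChar G ∉ Yf := fun h => Set.disjoint_left.1 hdis h1 ((hYm _).1 h)
    have hne : Yf.Nonempty := Finset.card_pos.1 (by
      rw [hYc]; exact Nat.div_pos (Nat.le_of_dvd (by have := hp.two_le; omega) hep) (by omega))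
    obtain ⟨θ₀, hθ₀⟩ := hne
    have hdY : ∀ θ ∈ Yf, charDegree (θ : G → ℂ) = charDegree (θ₀ : G → ℂ) := by
      intro θ hθ
      have h := hYreg θ ((hYm θ).1 hθ) θ₀ ((hYm θ₀).1 hθ₀) 1 (by rw [orderOf_one]; exact hp.not_dvd_one)
      rw [hdeg, hdeg] at h
      exact_mod_cast h
    have hsum : ∀ g : G, ∑ χ ∈ Xf, (εX χ : ℂ) * (χ : G → ℂ) g =
        1 + ∑ χ ∈ Xf.erase (oneChar G), (εX χ : ℂ) * (χ : G → ℂ) g := fun g => by
      rw [← Finset.add_sum_erase _ _ h1X, hε1, hone]; norm_num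
    refine ⟨⟨Xf.erase (oneChar G), Yf, εX, ε, charDegree (θ₀ : G → ℂ), Finset.notMem_erase _ _, h1Y,
      ?_, ?_, hYc, ?_, hε, ?_, hdY, hYp θ₀ ((hYm θ₀).1 hθ₀), ?_, ?_, ?_, ?_, ?_⟩,
      fun χ hχ1 hχX hχY => hsumout χ (fun h => hχX (Finset.mem_erase.2 ⟨hχ1, h⟩)) hχY⟩
    · rw [Finset.disjoint_left]
      exact fun χ hχ hχ' => Set.disjoint_left.1 hdis ((hXm χ).1 (Finset.mem_of_mem_erase hχ)) ((hYm χ).1 hχ')
    · rw [Finset.card_erase_add_one h1X, hXc]
    · exact fun χ hχ => (hXp χ ((hXm χ).1 (Finset.mem_of_mem_erase hχ))).1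
    · exact fun χ hχ => (hXp χ ((hXm χ).1 (Finset.mem_of_mem_erase hχ))).2.1
    · exact fun θ hθ θ' hθ' => hYreg θ ((hYm θ).1 hθ) θ' ((hYm θ').1 hθ')
    · exact fun χ hχ x hx => (hXp χ ((hXm χ).1 (Finset.mem_of_mem_erase hχ))).2.2 x hx
    · intro x hx hx1 y hy hyr
      have h := horth x hx hx1 y hy hyr
      have hY2 : ∑ θ ∈ Yf, (charDegree (θ : G → ℂ) : ℂ) * (starRingEnd ℂ) ((θ : G → ℂ) (x * y)) =
          (charDegree (θ₀ : G → ℂ) : ℂ) * (starRingEnd ℂ) (∑ θ ∈ Yf, (θ : G → ℂ) (x * y)) := by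
        rw [map_sum, Finset.mul_sum]
        exact Finset.sum_congr rfl fun θ hθ => by rw [hdY θ hθ]
      rw [hY2] at h
      have hrel1 := hrel' θ₀ hθ₀ 1 (by rw [orderOf_one]; exact hp.not_dvd_one)
      simp only [hdeg] at hrel1
      have hcomm : ∑ χ ∈ Xf, (charDegree (χ : G → ℂ) : ℂ) * (εX χ : ℂ) =
          ∑ χ ∈ Xf, (εX χ : ℂ) * (charDegree (χ : G → ℂ) : ℂ) :=
        Finset.sum_congr rfl fun χ _ => mul_comm _ _
      rw [hcomm, ← hrel1, mul_comm (ε : ℂ), ← mul_add] at h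
      have hD0 : (charDegree (θ₀ : G → ℂ) : ℂ) ≠ 0 := by exact_mod_cast (charDegree_eq θ₀).2
      have h2 := congrArg (starRingEnd ℂ) ((mul_eq_zero.1 h).resolve_left hD0)
      rw [map_add, map_intCast, Complex.conj_conj, map_zero] at h2
      linear_combination h2
    · intro θ hθ g hg
      rw [hrel' θ hθ g hg, hsum]
    · intro hC χ hχ1 hχX hχY x hx hx1
      exact hout hC χ (fun h => hχX (Finset.mem_erase.2 ⟨hχ1, h⟩)) hχY x hx hx1
  · -- the trivial character is the only exceptional one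
    have h1Y : oneChar G ∈ Yf := (hYm _).2 h1
    have hYone : ∀ θ ∈ Yf, θ = oneChar G := by
      intro θ hθ
      refine hlin θ ?_
      have h := hYreg θ ((hYm θ).1 hθ) _ h1 1 (by rw [orderOf_one]; exact hp.not_dvd_one)
      rw [hdeg, hone] at h
      exact_mod_cast h
    have hYeq : Yf = {oneChar G} := Finset.eq_singleton_iff_unique_mem.2 ⟨h1Y, hYone⟩
    have hep1 : e = p - 1 := by
      rw [hYeq, Finset.card_singleton] at hYc
      have := Nat.div_mul_cancel hep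
      rw [← hYc, one_mul] at this
      exact this
    have hεm : ε = -1 := by
      have h := hYp _ h1
      rw [hd1, hep1, Nat.cast_sub hp.one_lt.le] at h
      rcases hε with rfl | rfl
      · exfalso
        rw [Int.modEq_iff_dvd] at h
        have h2 : (p : ℤ) ∣ 2 := by
          have h3 := Int.dvd_sub (dvd_refl (p : ℤ)) h
          rwa [show (p : ℤ) - (1 * ((p : ℤ) - ((1 : ℕ) : ℤ)) - ((1 : ℕ) : ℤ)) = 2 by push_cast; ring] at h3
        exact hodd ((Nat.prime_dvd_prime_iff_eq hp Nat.prime_two).1 (by exact_mod_cast h2))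
      · rfl
    obtain ⟨χ₀, hχ₀⟩ : Xf.Nonempty := Finset.card_pos.1 (by omega)
    have hone' : oneChar G ∉ Xf := fun h => Set.disjoint_left.1 hdis ((hXm _).1 h) h1
    have hs := (hXp χ₀ ((hXm _).1 hχ₀)).1
    refine ⟨⟨Xf.erase χ₀, {χ₀}, εX, -εX χ₀, charDegree (χ₀ : G → ℂ),
      fun h => hone' (Finset.mem_of_mem_erase h), ?_, ?_, ?_, ?_, ?_, ?_, ?_, ?_, ?_, ?_, ?_, ?_, ?_, ?_⟩,
      fun χ hχ1 hχX hχY => hsumout χ (fun h => hχX (Finset.mem_erase.2
        ⟨fun h' => hχY (Finset.mem_singleton.2 h'), h⟩)) (fun h => hχ1 (hYone χ h))⟩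
    · exact fun h => hone' (Finset.mem_singleton.1 h ▸ hχ₀)
    · rw [Finset.disjoint_singleton_right]; exact Finset.notMem_erase _ _
    · rw [Finset.card_erase_add_one hχ₀, hXc]
    · rw [← hYc, hYeq, Finset.card_singleton, Finset.card_singleton]
    · exact fun χ hχ => (hXp χ ((hXm χ).1 (Finset.mem_of_mem_erase hχ))).1
    · rcases hs with h | h <;> rw [h] <;> norm_num
    · exact fun χ hχ => (hXp χ ((hXm χ).1 (Finset.mem_of_mem_erase hχ))).2.1
    · intro θ hθ; rw [Finset.mem_singleton.1 hθ]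
    · refine (hXp χ₀ ((hXm _).1 hχ₀)).2.1.trans ?_
      rw [hep1, Nat.cast_sub hp.one_lt.le, Int.modEq_iff_dvd]
      exact ⟨-εX χ₀, by push_cast; ring⟩
    · intro θ hθ θ' hθ' g _; rw [Finset.mem_singleton.1 hθ, Finset.mem_singleton.1 hθ']
    · exact fun χ hχ x hx => (hXp χ ((hXm χ).1 (Finset.mem_of_mem_erase hχ))).2.2 x hx
    · intro x hx hx1 y hy hyr
      rw [Finset.sum_singleton, (hXp χ₀ ((hXm _).1 hχ₀)).2.2 x hx hx1 y hy hyr]
      push_cast; ring
    · intro θ hθ g hg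
      rw [Finset.mem_singleton.1 hθ]
      have h := hrel' _ h1Y g hg
      rw [hone, hεm, ← Finset.add_sum_erase _ _ hχ₀] at h
      push_cast at h ⊢
      linear_combination h
    · intro hC χ hχ1 hχX hχY x hx hx1
      refine hout hC χ (fun h => ?_) (fun h => hχ1 (hYone χ h)) x hx hx1
      exact hχX (Finset.mem_erase.2 ⟨fun h' => hχY (Finset.mem_singleton.2 h'), h⟩)

end CfsgLib.Char.MTwelveOrder
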