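import Cfsg.Agent.Lib.Char.MTwelveOrder.Shape
import Cfsg.Agent.Lib.Char.MEleven.Order.Blocks
import Cfsg.Agent.Lib.Char.DefectZero

/-!
# Simple groups of order 95040: general tools on principal blocks and integral values
-/

set_option autoImplicit false
set_option linter.all false

open Cfsg CfsgLib.Perm.PrimeBlock CfsgLib.Block Finset CfsgLib.Char.MEleven.Order
open scoped ComplexConjugate

namespace CfsgLib.Char.MTwelveOrder

universe u

variable {G : Type u} [Group G] [Finite G]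

/-- An integral value of a character, zero if there is none. -/
noncomputable def iv (χ : IrrCharacter G) (g : G) : ℤ :=
  open Classical in if h : ∃ r : ℤ, (χ : G → ℂ) g = r then h.choose else 0

theorem iv_eq {χ : IrrCharacter G} {g : G} {r : ℤ} (h : (χ : G → ℂ) g = r) : iv χ g = r := by
  have hh : ∃ r : ℤ, (χ : G → ℂ) g = r := ⟨r, h⟩
  rw [iv, dif_pos hh]
  exact_mod_cast hh.choose_spec.symm.trans h

theorem iv_spec {χ : IrrCharacter G} {g : G} (h : ∃ r : ℤ, (χ : G → ℂ) g = r) :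
    (χ : G → ℂ) g = (iv χ g : ℂ) := by
  obtain ⟨r, hr⟩ := h
  rw [iv_eq hr, hr]

theorem iv_oneChar (g : G) : iv (CfsgLib.Block.oneChar G) g = 1 :=
  iv_eq (by show (1 : ℂ) = _; simp)

theorem val_invol [IsSimpleGroup G] (hG : ¬ IsMulCommutative G) (χ : IrrCharacter G) {u : G}
    (hu : orderOf u = 2) : (χ : G → ℂ) u = (iv χ u : ℂ) := by
  refine iv_spec ?_
  rcases eq_or_ne χ (CfsgLib.Block.oneChar G) with h | h
  · exact ⟨1, by rw [h]; show (1 : ℂ) = _; simp⟩
  · obtain ⟨r, hr, -⟩ := value_invol hG χ h hu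
    exact ⟨r, hr⟩

theorem iv_bound [IsSimpleGroup G] (hG : ¬ IsMulCommutative G) (χ : IrrCharacter G)
    (hne : χ ≠ CfsgLib.Block.oneChar G) {u : G} (hu : orderOf u = 2) :
    (iv χ u).natAbs < dg χ ∧ (iv χ u - (dg χ : ℤ)) % 4 = 0 := by
  obtain ⟨r, hr, h1, h2⟩ := value_invol hG χ hne hu
  rw [iv_eq hr]
  exact ⟨h1, h2⟩

/-- Column orthogonality for integral values. -/
theorem sum_iv_mul [Fintype (IrrCharacter G)] {g h : G} (hgh : ¬ IsConj g h)
    (hg : ∀ χ : IrrCharacter G, (χ : G → ℂ) g = (iv χ g : ℂ))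
    (hh : ∀ χ : IrrCharacter G, (χ : G → ℂ) h = (iv χ h : ℂ)) :
    ∑ χ : IrrCharacter G, iv χ g * iv χ h = 0 := by
  classical
  have e := CfsgLib.Char.sum_irr_mul_conj g h
  rw [if_neg hgh] at e
  simp only [hg, hh, map_intCast] at e
  exact_mod_cast e

theorem sum_iv_sq [Fintype (IrrCharacter G)] {g : G}
    (hg : ∀ χ : IrrCharacter G, (χ : G → ℂ) g = (iv χ g : ℂ)) :
    ∑ χ : IrrCharacter G, iv χ g * iv χ g =
      (Nat.card (Subgroup.centralizer ({g} : Set G)) : ℤ) := by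
  classical
  have e := CfsgLib.Char.sum_irr_mul_conj g g
  rw [if_pos (IsConj.refl g)] at e
  simp only [hg, map_intCast] at e
  exact_mod_cast e

theorem sum_dg_iv [Fintype (IrrCharacter G)] {g : G} (hg1 : g ≠ 1)
    (hg : ∀ χ : IrrCharacter G, (χ : G → ℂ) g = (iv χ g : ℂ)) :
    ∑ χ : IrrCharacter G, (dg χ : ℤ) * iv χ g = 0 := by
  classical
  have e := CfsgLib.Char.sum_irr_mul_conj g (1 : G)
  rw [if_neg (fun hc => hg1 (by simpa using hc))] at e
  simp only [hg, val_one, Complex.conj_natCast] at e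
  have e2 : ∑ χ : IrrCharacter G, iv χ g * (dg χ : ℤ) = 0 := by exact_mod_cast e
  rw [← e2]
  exact Finset.sum_congr rfl fun χ _ => mul_comm _ _

theorem sum_iv_sq_le {g : G} (F : Finset (IrrCharacter G))
    (hg : ∀ χ ∈ F, (χ : G → ℂ) g = (iv χ g : ℂ)) :
    ∑ χ ∈ F, iv χ g * iv χ g ≤ (Nat.card (Subgroup.centralizer ({g} : Set G)) : ℤ) := by
  classical
  haveI := Fintype.ofFinite (IrrCharacter G)
  have e := CfsgLib.Char.sum_irr_mul_conj g g
  rw [if_pos (IsConj.refl g)] at e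
  have hre := congrArg Complex.re e
  rw [Complex.natCast_re, Complex.re_sum] at hre
  have hsub := Finset.sum_le_sum_of_subset_of_nonneg (Finset.subset_univ F)
      (f := fun χ : IrrCharacter G => ((χ : G → ℂ) g * conj ((χ : G → ℂ) g)).re)
      (fun χ _ _ => by rw [Complex.mul_conj]; exact Complex.normSq_nonneg _)
  rw [hre, Finset.sum_congr rfl (g := fun χ => ((iv χ g * iv χ g : ℤ) : ℝ))
    (fun χ hχ => by rw [hg χ hχ]; simp)] at hsub
  exact_mod_cast hsub

/-- A character of degree divisible by five vanishes on five-singular elements. -/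
theorem vanish_five (h : Nat.card G = 95040) (χ : IrrCharacter G) (h5 : 5 ∣ dg χ) {x : G}
    (hx : 5 ∣ orderOf x) : (χ : G → ℂ) x = 0 := by
  haveI : Fact (Nat.Prime 5) := ⟨by norm_num⟩
  exact CfsgLib.Char.char_defect_zero_vanishes χ (n := 1) (by rw [h]; norm_num) (by rw [h]; norm_num)
    (val_one χ) (by rwa [pow_one]) hx

section Block

variable {p e : ℕ}

/-- The signed value. -/
noncomputable def sv {P : Subgroup G} [Fintype G] (S : Shape p e P) (u : G) (χ : IrrCharacter G) : ℤ :=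
  S.εX χ * iv χ u

variable [Fintype G] [hp : Fact p.Prime]

theorem sd_ne {P : Subgroup G} (S : Shape p e P) {χ : IrrCharacter G} (hχ : χ ∈ S.X) : sd S χ ≠ 0 := by
  have := dg_pos χ
  simp only [sd]
  rcases S.sign_X χ hχ with hs | hs <;> rw [hs] <;> omega

theorem natAbs_sd {P : Subgroup G} (S : Shape p e P) {χ : IrrCharacter G} (hχ : χ ∈ S.X) :
    (sd S χ).natAbs = dg χ := by
  simp only [sd]
  rcases S.sign_X χ hχ with hs | hs <;> rw [hs] <;> simp

theorem rel_val {P : Subgroup G} (S : Shape p e P) {θ : IrrCharacter G} (hθ : θ ∈ S.Y) {g : G}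
    (hgr : ¬ p ∣ orderOf g) (hg : ∀ χ : IrrCharacter G, (χ : G → ℂ) g = (iv χ g : ℂ)) :
    S.ε * iv θ g = 1 + ∑ χ ∈ S.X, sv S g χ := by
  have h := S.relation θ hθ g hgr
  rw [hg θ, Finset.sum_congr rfl fun χ _ => by rw [hg χ]] at h
  simp only [sv]
  exact_mod_cast h

theorem iv_Y {P : Subgroup G} (S : Shape p e P) {θ θ' : IrrCharacter G} (hθ : θ ∈ S.Y)
    (hθ' : θ' ∈ S.Y) {g : G} (hgr : ¬ p ∣ orderOf g)
    (hg : ∀ χ : IrrCharacter G, (χ : G → ℂ) g = (iv χ g : ℂ)) : iv θ g = iv θ' g :=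
  iv_eq (by rw [S.regular_Y θ hθ θ' hθ' g hgr, hg θ'])

theorem nonempty_Y {P : Subgroup G} (S : Shape p e P) (hep : e ∣ p - 1) (he : 1 ≤ e) : S.Y.Nonempty :=
  Finset.card_pos.1 (by
    rw [S.card_Y]
    exact Nat.div_pos (Nat.le_of_dvd (by have := hp.out.two_le; omega) hep) (by omega))

theorem orderOf_mem {P : Subgroup G} (hP : Nat.card P = p) {x : G} (hx : x ∈ P) (hx1 : x ≠ 1) :
    orderOf x = p := by classical exact CfsgLib.Block.Cyclic.orderOf_eq_p hP hx hx1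

/-- The class multiplication formula on the section of `x`. -/
theorem section_eq [IsSimpleGroup G] (hG : ¬ IsMulCommutative G) {P : Sylow p G}
    (S : Shape p e (P : Subgroup G))
    (hout : ∀ χ : IrrCharacter G, χ ≠ oneChar G → χ ∉ S.X → χ ∉ S.Y → ∀ x ∈ (P : Subgroup G), x ≠ 1 →
      ∑ y ∈ regCent p (P : Subgroup G), (χ : G → ℂ) (x * y) = 0)
    (hodd : p ≠ 2) (hep : e ∣ p - 1) (he : 1 ≤ e) {x : G} (hx : x ∈ (P : Subgroup G)) (hx1 : x ≠ 1)
    {u : G} (hu : orderOf u = 2) {θ : IrrCharacter G} (hθ : θ ∈ S.Y) :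
    ((∑ y ∈ regCent p (P : Subgroup G), CfsgLib.Char.classConst u u (x * y) : ℕ) : ℂ) *
        (Nat.card (Subgroup.centralizer ({u} : Set G)) : ℂ) *
        (Nat.card (Subgroup.centralizer ({u} : Set G)) : ℂ) =
      (Nat.card G : ℂ) * ((regCent p (P : Subgroup G)).card : ℂ) *
        (1 + ∑ χ ∈ S.X, (sv S u χ : ℂ) ^ 2 / (sd S χ : ℂ) -
          ((S.ε * iv θ u : ℤ) : ℂ) ^ 2 / ((S.ε * (S.D : ℤ) : ℤ) : ℂ)) := by
  classical
  haveI := Fintype.ofFinite (IrrCharacter G)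
  set K := regCent p (P : Subgroup G) with hK
  have hur : ¬ p ∣ orderOf u := by
    rw [hu]; exact fun h => hodd ((Nat.prime_dvd_prime_iff_eq hp.out Nat.prime_two).1 h)
  rw [Nat.cast_sum, Finset.sum_mul, Finset.sum_mul, Finset.sum_congr rfl fun y _ => class_mul u u (x * y),
    ← Finset.mul_sum, Finset.sum_comm, mul_assoc (Nat.card G : ℂ)]
  congr 1
  have hin : ∀ ψ : IrrCharacter G,
      ∑ y ∈ K, (ψ : G → ℂ) u * (ψ : G → ℂ) u * conj ((ψ : G → ℂ) (x * y)) / (dg ψ : ℂ) =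
        (ψ : G → ℂ) u * (ψ : G → ℂ) u / (dg ψ : ℂ) * conj (∑ y ∈ K, (ψ : G → ℂ) (x * y)) := by
    intro ψ
    rw [map_sum, Finset.mul_sum]
    exact Finset.sum_congr rfl fun y _ => by ring
  simp only [hin]
  rw [← Finset.sum_subset (Finset.subset_univ ({oneChar G} ∪ S.X ∪ S.Y)) (fun ψ _ hψ => by
    simp only [Finset.mem_union, Finset.mem_singleton, not_or] at hψ
    rw [hout ψ hψ.1.1 hψ.1.2 hψ.2 x hx hx1, map_zero, mul_zero]),
    Finset.sum_union (Finset.disjoint_union_left.2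
      ⟨Finset.disjoint_singleton_left.2 S.one_notMem_Y, S.disjoint⟩),
    Finset.sum_union (Finset.disjoint_singleton_left.2 S.one_notMem_X), Finset.sum_singleton]
  have e1 : ∀ g : G, ((oneChar G : IrrCharacter G) : G → ℂ) g = 1 := fun _ => rfl
  have hX : ∀ χ ∈ S.X, (χ : G → ℂ) u * (χ : G → ℂ) u / (dg χ : ℂ) *
      conj (∑ y ∈ K, (χ : G → ℂ) (x * y)) = (K.card : ℂ) * ((sv S u χ : ℂ) ^ 2 / (sd S χ : ℂ)) := by
    intro χ hχ
    rw [Finset.sum_congr rfl fun y hy => S.value_X χ hχ x hx hx1 y (mem_regCent.1 hy).1 (mem_regCent.1 hy).2,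
      Finset.sum_const, nsmul_eq_mul, map_mul, Complex.conj_natCast, map_intCast, val_invol hG χ hu]
    simp only [sv, sd]
    rcases S.sign_X χ hχ with hs | hs <;> rw [hs] <;> push_cast <;> ring
  have hY : ∑ ψ ∈ S.Y, (ψ : G → ℂ) u * (ψ : G → ℂ) u / (dg ψ : ℂ) *
      conj (∑ y ∈ K, (ψ : G → ℂ) (x * y)) =
        -((K.card : ℂ) * (((S.ε * iv θ u : ℤ) : ℂ) ^ 2 / ((S.ε * (S.D : ℤ) : ℤ) : ℂ))) := by
    calc _ = ∑ ψ ∈ S.Y, (iv θ u : ℂ) * iv θ u / (S.D : ℂ) * conj (∑ y ∈ K, (ψ : G → ℂ) (x * y)) := by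
            refine Finset.sum_congr rfl fun ψ hψ => ?_
            rw [S.regular_Y ψ hψ θ hθ u hur, val_invol hG θ hu, show dg ψ = S.D from S.degree_Y ψ hψ]
      _ = _ := by
            rw [← Finset.mul_sum, ← map_sum, Finset.sum_comm,
              Finset.sum_congr rfl fun y hy => S.value_Y x hx hx1 y (mem_regCent.1 hy).1 (mem_regCent.1 hy).2,
              Finset.sum_const, nsmul_eq_mul, map_mul, Complex.conj_natCast, map_neg, map_intCast]
            rcases S.sign with hs | hs <;> rw [hs] <;> push_cast <;> ring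
  rw [hY, Finset.sum_congr rfl hX, ← Finset.mul_sum, e1, dg_one,
    Finset.sum_congr rfl fun y _ => e1 (x * y), Finset.sum_const, nsmul_one, Complex.conj_natCast]
  push_cast
  ring

/-- The values at an involution pass the test. -/
theorem good_assign [IsSimpleGroup G] (hG : ¬ IsMulCommutative G) {P : Sylow p G}
    (S : Shape p e (P : Subgroup G))
    (hout : ∀ χ : IrrCharacter G, χ ≠ oneChar G → χ ∉ S.X → χ ∉ S.Y → ∀ x ∈ (P : Subgroup G), x ≠ 1 →
      ∑ y ∈ regCent p (P : Subgroup G), (χ : G → ℂ) (x * y) = 0)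
    (hodd : p ≠ 2) (hep : e ∣ p - 1) (he : 1 ≤ e) {x : G} (hx : x ∈ (P : Subgroup G)) (hx1 : x ≠ 1)
    {u : G} (hu : orderOf u = 2) {X' : List (IrrCharacter G)} (hX' : List.Perm X' S.X.toList) :
    goodAssignK (Nat.card G * (regCent p (P : Subgroup G)).card) p e
        (∑ y ∈ regCent p (P : Subgroup G), CfsgLib.Char.classConst u u (x * y))
        (Nat.card (Subgroup.centralizer ({u} : Set G))) (X'.map fun χ => (sd S χ, sv S u χ)) = true ∧
      X'.map (fun χ => (sd S χ, sv S u χ)) ∈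
        assigns (Nat.card (Subgroup.centralizer ({u} : Set G))) (X'.map (sd S)) := by
  classical
  obtain ⟨θ, hθ⟩ := nonempty_Y S hep he
  have hur : ¬ p ∣ orderOf u := by
    rw [hu]; exact fun h => hodd ((Nat.prime_dvd_prime_iff_eq hp.out Nat.prime_two).1 h)
  have hne : ∀ χ ∈ S.X, χ ≠ oneChar G := fun χ h h' => S.one_notMem_X (h' ▸ h)
  have hnY : θ ≠ oneChar G := fun h' => S.one_notMem_Y (h' ▸ hθ)
  have hmemX : ∀ χ ∈ X', χ ∈ S.X := fun χ hχ => Finset.mem_toList.1 (hX'.mem_iff.1 hχ)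
  have hsumX : ∀ g : IrrCharacter G → ℤ, (X'.map g).sum = ∑ χ ∈ S.X, g χ := fun g => by
    rw [(hX'.map g).sum_eq, Finset.sum_map_toList]
  have hrelu := rel_val S hθ hur (fun χ => val_invol hG χ hu)
  have hrel1 := rel_one S hθ
  set d := Nat.card (Subgroup.centralizer ({u} : Set G)) with hd
  have hcol : 1 + ∑ χ ∈ S.X, sv S u χ * sv S u χ +
      (((p - 1) / e : ℕ) : ℤ) * ((S.ε * iv θ u) * (S.ε * iv θ u)) ≤ (d : ℤ) := by
    have h := sum_iv_sq_le ({oneChar G} ∪ S.X ∪ S.Y) (g := u) (fun χ _ => val_invol hG χ hu)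
    rw [Finset.sum_union (Finset.disjoint_union_left.2
      ⟨Finset.disjoint_singleton_left.2 S.one_notMem_Y, S.disjoint⟩),
      Finset.sum_union (Finset.disjoint_singleton_left.2 S.one_notMem_X), Finset.sum_singleton,
      iv_oneChar, Finset.sum_congr rfl (s₁ := S.X) (g := fun χ => sv S u χ * sv S u χ) (fun χ hχ => by
        simp only [sv]; rcases S.sign_X χ hχ with hs | hs <;> rw [hs] <;> ring),
      Finset.sum_congr rfl (s₁ := S.Y) (g := fun _ => (S.ε * iv θ u) * (S.ε * iv θ u)) (fun χ hχ => by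
        rw [iv_Y S hχ hθ hur (fun ψ => val_invol hG ψ hu)]
        rcases S.sign with hs | hs <;> rw [hs] <;> ring),
      Finset.sum_const, S.card_Y, nsmul_eq_mul, ← hd] at h
    linarith
  refine ⟨?_, mem_assigns (sd S) (sv S u) d X' fun χ hχ => ?_⟩
  swap
  · obtain ⟨hlt, h4⟩ := iv_bound hG χ (hne χ (hmemX χ hχ)) hu
    refine mem_valsFor ?_ ?_ ?_
    · simp only [sd, sv]
      rcases S.sign_X χ (hmemX χ hχ) with hs | hs <;> simpa [hs] using hlt
    · have h1 : sv S u χ * sv S u χ ≤ ∑ ψ ∈ S.X, sv S u ψ * sv S u ψ :=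
        Finset.single_le_sum (f := fun ψ => sv S u ψ * sv S u ψ) (fun ψ _ => mul_self_nonneg _) (hmemX χ hχ)
      have h2 : 0 ≤ ((((p - 1) / e : ℕ) : ℤ)) * ((S.ε * iv θ u) * (S.ε * iv θ u)) :=
        mul_nonneg (Int.natCast_nonneg _) (mul_self_nonneg _)
      linarith
    · simp only [sd, sv]
      rcases S.sign_X χ (hmemX χ hχ) with hs | hs <;> rw [hs] <;> omega
  obtain ⟨hlt, h4⟩ := iv_bound hG θ hnY hu
  rw [show dg θ = S.D from S.degree_Y θ hθ] at hlt h4
  have hmapf : (X'.map fun χ => (sd S χ, sv S u χ)).map Prod.fst = X'.map (sd S) := by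
    simp [List.map_map, Function.comp_def]
  have hmapv : (X'.map fun χ => (sd S χ, sv S u χ)).map Prod.snd = X'.map (sv S u) := by
    simp [List.map_map, Function.comp_def]
  have hmapq : ((X'.map fun χ => (sd S χ, sv S u χ)).map fun q => q.2 * q.2) =
      X'.map fun χ => sv S u χ * sv S u χ := by simp [List.map_map, Function.comp_def]
  simp only [goodAssignK, hmapf, hmapv, hmapq, hsumX, ← hrel1, ← hrelu, Bool.and_eq_true,
    decide_eq_true_eq, beq_iff_eq]
  refine ⟨⟨⟨?_, ?_⟩, hcol⟩, ?_⟩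
  · rcases S.sign with hs | hs <;> rw [hs] <;> simpa using hlt
  · rcases S.sign with hs | hs <;> rw [hs] <;> omega
  obtain ⟨hden, hnum⟩ := fracSum_spec (sd S) (sv S u) X' fun χ hχ => sd_ne S (hmemX χ hχ)
  have hmain := section_eq hG S hout hodd hep he hx hx1 hu hθ
  rw [← hd] at hmain
  have hlist : (X'.map fun χ => (sv S u χ : ℂ) ^ 2 / (sd S χ : ℂ)).sum =
      ∑ χ ∈ S.X, (sv S u χ : ℂ) ^ 2 / (sd S χ : ℂ) := by
    rw [(hX'.map _).sum_eq, Finset.sum_map_toList]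
  rw [hlist] at hnum
  have hD0 : ((S.ε * (S.D : ℤ) : ℤ) : ℂ) ≠ 0 := by
    have : 0 < S.D := S.degree_Y θ hθ ▸ dg_pos θ
    rcases S.sign with hs | hs <;> simp [hs] <;> omega
  set num : ℤ := (fracSum (X'.map fun χ => (sd S χ, sv S u χ))).1
  set den : ℤ := (fracSum (X'.map fun χ => (sd S χ, sv S u χ))).2
  set k : ℕ := ∑ y ∈ regCent p (P : Subgroup G), CfsgLib.Char.classConst u u (x * y)
  set c : ℕ := (regCent p (P : Subgroup G)).card
  set T : ℤ := S.ε * iv θ u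
  set F : ℂ := 1 + ∑ χ ∈ S.X, (sv S u χ : ℂ) ^ 2 / (sd S χ : ℂ) with hF
  suffices h : (((((Nat.card G * c : ℕ) : ℤ)) * (num * (S.ε * (S.D : ℤ)) - T * T * den) : ℤ) : ℂ) =
      (((k : ℤ) * (d : ℤ) * (d : ℤ) * (den * (S.ε * (S.D : ℤ))) : ℤ) : ℂ) by exact_mod_cast h
  calc (((((Nat.card G * c : ℕ) : ℤ)) * (num * (S.ε * (S.D : ℤ)) - T * T * den) : ℤ) : ℂ)
      = (Nat.card G : ℂ) * (c : ℂ) * ((num : ℂ) * ((S.ε * (S.D : ℤ) : ℤ) : ℂ) -
          (T : ℂ) ^ 2 * (den : ℂ)) := by push_cast; ring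
    _ = (Nat.card G : ℂ) * (c : ℂ) * (F - (T : ℂ) ^ 2 / ((S.ε * (S.D : ℤ) : ℤ) : ℂ)) *
          ((den : ℂ) * ((S.ε * (S.D : ℤ) : ℤ) : ℂ)) := by
        rw [hnum]
        field_simp
    _ = _ := by rw [← hmain]; push_cast; ring

/-- The characters outside the principal block have degree divisible by `p` if `C_G(P) = P`. -/
theorem dvd_dg_outside {P : Sylow p G} (S : Shape p e (P : Subgroup G))
    (hP : Nat.card (P : Subgroup G) = p)
    (hC : Nat.card (Subgroup.centralizer ((P : Subgroup G) : Set G)) = p) (χ : IrrCharacter G)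
    (h1 : χ ≠ oneChar G) (hX : χ ∉ S.X) (hY : χ ∉ S.Y) : p ∣ dg χ :=
  dvd_dg_of_zero hP χ (S.outside hC χ h1 hX hY)

end Block

end CfsgLib.Char.MTwelveOrder
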