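import Cfsg.Agent.Lib.Char.MTwelveOrder.ElevenValues

/-!
# Simple groups of order 95040: the automiser of the Sylow 5-subgroup has order four
-/

set_option autoImplicit false
set_option linter.all false

open Cfsg CfsgLib.Perm.PrimeBlock CfsgLib.Block Finset CfsgLib.Char.MEleven.Order

namespace CfsgLib.Char.MTwelveOrder

universe u

theorem cands_two {g m p c B : ℕ} (hc : 1 < c) : cands g m p c B = cands g m p 2 B := by
  simp [cands, hc]

theorem five_list_two :
    (combos (cands 95040 19008 5 2 309) (2 - 1)).filter (fun l =>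
      okAbs 95040 19008 (1 + l.sum).natAbs && ((1 + l.sum) % ((5 : ℕ) : ℤ) == ((2 : ℕ) : ℤ) % ((5 : ℕ) : ℤ)))
      = [[11]] := by decide +kernel

variable {G : Type u} [Group G] [Fintype G] [IsSimpleGroup G] {E : ElevenSetup G}

/-- A regular element of the centralizer of the Sylow 5-subgroup. -/
theorem FiveSetup.exists_regular {e c : ℕ} (F : FiveSetup E e c) :
    ∃ z : G, z ≠ 1 ∧ ¬ 5 ∣ orderOf z ∧ Commute E.f z := by
  haveI : Fact (Nat.Prime 5) := ⟨by norm_num⟩
  obtain ⟨z, hz, hz5, hz1⟩ := exists_regular_ne F.cent_Q F.not_five F.one_lt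
  exact ⟨z, hz1, hz5, Subgroup.mem_centralizer_iff.1 hz E.f F.f_mem⟩

/-- The exceptional degree in the block of the prime eleven is not five. -/
theorem FiveSetup.D_ne_five {e c : ℕ} (F : FiveSetup E e c) (h : Nat.card G = 95040) : E.S.D ≠ 5 := by
  intro hD
  haveI : Fact (Nat.Prime 11) := ⟨by norm_num⟩
  obtain ⟨θ, hθ⟩ := nonempty_Y E.S (by norm_num) (by norm_num)
  obtain ⟨z, hz1, hz5, hc⟩ := F.exists_regular
  exact not_deg_five (noncomm h) h θ (by rw [show dg θ = E.S.D from E.S.degree_Y θ hθ, hD]) E.f_order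
    hz5 hz1 hc

/-- For even `c` no block character has degree ten. -/
theorem FiveSetup.no_ten {e c : ℕ} (F : FiveSetup E e c) (h : Nat.card G = 95040) (hc : 2 ∣ c)
    (χ : IrrCharacter G) : dg χ ≠ 10 := by
  intro hd
  haveI : Fact (Nat.Prime 2) := ⟨Nat.prime_two⟩
  obtain ⟨y, hy⟩ := exists_prime_orderOf_dvd_card'
    (G := Subgroup.centralizer ((F.Q : Subgroup G) : Set G)) 2 (by rw [F.cent_Q]; exact hc.mul_left 5)
  exact not_deg_ten (noncomm h) h χ hd E.f_order (by rw [Subgroup.orderOf_coe, hy])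
    (Subgroup.mem_centralizer_iff.1 y.2 E.f F.f_mem)

theorem FiveSetup.e_ne_two {c : ℕ} (F : FiveSetup E 2 c) (h : Nat.card G = 95040) : False := by
  classical
  haveI : Fact (Nat.Prime 5) := ⟨by norm_num⟩
  haveI : Fact (Nat.Prime 11) := ⟨by norm_num⟩
  have hG := noncomm h
  obtain ⟨X5, hp5, hm5⟩ := exists_degList hG F.T F.card_Q (m := 19008) (B := 309) (by rw [h])
    (by norm_num) (by norm_num) F.cent_Q F.not_five (by rw [h]; norm_num)
  rw [h, cands_two F.one_lt, five_list_two, List.mem_singleton] at hm5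
  obtain ⟨ψ, rfl⟩ : ∃ ψ, X5 = [ψ] :=
    List.length_eq_one_iff.1 (by simpa using congrArg List.length hm5)
  have hsd : sd F.T ψ = 11 := by simpa using hm5
  have hX5 : F.T.X = {ψ} := by
    ext χ
    rw [← Finset.mem_toList, ← hp5.mem_iff, List.mem_singleton, Finset.mem_singleton]
  have hεψ : F.T.εX ψ = 1 ∧ dg ψ = 11 := by
    have hs := F.T.sign_X ψ (by rw [hX5]; simp)
    simp only [sd] at hsd
    rcases hs with e | e <;> rw [e] at hsd ⊢ <;> omega
  obtain ⟨θ, θ', hne, hY⟩ := Finset.card_eq_two.1 (show F.T.Y.card = 2 by rw [F.T.card_Y])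
  have hθ : θ ∈ F.T.Y := by rw [hY]; simp
  have hθ' : θ' ∈ F.T.Y := by rw [hY]; simp
  have hrel1 := rel_one F.T hθ
  rw [hX5, Finset.sum_singleton, hsd] at hrel1
  have hεD : F.T.ε = 1 ∧ F.T.D = 12 := by
    rcases F.T.sign with e | e <;> rw [e] at hrel1 ⊢ <;> omega
  obtain ⟨X', hp, hl⟩ := E.exists_list h
  set l := X'.map (sd E.S) with hldef
  have hin : ∀ χ ∈ F.T.Y, χ ∈ X' ∧ sd E.S χ = 12 ∧ E.S.εX χ = 1 := by
    intro χ hχ
    have hd : dg χ = 12 := by rw [show dg χ = F.T.D from F.T.degree_Y χ hχ, hεD.2]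
    have hX : χ ∈ E.S.X := by
      by_contra hno
      have hnY : χ ∉ E.S.Y := by
        intro hY'
        obtain ⟨θ₀, hθ₀⟩ := nonempty_Y E.S (by norm_num) (by norm_num)
        have hr := rel_one E.S hθ₀
        have hsum : l.sum = ∑ ρ ∈ E.S.X, sd E.S ρ := by rw [hldef, (hp.map _).sum_eq, Finset.sum_map_toList]
        rw [← hsum] at hr
        have := eleven_D_ne l hl
        rw [← hr, show E.S.D = 12 by rw [← hd]; exact (E.S.degree_Y χ hY').symm] at this
        rcases E.S.sign with e | e <;> simp [e] at this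
      have := dvd_dg_outside E.S E.card_P E.cent_P χ (fun e => F.T.one_notMem_Y (e ▸ hχ)) hno hnY
      rw [hd] at this
      norm_num at this
    have hmem : χ ∈ X' := hp.mem_iff.2 (Finset.mem_toList.2 hX)
    have hm := E.S.degree_X χ hX
    rw [show charDegree (χ : G → ℂ) = 12 from hd, Int.ModEq] at hm
    push_cast at hm
    simp only [sd, hd]
    rcases E.S.sign_X χ hX with e | e <;> rw [e] at hm ⊢ <;> simp at hm ⊢ <;> exact hmem
  obtain ⟨hθm, hθs, hθe⟩ := hin θ hθ
  obtain ⟨hθm', hθs', hθe'⟩ := hin θ' hθ'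
  obtain ⟨u, hu, h64⟩ := exists_two_central h
  have hur : ¬ 5 ∣ orderOf u := by rw [hu]; norm_num
  obtain ⟨a₀, hk, hcase⟩ := F.pairs hu
  have hv := iv_Y F.T hθ hθ' hur (fun χ => val_invol hG χ hu)
  have hrelu := rel_val F.T hθ hur (fun χ => val_invol hG χ hu)
  rw [hX5, Finset.sum_singleton, hεD.1, one_mul] at hrelu
  have hsvψ : sv F.T u ψ = iv ψ u := by simp [sv, hεψ.1]
  rw [hsvψ] at hrelu
  obtain ⟨hψlt, -⟩ := iv_bound hG ψ (fun e => F.T.one_notMem_X (by rw [← e, hX5]; simp)) hu
  rw [hεψ.2] at hψlt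
  have hsec := section_eq hG F.T F.hout (by norm_num) (by norm_num) (by norm_num) F.f_mem F.f_ne hu hθ
  rw [hk, card_regCent F.Q F.card_Q F.cent_Q, hX5, Finset.sum_singleton, hsvψ, hsd, hεD.1, hεD.2,
    one_mul, one_mul, h, hrelu] at hsec
  set d := Nat.card (Subgroup.centralizer ({u} : Set G)) with hd
  set v := iv ψ u with hvdef
  have heq : (5 * (a₀ * a₀) : ℤ) * d * d * 132 = 95040 * c * ((v - 11) * (v - 11)) := by
    suffices hh : (((5 * (a₀ * a₀) : ℤ) * d * d * 132 : ℤ) : ℂ) = ((95040 * c * ((v - 11) * (v - 11)) : ℤ) : ℂ) by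
      exact_mod_cast hh
    push_cast at hsec ⊢
    linear_combination 132 * hsec
  have hc0 : (c : ℤ) ≠ 0 := by have := F.one_lt; omega
  rcases hcase with rfl | ⟨w, hwc, hwo, hwi⟩
  · simp only [Nat.cast_zero, mul_zero, zero_mul] at heq
    rcases mul_eq_zero.1 heq.symm with h1 | h1
    · rcases mul_eq_zero.1 h1 with h2 | h2 <;> omega
    · rcases mul_eq_zero.1 h1 with h2 | h2 <;> omega
  -- the inverting conjugate
  have hzero : iv θ u = 0 := by
    have hcl : ∀ χ : IrrCharacter G, (χ : G → ℂ) w = (iv χ u : ℂ) := fun χ => by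
      obtain ⟨g, rfl⟩ := isConj_iff.1 hwc
      rw [CfsgLib.Char.isClassFunction_irr χ u g, val_invol hG χ hu]
    have hcf : IsClassFunction G (∑ ρ ∈ F.T.Y, (ρ : G → ℂ)) := fun a b => by
      simp only [Finset.sum_apply]
      exact Finset.sum_congr rfl fun ρ _ => CfsgLib.Char.isClassFunction_irr ρ a b
    have hb := bound_inverter (CfsgLib.Char.isCharacter_sum F.T.Y (fun ρ => (ρ : G → ℂ))
      fun ρ _ => CfsgLib.Char.isCharacter_irr ρ) hcf E.f_order hwo hwi (d := 24) (α := -1) (v := 2 * iv θ u)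
      (by rw [Finset.sum_apply, hY, Finset.sum_pair hne, val_one, val_one,
            show dg θ = 12 from (F.T.degree_Y θ hθ).trans hεD.2,
            show dg θ' = 12 from (F.T.degree_Y θ' hθ').trans hεD.2]; norm_num)
      (by
        have hj : ∀ j : ℕ, ¬ 5 ∣ j → (∑ ρ ∈ F.T.Y, (ρ : G → ℂ)) (E.f ^ j) = -1 := fun j hj => by
          have hv := F.T.value_Y (E.f ^ j) (pow_mem F.f_mem j)
            (fun e => hj (E.f_order ▸ orderOf_dvd_of_pow_eq_one e)) 1 (one_mem _)
            (by rw [orderOf_one]; norm_num)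
          simp only [mul_one, hεD.1] at hv
          rw [Finset.sum_apply, hv]; norm_num
        have h1 := hj 1 (by norm_num)
        rw [pow_one] at h1
        rw [h1, hj 2 (by norm_num), hj 3 (by norm_num), hj 4 (by norm_num)]; norm_num)
      (by rw [Finset.sum_apply, hY, Finset.sum_pair hne, hcl, hcl, ← hv]; push_cast; ring)
    obtain ⟨-, h4⟩ := iv_bound hG θ (fun e => F.T.one_notMem_Y (e ▸ hθ)) hu
    rw [show dg θ = 12 from (F.T.degree_Y θ hθ).trans hεD.2] at h4
    omega
  have hzero' : iv θ' u = 0 := hv ▸ hzero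
  obtain ⟨hz, hvals⟩ := E.zero_eq h hu hp
  have hcount : ∀ (f : IrrCharacter G → ℤ × ℤ) (q : ℤ × ℤ), f θ = q → f θ' = q → 2 ≤ (X'.map f).count q := by
    intro f q h1 h2
    rw [List.count_eq_countP, List.countP_map, List.countP_eq_length_filter]
    have hsub : [θ, θ'] ⊆ X'.filter ((fun y => y == q) ∘ f) := by
      intro ρ hρ
      simp only [List.mem_cons, List.not_mem_nil, or_false] at hρ
      rcases hρ with rfl | rfl <;> simp [List.mem_filter, hθm, hθm', h1, h2]
    exact (List.Nodup.subperm (by simp [hne]) hsub).length_le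
  have hc12 : 2 ≤ l.count 12 := by
    rw [hldef, List.count_eq_countP, List.countP_map, List.countP_eq_length_filter]
    have hsub : [θ, θ'] ⊆ X'.filter ((fun y => y == (12 : ℤ)) ∘ sd E.S) := by
      intro ρ hρ
      simp only [List.mem_cons, List.not_mem_nil, or_false] at hρ
      rcases hρ with rfl | rfl <;> simp [List.mem_filter, hθm, hθm', hθs, hθs']
    exact (List.Nodup.subperm (by simp [hne]) hsub).length_le
  have hpairs := hcount (fun χ => (sd E.S χ, sv E.S u χ)) (12, 0)
    (by simp [hθs, sv, hzero]) (by simp [hθs', sv, hzero'])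
  have hnodup : X'.Nodup := hp.nodup_iff.2 E.S.X.nodup_toList
  have hass : X'.map (fun χ => (sd E.S χ, sv E.S u χ)) ∈ assignsF (twelveOpts l) l := by
    refine mem_assignsF _ (sd E.S) (sv E.S u) X' fun χ hχ => ?_
    rw [twelveOpts]
    split_ifs with h12
    · obtain ⟨h1, h2⟩ := h12
      have : χ = θ ∨ χ = θ' := by
        by_contra hno
        push Not at hno
        have hsub : [χ, θ, θ'] ⊆ X'.filter ((fun y => y == (12 : ℤ)) ∘ sd E.S) := by
          intro ρ hρ
          simp only [List.mem_cons, List.not_mem_nil, or_false] at hρ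
          rcases hρ with rfl | rfl | rfl <;> simp [List.mem_filter, hχ, hθm, hθm', h1, hθs, hθs']
        have hlen := (List.Nodup.subperm (by simp [hne, hno.1, hno.2]) hsub).length_le
        rw [hldef, List.count_eq_countP, List.countP_map, List.countP_eq_length_filter] at h2
        rw [h2] at hlen
        simp at hlen
      rcases this with rfl | rfl <;> simp [sv, hzero, hzero']
    · exact mem_valsAll (eleven_natAbs_le l hl _ (List.mem_map_of_mem hχ)) (hvals χ hχ)
  obtain ⟨θ₀, hθ₀⟩ := nonempty_Y E.S (by norm_num) (by norm_num)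
  have hr := rel_one E.S hθ₀
  rw [← Finset.sum_map_toList, ← (hp.map _).sum_eq, ← hldef] at hr
  rcases two_twelves l hl hc12 _ hass hz hpairs with h5 | h10
  · rw [← hr] at h5
    exact F.D_ne_five h (by rcases E.S.sign with e | e <;> simp [e] at h5 <;> omega)
  · have hodd : ¬ 2 ∣ c := fun hc2 => by
      obtain ⟨χ, hχ, hχs⟩ := List.mem_map.1 h10
      refine F.no_ten h hc2 χ ?_
      have := natAbs_sd E.S (Finset.mem_toList.1 (hp.mem_iff.1 hχ))
      rw [hχs] at this
      exact this.symm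
    have hv1 : v = -1 := by rw [hzero] at hrelu; omega
    obtain ⟨j, hj⟩ := h64
    rw [hv1, hj] at heq
    push_cast at heq
    have heq2 : 16 * ((a₀ : ℤ) * a₀ * j * j) = 81 * c := by linarith
    omega

end CfsgLib.Char.MTwelveOrder
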