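import Cfsg.Agent.Lib.Char.MTwelveOrder.LinkVals

/-!
# Simple groups of order 95040: the tests for the column of a central involution
-/

set_option autoImplicit false
set_option linter.all false

namespace CfsgLib.Char.MTwelveOrder

open CfsgLib.Perm.PrimeBlock

/-- The orders allowed for the centralizer. -/
def uOrders : List ℕ := [64, 192, 576, 1728]

/-- The values on the block of the prime eleven (degrees 45, 54, 120, 144). -/
structure XVal where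
  a : ℤ
  b : ℤ
  c : ℤ
  e : ℤ
deriving DecidableEq

/-- The value on the exceptional characters. -/
def XVal.T (x : XVal) : ℤ := 1 + (x.a - x.b - x.c + x.e)

/-- The squares on the block. -/
def XVal.sq (x : XVal) : ℤ := 1 + (x.a * x.a + x.b * x.b + x.c * x.c + x.e * x.e) + 2 * (x.T * x.T)

/-- The equation of the block, cleared of denominators. -/
def XVal.zero (x : XVal) : Bool :=
  (48 * (x.a * x.a) - 40 * (x.b * x.b) - 18 * (x.c * x.c) + 15 * (x.e * x.e) + 2160 == 135 * (x.T * x.T))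

/-- Two hundred and twenty times the value on the character of degree 99. -/
def XVal.num (x : XVal) : ℤ :=
  -(12 + 100 * x.a + 120 * x.b + 120 * x.c + 188 * x.e + 120 * x.T + 132 * (x.e - 1))

/-- The part of the weighted squares common to both cases. -/
def XVal.base (x : XVal) (s : ℤ) : ℤ :=
  4752 - 88 * s * (x.b * x.b) - 33 * (x.e * x.e) + 594 * s * (x.T * x.T)

/-- Twenty times `A` is a multiple of the square of the order. -/
def natOK (d : ℕ) (A : ℤ) : Bool := decide (0 ≤ A) && ((20 * A) % ((d : ℤ) * d) == 0)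

/-- The test in the case of the Mathieu group, for given values of degree 11 and 66. -/
def okM (d : ℕ) (x : XVal) (v q : ℤ) : Bool :=
  let p := x.num / 220
  let v' := x.b - 2 * x.T - v
  let r := x.e - 1 + p - q
  let ys := 1 + 5 * x.a + 6 * x.b + 4 * x.e + 8 * x.T - (v + v') + 6 * q - p - 4 * r
  let rem := (d : ℤ) - (x.sq + v * v + v' * v' + q * q + p * p + r * r)
  decide (0 ≤ rem) && (x.num % 220 == 0) && ((p - 99) % 4 == 0) && ((v' - 11) % 4 == 0) && (r % 4 == 0) &&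
    (ys % 5 == 0) &&
    natOK d (x.base 1 + 432 * (v * v + v' * v') + 72 * (q * q) - 48 * (p * p) + 27 * (r * r)) &&
    natOK d (x.base (-1) - 432 * (v * v + v' * v') + 72 * (q * q) - 48 * (p * p) + 27 * (r * r))

/-- The test in the case to be excluded, for given values of degree 44 and 66. -/
def okX (d : ℕ) (x : XVal) (v q : ℤ) : Bool :=
  let p := x.num / 220
  let v' := x.b - 2 * x.T + v
  let r := x.e - 1 + p - q
  let ys := 1 + 5 * x.a + 6 * x.b + 4 * x.e + 8 * x.T - 4 * v - 6 * v' + 6 * q - p - 4 * r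
  let rem := (d : ℤ) - (x.sq + v * v + v' * v' + q * q + p * p + r * r)
  decide (0 ≤ rem) && (x.num % 220 == 0) && ((p - 99) % 4 == 0) && ((v' - 66) % 4 == 0) && (r % 4 == 0) &&
    (ys % 5 == 0) &&
    natOK d (x.base 1 - 108 * (v * v) + 72 * (v' * v') + 72 * (q * q) - 48 * (p * p) + 27 * (r * r)) &&
    natOK d (x.base (-1) + 108 * (v * v) - 72 * (v' * v') + 72 * (q * q) - 48 * (p * p) + 27 * (r * r))

/-- The solutions of the equation of the block. -/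
def uVals : List XVal :=
  [⟨-3, 6, 8, 12⟩, ⟨-3, 6, 8, 24⟩, ⟨-3, 6, -8, 0⟩, ⟨5, 6, 0, 4⟩, ⟨5, 6, 0, -4⟩,
    ⟨-11, 6, -16, 4⟩, ⟨-11, 6, -16, -4⟩, ⟨13, 6, 8, 8⟩, ⟨13, 6, 8, -8⟩, ⟨13, 6, -8, -8⟩,
    ⟨13, 6, -8, -28⟩, ⟨-19, 6, -16, 20⟩, ⟨-19, 6, -24, 8⟩, ⟨-19, 6, -24, -8⟩, ⟨21, 6, 16, 12⟩,
    ⟨21, 6, 16, -12⟩, ⟨1, -6, -16, -20⟩, ⟨1, -6, -24, -28⟩, ⟨-7, -6, 8, 4⟩, ⟨-7, -6, -8, -4⟩,
    ⟨9, -6, 16, 0⟩, ⟨9, -6, -16, -24⟩, ⟨17, -6, -8, -20⟩, ⟨25, -6, 0, -16⟩, ⟨1, 18, 16, 32⟩,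
    ⟨-7, 18, 8, 28⟩, ⟨-15, 18, 0, 24⟩, ⟨17, 18, 8, 4⟩, ⟨17, 18, -8, -4⟩, ⟨-23, 18, -8, 20⟩,
    ⟨25, 18, 0, 4⟩, ⟨5, -18, 0, -28⟩, ⟨-11, -18, -16, -28⟩, ⟨13, -18, 8, -20⟩, ⟨-19, -18, 24, 20⟩,
    ⟨-19, -18, -24, -20⟩, ⟨21, -18, 24, -12⟩]

theorem uVals_spec : ∀ b ∈ (valsFor 1728 54).filter (fun b => b % 3 == 0), ∀ a ∈ valsFor 1728 45,
    ∀ c ∈ (valsFor 1728 120).filter (fun c => (a * a - c * c) % 5 == 0), ∀ e ∈ valsFor 1728 144,
      (XVal.zero ⟨a, b, c, e⟩ = true) → XVal.sq ⟨a, b, c, e⟩ ≤ 1728 → (⟨a, b, c, e⟩ : XVal) ∈ uVals := by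
  decide +kernel

theorem okM_spec : ∀ d ∈ uOrders, ∀ x ∈ uVals, ∀ v ∈ valsFor 1728 11, ∀ q ∈ valsFor 1728 66,
    okM d x v q = true → d = 192 ∧ x = ⟨-3, 6, -8, 0⟩ ∧ v = 3 ∧ q = 2 := by
  decide +kernel

theorem okX_spec : ∀ d ∈ uOrders, ∀ x ∈ uVals, ∀ v ∈ valsFor 1728 44, ∀ q ∈ valsFor 1728 66,
    okX d x v q = true → d = 192 := by
  decide +kernel

end CfsgLib.Char.MTwelveOrder
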