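import Cfsg.Agent.Lib.Char.MTwelveOrder.Rest
import Cfsg.Agent.Lib.Char.MTwelveOrder.UTest

/-!
# Simple groups of order 95040: the column of an involution central in a Sylow subgroup
-/

set_option autoImplicit false
set_option linter.all false
set_option maxHeartbeats 1600000

open Cfsg CfsgLib.Perm.PrimeBlock CfsgLib.Block Finset CfsgLib.Char.MEleven.Order
open scoped ComplexConjugate

namespace CfsgLib.Char.MTwelveOrder

universe u

variable {G : Type u} [Group G] [Fintype G] [IsSimpleGroup G]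

theorem cubes_table : ∀ a ∈ List.range 15, ∀ b ∈ List.range 15,
    ((a : ℤ) - 7) % 4 = 3 → ((b : ℤ) - 7) % 4 = 3 →
      ((a : ℤ) - 7) * ((a : ℤ) - 7) + ((b : ℤ) - 7) * ((b : ℤ) - 7) +
        (19 - (a : ℤ) - b) * (19 - (a : ℤ) - b) = 51 →
      ((a : ℤ) - 7) * ((a : ℤ) - 7) * ((a : ℤ) - 7) + ((b : ℤ) - 7) * ((b : ℤ) - 7) * ((b : ℤ) - 7) +
        (19 - (a : ℤ) - b) * (19 - (a : ℤ) - b) * (19 - (a : ℤ) - b) = 341 := by decide +kernel

theorem cubes_of {a b c : ℤ} (hs : a + b + c = 5) (hq : a * a + b * b + c * c = 51) (ha : a % 4 = 3)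
    (hb : b % 4 = 3) (_ : c % 4 = 3) : a * a * a + b * b * b + c * c * c = 341 := by
  have hc : c = 5 - a - b := by linarith
  subst hc
  have h1 : a.natAbs ≤ 7 := by
    by_contra hgt
    have : (8 : ℤ) ≤ |a| := by rw [Int.abs_eq_natAbs]; omega
    nlinarith [abs_mul_abs_self a]
  have h2 : b.natAbs ≤ 7 := by
    by_contra hgt
    have : (8 : ℤ) ≤ |b| := by rw [Int.abs_eq_natAbs]; omega
    nlinarith [abs_mul_abs_self b]
  have key := cubes_table (a + 7).toNat (List.mem_range.2 (by omega)) (b + 7).toNat (List.mem_range.2 (by omega))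
  have e1 : (((a + 7).toNat : ℕ) : ℤ) = a + 7 := by omega
  have e2 : (((b + 7).toNat : ℕ) : ℤ) = b + 7 := by omega
  rw [e1, e2] at key
  ring_nf at key hq ⊢
  exact key (by omega) (by omega) (by linarith)

namespace Base

variable (B : Base G) {u : G}

theorem not_conj_y (h64 : 64 ∣ Nat.card (Subgroup.centralizer ({u} : Set G))) : ¬ IsConj u B.y := by
  intro hc
  have e : (Subgroup.centralizer ({u} : Set G)).index = (Subgroup.centralizer ({B.y} : Set G)).index := by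
    rw [← CfsgLib.Char.card_isConj, ← CfsgLib.Char.card_isConj]
    exact Nat.card_congr (Equiv.subtypeEquivRight fun z =>
      ⟨fun hz => hc.symm.trans hz, fun hz => hc.trans hz⟩)
  have h1 := Subgroup.card_mul_index (Subgroup.centralizer ({u} : Set G))
  have h2 := Subgroup.card_mul_index (Subgroup.centralizer ({B.y} : Set G))
  rw [← e, ← h1, B.cent_y] at h2
  have h3 : (Subgroup.centralizer ({u} : Set G)).index ≠ 0 := Subgroup.index_ne_zero_of_finite
  rw [← Nat.eq_of_mul_eq_mul_right (Nat.pos_of_ne_zero h3) h2] at h64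
  norm_num at h64

/-- An involution commuting with an element of order five is conjugate to `y`. -/
theorem conj_y_of_five (hu : orderOf u = 2) (h5 : 5 ∣ Nat.card (Subgroup.centralizer ({u} : Set G))) :
    IsConj u B.y := by
  haveI : Fact (Nat.Prime 5) := ⟨by norm_num⟩
  obtain ⟨g', hg'⟩ := exists_prime_orderOf_dvd_card' (G := Subgroup.centralizer ({u} : Set G)) 5 h5
  have hg : orderOf (g' : G) = 5 := by rw [Subgroup.orderOf_coe, hg']
  have hgu : Commute (g' : G) u := Subgroup.mem_centralizer_singleton_iff.1 g'.2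
  obtain ⟨R, hR⟩ := (IsPGroup.of_card (p := 5) (n := 1) (G := Subgroup.zpowers (g' : G))
    (by rw [Nat.card_zpowers, hg, pow_one])).exists_le_sylow
  obtain ⟨w, hw⟩ := MulAction.exists_smul_eq G R B.F.Q
  have hmem : w * g' * w⁻¹ ∈ Subgroup.zpowers B.E.f := by
    rw [B.F.zpowers_f, ← hw, Sylow.coe_subgroup_smul]
    exact ⟨_, hR (Subgroup.mem_zpowers _), rfl⟩
  obtain ⟨i, hi⟩ := (Subgroup.mem_zpowers_iff.1 (show B.E.f ∈ Subgroup.zpowers (w * g' * w⁻¹) from by
    have e : Subgroup.zpowers (w * g' * w⁻¹) = Subgroup.zpowers B.E.f :=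
      Subgroup.eq_of_le_of_card_ge (Subgroup.zpowers_le.2 hmem) (by
        rw [Nat.card_zpowers, Nat.card_zpowers, B.E.f_order]
        exact le_of_eq (hg.symm.trans ((MulAut.conj w).orderOf_eq (g' : G)).symm))
    rw [e]; exact Subgroup.mem_zpowers _))
  refine isConj_iff.2 ⟨w, B.y_unique ?_ (((MulAut.conj w).orderOf_eq u).trans hu)⟩
  rw [← hi]
  have hcw : Commute (w * u * w⁻¹) (w * g' * w⁻¹) := by
    show w * u * w⁻¹ * (w * g' * w⁻¹) = w * g' * w⁻¹ * (w * u * w⁻¹)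
    rw [show w * u * w⁻¹ * (w * g' * w⁻¹) = w * (u * g') * w⁻¹ by group, ← hgu.eq]
    group
  exact (hcw.zpow_right i).eq

include B in
theorem u_order_mem (h : Nat.card G = 95040) (hu : orderOf u = 2)
    (h64 : 64 ∣ Nat.card (Subgroup.centralizer ({u} : Set G))) :
    Nat.card (Subgroup.centralizer ({u} : Set G)) ∈ uOrders := by
  have h5 : ¬ 5 ∣ Nat.card (Subgroup.centralizer ({u} : Set G)) := fun h5 =>
    B.not_conj_y h64 (B.conj_y_of_five hu h5)
  have h11 := ElevenSetup.eleven_ndvd h hu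
  obtain ⟨m, hm⟩ := h64
  have hd : 64 * m ∣ 95040 := by rw [← hm, ← h]; exact Subgroup.card_subgroup_dvd_card _
  rw [hm] at h5 h11 ⊢
  have hm' : m ∣ 27 * 55 := Nat.dvd_of_mul_dvd_mul_left (by norm_num : 0 < 64) hd
  have hco : Nat.Coprime m 55 := by
    rw [show (55 : ℕ) = 5 * 11 from rfl]
    refine Nat.Coprime.mul_right ?_ ?_
    · exact ((Nat.Prime.coprime_iff_not_dvd (by norm_num)).2 fun h => h5 (h.mul_left 64)).symm
    · exact ((Nat.Prime.coprime_iff_not_dvd (by norm_num)).2 fun h => h11 (h.mul_left 64)).symm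
  have hm27 : m ∣ 27 := hco.dvd_of_dvd_mul_right hm'
  have hle := Nat.le_of_dvd (by norm_num) hm27
  interval_cases m <;> simp [uOrders] at hm27 ⊢

theorem eps_X : B.E.S.εX B.b45 = 1 ∧ B.E.S.εX B.b54 = -1 ∧ B.E.S.εX B.b120 = -1 ∧ B.E.S.εX B.b144 = 1 := by
  obtain ⟨d1, d2, d3, d4, -, -⟩ := B.degs
  have e := B.sd_X
  simp only [List.map_cons, List.map_nil, List.cons.injEq, and_true, sd, d1, d2, d3, d4] at e
  push_cast at e
  omega

/-- The values on the block of the prime eleven. -/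
noncomputable def xval (u : G) : XVal := ⟨iv B.b45 u, iv B.b54 u, iv B.b120 u, iv B.b144 u⟩

theorem t_val (h : Nat.card G = 95040) (hu : orderOf u = 2) :
    iv B.t1 u = (B.xval u).T ∧ iv B.t2 u = (B.xval u).T := by
  haveI : Fact (Nat.Prime 11) := ⟨by norm_num⟩
  obtain ⟨e1, e2, e3, e4⟩ := B.eps_X
  have key : ∀ θ ∈ B.E.S.Y, iv θ u = (B.xval u).T := fun θ hθ => by
    have hr := rel_val B.E.S hθ (g := u) (by rw [hu]; norm_num) (fun χ => val_invol (noncomm h) χ hu)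
    rw [B.eps, one_mul, B.X_eq, List.sum_toFinset _ B.X_nodup] at hr
    simp [sv, e1, e2, e3, e4] at hr
    rw [hr]
    simp [XVal.T, xval]
    ring
  exact ⟨key _ B.memY.1, key _ B.memY.2⟩

theorem xval_mem (h : Nat.card G = 95040) (hu : orderOf u = 2)
    (hle : (B.xval u).sq ≤ 1728) : B.xval u ∈ uVals := by
  classical
  haveI : Fact (Nat.Prime 11) := ⟨by norm_num⟩
  have hG := noncomm h
  obtain ⟨e1, e2, e3, e4⟩ := B.eps_X
  obtain ⟨d1, d2, d3, d4, -, -⟩ := B.degs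
  obtain ⟨s1, s2, s3, s4⟩ : sd B.E.S B.b45 = 45 ∧ sd B.E.S B.b54 = -54 ∧ sd B.E.S B.b120 = -120 ∧
      sd B.E.S B.b144 = 144 := by simpa using B.sd_X
  have hX' : List.Perm [B.b45, B.b54, B.b120, B.b144] B.E.S.X.toList := by
    rw [B.X_eq]
    exact ((List.toFinset_toList B.X_nodup).symm)
  obtain ⟨hz, -⟩ := B.E.zero_eq h hu hX'
  simp only [List.map_cons, List.map_nil, sv, e1, e2, e3, e4, s1, s2, s3, s4, zeroE, fracSum,
    List.sum_cons, List.sum_nil, Bool.and_eq_true, decide_eq_true_eq, beq_iff_eq] at hz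
  obtain ⟨⟨-, -⟩, hz⟩ := hz
  have hzero : 48 * ((B.xval u).a * (B.xval u).a) - 40 * ((B.xval u).b * (B.xval u).b) -
      18 * ((B.xval u).c * (B.xval u).c) + 15 * ((B.xval u).e * (B.xval u).e) + 2160 =
      135 * ((B.xval u).T * (B.xval u).T) := by
    simp only [XVal.T, xval]
    ring_nf at hz ⊢
    linarith
  have hb : ∀ χ : IrrCharacter G, χ ≠ oneChar G → ∀ n : ℕ, dg χ = n → iv χ u * iv χ u < 1728 →
      iv χ u ∈ valsFor 1728 (n : ℤ) := fun χ h1 n hn hlt => by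
    obtain ⟨i1, i4⟩ := iv_bound hG χ h1 hu
    exact mem_valsFor (by rw [hn] at i1; simpa using i1) (by simpa using hlt) (by rw [hn] at i4; exact i4)
  have hne : ∀ χ ∈ B.E.S.X, χ ≠ oneChar G := fun χ h h' => B.E.S.one_notMem_X (h' ▸ h)
  obtain ⟨m1, m2, m3, m4⟩ := B.memX
  have hsq := hle
  simp only [XVal.sq] at hsq
  have n1 := mul_self_nonneg (B.xval u).a
  have n2 := mul_self_nonneg (B.xval u).b
  have n3 := mul_self_nonneg (B.xval u).c
  have n4 := mul_self_nonneg (B.xval u).e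
  have n5 := mul_self_nonneg (B.xval u).T
  have hb3 : (B.xval u).b % 3 = 0 := by
    have h3 : (B.xval u).b * (B.xval u).b % 3 = 0 := by omega
    rw [Int.mul_emod] at h3
    have := Int.emod_nonneg (B.xval u).b (by norm_num : (3 : ℤ) ≠ 0)
    have := Int.emod_lt_of_pos (B.xval u).b (by norm_num : (0 : ℤ) < 3)
    interval_cases hh : (B.xval u).b % 3 <;> simp_all
  have h5 : ((B.xval u).a * (B.xval u).a - (B.xval u).c * (B.xval u).c) % 5 = 0 := by omega
  exact uVals_spec _ (List.mem_filter.2 ⟨hb _ (hne _ m2) 54 d2 (by simp only [xval] at *; linarith), by simpa [Base.xval] using hb3⟩)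
    _ (hb _ (hne _ m1) 45 d1 (by simp only [xval] at *; linarith))
    _ (List.mem_filter.2 ⟨hb _ (hne _ m3) 120 d3 (by simp only [xval] at *; linarith), by simpa [Base.xval] using h5⟩)
    _ (hb _ (hne _ m4) 144 d4 (by simp only [xval] at *; linarith))
    (by simp only [XVal.zero, beq_iff_eq]; exact hzero) hle

end Base

namespace Table

variable (T : Table G) {u : G}

theorem sum_all [Fintype (IrrCharacter G)] {M : Type*} [AddCommMonoid M] (φ : IrrCharacter G → M) :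
    ∑ χ : IrrCharacter G, φ χ = φ (oneChar G) + (φ T.B.b45 + φ T.B.b54 + φ T.B.b120 + φ T.B.b144 +
      (φ T.B.t1 + φ T.B.t2)) + (T.o.map φ).sum := by
  classical
  rw [T.B.sum_all, ← T.cover, List.sum_toFinset _ T.nodup]

theorem item_facts (h : Nat.card G = 95040) {χ : IrrCharacter G} {k a b v : ℤ} (hm : χ ∈ T.o)
    (he : T.B.item χ = (k, a, b, v)) : (dg χ : ℤ) = 11 * k ∧ iv χ T.B.E.f = a ∧ iv χ T.B.w = b ∧ iv χ T.B.y = v ∧
      χ ≠ oneChar G := by
  classical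
  have hout : χ ∈ T.B.out := T.cover ▸ List.mem_toFinset.2 hm
  have hk := (T.B.out_facts hout h).1
  rw [he] at hk
  simp only [Base.item, Prod.mk.injEq] at he
  exact ⟨hk, he.2.1, he.2.2.1, he.2.2.2, (T.B.mem_out.1 hout).1⟩

/-- The equations of the column, with the characters outside the block left as a list. -/
theorem column (h : Nat.card G = 95040) (hu : orderOf u = 2)
    (h64 : 64 ∣ Nat.card (Subgroup.centralizer ({u} : Set G))) :
    let x := T.B.xval u
    (1 + x.a * x.a + x.b * x.b + x.c * x.c + x.e * x.e + 2 * (x.T * x.T) + (T.o.map fun χ => iv χ u * iv χ u).sum =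
        (Nat.card (Subgroup.centralizer ({u} : Set G)) : ℤ)) ∧
      (1 + 45 * x.a + 54 * x.b + 120 * x.c + 144 * x.e + 32 * x.T + (T.o.map fun χ => (dg χ : ℤ) * iv χ u).sum = 0) ∧
      (1 - x.b - x.e + 2 * x.T + (T.o.map fun χ => iv χ T.B.E.f * iv χ u).sum = 0) ∧
      (1 + x.b - x.e - 2 * x.T + (T.o.map fun χ => iv χ T.B.w * iv χ u).sum = 0) ∧
      (1 + 5 * x.a + 6 * x.b + 4 * x.e + 8 * x.T + (T.o.map fun χ => iv χ T.B.y * iv χ u).sum = 0) := by
  classical
  intro x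
  haveI := Fintype.ofFinite (IrrCharacter G)
  have hG := noncomm h
  have hvu : ∀ χ : IrrCharacter G, (χ : G → ℂ) u = (iv χ u : ℂ) := fun χ => val_invol hG χ hu
  have hvw : ∀ χ : IrrCharacter G, (χ : G → ℂ) T.B.w = (iv χ T.B.w : ℂ) := fun χ => (T.B.w_facts χ h).1
  have hord : ∀ g : G, orderOf g ≠ 2 → ¬ IsConj g u := fun g hg hc => by
    obtain ⟨c, rfl⟩ := isConj_iff.1 hc
    exact hg (((MulAut.conj c).orderOf_eq g).symm.trans hu)
  have hcy : ¬ IsConj T.B.y u := fun hc => T.B.not_conj_y h64 hc.symm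
  obtain ⟨d1, d2, d3, d4, d5, d6⟩ := T.B.degs
  obtain ⟨f1, f2, f3, f4, f5, f6⟩ := T.B.vals_f
  obtain ⟨y1, y2, y3, y4, y5, y6⟩ := T.B.vals_y
  obtain ⟨w1, w2, w3, w4, w5, w6⟩ := T.B.vals_w h
  obtain ⟨t1, t2⟩ := T.B.t_val h hu
  have c1 := sum_iv_sq hvu
  have c2 := sum_dg_iv (fun e => by simp [e] at hu) hvu
  have c3 := sum_iv_mul (hord _ (by rw [T.B.E.f_order]; norm_num)) T.B.F.val_f hvu
  have c4 := sum_iv_mul (hord _ (by rw [T.B.w_order]; norm_num)) hvw hvu
  have c5 := sum_iv_mul hcy (fun χ => T.B.val_y χ h) hvu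
  rw [T.sum_all] at c1 c2 c3 c4 c5
  simp only [iv_oneChar, dg_one, d1, d2, d3, d4, d5, d6, f1, f2, f3, f4, f5, f6, y1, y2, y3, y4, y5, y6,
    w1, w2, w3, w4, w5, w6, t1, t2] at c1 c2 c3 c4 c5
  push_cast at c1 c2 c3 c4 c5
  simp only [x, Base.xval] at c1 c2 c3 c4 c5 ⊢
  exact ⟨by linarith, by linarith, by linarith, by linarith, by linarith⟩

theorem classConst_identity [Fintype (IrrCharacter G)] (h : Nat.card G = 95040) (hu : orderOf u = 2) {g : G}
    (hg : ∀ χ : IrrCharacter G, (χ : G → ℂ) g = (iv χ g : ℂ)) :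
    ((CfsgLib.Char.classConst u u g : ℕ) : ℂ) * (Nat.card (Subgroup.centralizer ({u} : Set G)) : ℂ) *
        (Nat.card (Subgroup.centralizer ({u} : Set G)) : ℂ) =
      20 * (4752 * ∑ χ : IrrCharacter G, (iv χ u : ℂ) * iv χ u * iv χ g / (dg χ : ℂ)) := by
  rw [class_mul, h]
  simp only [val_invol (noncomm h) _ hu, hg, map_intCast]
  push_cast
  ring

theorem natOK_of {d K : ℕ} {A : ℤ} (e : (K : ℤ) * d * d = 20 * A) : natOK d A = true := by
  simp only [natOK, Bool.and_eq_true, decide_eq_true_eq, beq_iff_eq]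
  refine ⟨?_, by rw [← e, mul_assoc]; exact Int.mul_emod_left _ _⟩
  have : 0 ≤ (K : ℤ) * d * d := by positivity
  omega

/-- The column in the case of the Mathieu group. -/
theorem column_M (h : Nat.card G = 95040) (hM : T.o.map T.B.item = restM) (hu : orderOf u = 2)
    (h64 : 64 ∣ Nat.card (Subgroup.centralizer ({u} : Set G))) :
    Nat.card (Subgroup.centralizer ({u} : Set G)) = 192 ∧ T.B.xval u = ⟨-3, 6, -8, 0⟩ ∧
      ∃ a b c : ℤ, T.o.map (fun χ => iv χ u) = [3, 3, 2, 3, 0, a, b, c] ∧ a + b + c = 5 ∧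
        a * a + b * b + c * c = 51 ∧ a * a * a + b * b * b + c * c * c = 341 := by
  classical
  haveI := Fintype.ofFinite (IrrCharacter G)
  set d := Nat.card (Subgroup.centralizer ({u} : Set G)) with hd
  have hdm : d ∈ uOrders := T.B.u_order_mem h hu h64
  have hG := noncomm h
  have hM' := hM
  simp only [restM, List.map_eq_cons_iff, List.map_eq_nil_iff] at hM'
  obtain ⟨c1, _, rfl', i1, c2, _, rfl, i2, c3, _, rfl, i3, c4, _, rfl, i4, c5, _, rfl, i5, c6, _, rfl, i6,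
    c7, _, rfl, i7, c8, _, rfl, i8, rfl⟩ := hM'
  have hmem : ∀ χ ∈ [c1, c2, c3, c4, c5, c6, c7, c8], χ ∈ T.o := by rw [rfl']; exact fun χ h => h
  obtain ⟨g1, a1, b1, v1, n1⟩ := T.item_facts h (hmem c1 (by simp)) i1
  obtain ⟨g2, a2, b2, v2, n2⟩ := T.item_facts h (hmem c2 (by simp)) i2
  obtain ⟨g3, a3, b3, v3, n3⟩ := T.item_facts h (hmem c3 (by simp)) i3
  obtain ⟨g4, a4, b4, v4, n4⟩ := T.item_facts h (hmem c4 (by simp)) i4
  obtain ⟨g5, a5, b5, v5, n5⟩ := T.item_facts h (hmem c5 (by simp)) i5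
  obtain ⟨g6, a6, b6, v6, n6⟩ := T.item_facts h (hmem c6 (by simp)) i6
  obtain ⟨g7, a7, b7, v7, n7⟩ := T.item_facts h (hmem c7 (by simp)) i7
  obtain ⟨g8, a8, b8, v8, n8⟩ := T.item_facts h (hmem c8 (by simp)) i8
  obtain ⟨q1, q2, q3, q4, q5⟩ := T.column h hu h64
  obtain ⟨t1, t2⟩ := T.B.t_val h hu
  obtain ⟨d1, d2, d3, d4, d5, d6⟩ := T.B.degs
  obtain ⟨f1, f2, f3, f4, f5, f6⟩ := T.B.vals_f
  obtain ⟨w1, w2, w3, w4, w5, w6⟩ := T.B.vals_w h
  rw [rfl'] at q1 q2 q3 q4 q5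
  simp only [List.map_cons, List.map_nil, List.sum_cons, List.sum_nil, g1, g2, g3, g4, g5, g6, g7, g8,
    a1, a2, a3, a4, a5, a6, a7, a8, b1, b2, b3, b4, b5, b6, b7, b8, v1, v2, v3, v4, v5, v6, v7, v8] at q1 q2 q3 q4 q5
  set x := T.B.xval u with hx
  have hdeg : ∀ χ : IrrCharacter G, ∀ k : ℕ, (dg χ : ℤ) = 11 * (k : ℤ) → (dg χ : ℂ) = 11 * (k : ℂ) :=
    fun χ k e => by exact_mod_cast e
  have kA := Table.classConst_identity h hu T.B.F.val_f
  have kB := Table.classConst_identity (u := u) h hu (fun χ => (T.B.w_facts χ h).1)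
  rw [T.sum_all, rfl'] at kA kB
  simp only [List.map_cons, List.map_nil, List.sum_cons, List.sum_nil, iv_oneChar, dg_one,
    d1, d2, d3, d4, d5, d6, f1, f2, f3, f4, f5, f6, w1, w2, w3, w4, w5, w6, t1, t2,
    a1, a2, a3, a4, a5, a6, a7, a8, b1, b2, b3, b4, b5, b6, b7, b8,
    hdeg c1 1 g1, hdeg c2 1 g2, hdeg c3 6 g3, hdeg c4 9 g4, hdeg c5 16 g5] at kA kB
  rw [← hd] at kA kB q1
  have eA : ((CfsgLib.Char.classConst u u T.B.E.f : ℕ) : ℤ) * d * d = 20 * (x.base 1 +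
      432 * (iv c1 u * iv c1 u + iv c2 u * iv c2 u) + 72 * (iv c3 u * iv c3 u) - 48 * (iv c4 u * iv c4 u) +
      27 * (iv c5 u * iv c5 u)) := by
    have key : ((((CfsgLib.Char.classConst u u T.B.E.f : ℕ) : ℤ) * d * d : ℤ) : ℂ) = ((20 * (x.base 1 +
        432 * (iv c1 u * iv c1 u + iv c2 u * iv c2 u) + 72 * (iv c3 u * iv c3 u) - 48 * (iv c4 u * iv c4 u) +
        27 * (iv c5 u * iv c5 u)) : ℤ) : ℂ) := by
      push_cast [XVal.base, hx, Base.xval] at kA ⊢
      linear_combination kA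
    exact_mod_cast key
  have eB : ((CfsgLib.Char.classConst u u T.B.w : ℕ) : ℤ) * d * d = 20 * (x.base (-1) -
      432 * (iv c1 u * iv c1 u + iv c2 u * iv c2 u) + 72 * (iv c3 u * iv c3 u) - 48 * (iv c4 u * iv c4 u) +
      27 * (iv c5 u * iv c5 u)) := by
    have key : ((((CfsgLib.Char.classConst u u T.B.w : ℕ) : ℤ) * d * d : ℤ) : ℂ) = ((20 * (x.base (-1) -
        432 * (iv c1 u * iv c1 u + iv c2 u * iv c2 u) + 72 * (iv c3 u * iv c3 u) - 48 * (iv c4 u * iv c4 u) +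
        27 * (iv c5 u * iv c5 u)) : ℤ) : ℂ) := by
      push_cast [XVal.base, hx, Base.xval] at kB ⊢
      linear_combination kB
    exact_mod_cast key
  have hd1728 : (d : ℤ) ≤ 1728 := by
    simp only [uOrders, List.mem_cons, List.not_mem_nil, or_false] at hdm; omega
  have := mul_self_nonneg (iv c1 u); have := mul_self_nonneg (iv c2 u); have := mul_self_nonneg (iv c3 u)
  have := mul_self_nonneg (iv c4 u); have := mul_self_nonneg (iv c5 u); have := mul_self_nonneg (iv c6 u)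
  have := mul_self_nonneg (iv c7 u); have := mul_self_nonneg (iv c8 u)
  have := mul_self_nonneg x.a; have := mul_self_nonneg x.b; have := mul_self_nonneg x.c
  have := mul_self_nonneg x.e; have := mul_self_nonneg x.T
  have hxm : x ∈ uVals := T.B.xval_mem h hu (by simp only [XVal.sq, ← hx]; linarith)
  obtain ⟨l1, m1⟩ := iv_bound hG c1 n1 hu
  obtain ⟨l2, m2⟩ := iv_bound hG c2 n2 hu
  obtain ⟨l3, m3⟩ := iv_bound hG c3 n3 hu
  obtain ⟨l4, m4⟩ := iv_bound hG c4 n4 hu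
  obtain ⟨l5, m5⟩ := iv_bound hG c5 n5 hu
  obtain ⟨l6, m6⟩ := iv_bound hG c6 n6 hu
  obtain ⟨l7, m7⟩ := iv_bound hG c7 n7 hu
  obtain ⟨l8, m8⟩ := iv_bound hG c8 n8 hu
  have hp : x.num = 220 * iv c4 u := by simp only [XVal.num]; linarith
  have hpd : x.num / 220 = iv c4 u := by omega
  have hv' : x.b - 2 * x.T - iv c1 u = iv c2 u := by linarith
  have hr : x.e - 1 + iv c4 u - iv c3 u = iv c5 u := by linarith
  have hok : okM d x (iv c1 u) (iv c3 u) = true := by
    simp only [okM, hpd, hv', hr, Bool.and_eq_true, decide_eq_true_eq, beq_iff_eq]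
    refine ⟨⟨⟨⟨⟨⟨⟨?_, ?_⟩, ?_⟩, ?_⟩, ?_⟩, ?_⟩, natOK_of eA⟩, natOK_of eB⟩
    · simp only [XVal.sq]; linarith
    · omega
    · omega
    · omega
    · omega
    · omega
  obtain ⟨e192, hxe, hv, hq⟩ := okM_spec d hdm x hxm (iv c1 u)
    (mem_valsFor (by omega) (by push_cast; linarith) (by omega)) (iv c3 u)
    (mem_valsFor (by omega) (by push_cast; linarith) (by omega)) hok
  rw [hxe] at hp hv' hr q1 q5
  norm_num [XVal.num, XVal.T] at hp hv' hr q1 q5
  have e2 : iv c2 u = 3 := by omega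
  have e4 : iv c4 u = 3 := by omega
  have e5 : iv c5 u = 0 := by omega
  rw [hv, e2, hq, e4, e5, e192] at q1
  rw [hv, e2, hq, e4, e5] at q5
  norm_num at q1 q5
  refine ⟨e192, hxe, iv c6 u, iv c7 u, iv c8 u, ?_, by linarith, by linarith, ?_⟩
  · rw [rfl']; simp [hv, e2, hq, e4, e5]
  · exact cubes_of (by linarith) (by linarith) (by clear * - m6 g6; omega) (by clear * - m7 g7; omega)
      (by clear * - m8 g8; omega)

/-- The column in the case to be excluded. -/
theorem column_X (h : Nat.card G = 95040) (hX : T.o.map T.B.item = restX) (hu : orderOf u = 2)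
    (h64 : 64 ∣ Nat.card (Subgroup.centralizer ({u} : Set G))) :
    Nat.card (Subgroup.centralizer ({u} : Set G)) = 192 := by
  classical
  haveI := Fintype.ofFinite (IrrCharacter G)
  set d := Nat.card (Subgroup.centralizer ({u} : Set G)) with hd
  have hdm : d ∈ uOrders := T.B.u_order_mem h hu h64
  have hG := noncomm h
  have hX' := hX
  simp only [restX, List.map_eq_cons_iff, List.map_eq_nil_iff] at hX'
  obtain ⟨c1, _, rfl', i1, c2, _, rfl, i2, c3, _, rfl, i3, c4, _, rfl, i4, c5, _, rfl, i5, c6, _, rfl, i6,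
    rfl⟩ := hX'
  have hmem : ∀ χ ∈ [c1, c2, c3, c4, c5, c6], χ ∈ T.o := by rw [rfl']; exact fun χ h => h
  obtain ⟨g1, a1, b1, v1, n1⟩ := T.item_facts h (hmem c1 (by simp)) i1
  obtain ⟨g2, a2, b2, v2, n2⟩ := T.item_facts h (hmem c2 (by simp)) i2
  obtain ⟨g3, a3, b3, v3, n3⟩ := T.item_facts h (hmem c3 (by simp)) i3
  obtain ⟨g4, a4, b4, v4, n4⟩ := T.item_facts h (hmem c4 (by simp)) i4
  obtain ⟨g5, a5, b5, v5, n5⟩ := T.item_facts h (hmem c5 (by simp)) i5
  obtain ⟨g6, a6, b6, v6, n6⟩ := T.item_facts h (hmem c6 (by simp)) i6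
  obtain ⟨q1, q2, q3, q4, q5⟩ := T.column h hu h64
  obtain ⟨t1, t2⟩ := T.B.t_val h hu
  obtain ⟨d1, d2, d3, d4, d5, d6⟩ := T.B.degs
  obtain ⟨f1, f2, f3, f4, f5, f6⟩ := T.B.vals_f
  obtain ⟨w1, w2, w3, w4, w5, w6⟩ := T.B.vals_w h
  rw [rfl'] at q1 q2 q3 q4 q5
  simp only [List.map_cons, List.map_nil, List.sum_cons, List.sum_nil, g1, g2, g3, g4, g5, g6,
    a1, a2, a3, a4, a5, a6, b1, b2, b3, b4, b5, b6, v1, v2, v3, v4, v5, v6] at q1 q2 q3 q4 q5
  set x := T.B.xval u with hx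
  have hdeg : ∀ χ : IrrCharacter G, ∀ k : ℕ, (dg χ : ℤ) = 11 * (k : ℤ) → (dg χ : ℂ) = 11 * (k : ℂ) :=
    fun χ k e => by exact_mod_cast e
  have kA := Table.classConst_identity h hu T.B.F.val_f
  have kB := Table.classConst_identity (u := u) h hu (fun χ => (T.B.w_facts χ h).1)
  rw [T.sum_all, rfl'] at kA kB
  simp only [List.map_cons, List.map_nil, List.sum_cons, List.sum_nil, iv_oneChar, dg_one,
    d1, d2, d3, d4, d5, d6, f1, f2, f3, f4, f5, f6, w1, w2, w3, w4, w5, w6, t1, t2,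
    a1, a2, a3, a4, a5, a6, b1, b2, b3, b4, b5, b6,
    hdeg c1 4 g1, hdeg c2 6 g2, hdeg c3 6 g3, hdeg c4 9 g4, hdeg c5 16 g5] at kA kB
  rw [← hd] at kA kB q1
  have eA : ((CfsgLib.Char.classConst u u T.B.E.f : ℕ) : ℤ) * d * d = 20 * (x.base 1 -
      108 * (iv c1 u * iv c1 u) + 72 * (iv c2 u * iv c2 u) + 72 * (iv c3 u * iv c3 u) -
      48 * (iv c4 u * iv c4 u) + 27 * (iv c5 u * iv c5 u)) := by
    have key : ((((CfsgLib.Char.classConst u u T.B.E.f : ℕ) : ℤ) * d * d : ℤ) : ℂ) = ((20 * (x.base 1 -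
        108 * (iv c1 u * iv c1 u) + 72 * (iv c2 u * iv c2 u) + 72 * (iv c3 u * iv c3 u) -
        48 * (iv c4 u * iv c4 u) + 27 * (iv c5 u * iv c5 u)) : ℤ) : ℂ) := by
      push_cast [XVal.base, hx, Base.xval] at kA ⊢
      linear_combination kA
    exact_mod_cast key
  have eB : ((CfsgLib.Char.classConst u u T.B.w : ℕ) : ℤ) * d * d = 20 * (x.base (-1) +
      108 * (iv c1 u * iv c1 u) - 72 * (iv c2 u * iv c2 u) + 72 * (iv c3 u * iv c3 u) -
      48 * (iv c4 u * iv c4 u) + 27 * (iv c5 u * iv c5 u)) := by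
    have key : ((((CfsgLib.Char.classConst u u T.B.w : ℕ) : ℤ) * d * d : ℤ) : ℂ) = ((20 * (x.base (-1) +
        108 * (iv c1 u * iv c1 u) - 72 * (iv c2 u * iv c2 u) + 72 * (iv c3 u * iv c3 u) -
        48 * (iv c4 u * iv c4 u) + 27 * (iv c5 u * iv c5 u)) : ℤ) : ℂ) := by
      push_cast [XVal.base, hx, Base.xval] at kB ⊢
      linear_combination kB
    exact_mod_cast key
  have hd1728 : (d : ℤ) ≤ 1728 := by
    simp only [uOrders, List.mem_cons, List.not_mem_nil, or_false] at hdm; omega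
  have := mul_self_nonneg (iv c1 u); have := mul_self_nonneg (iv c2 u); have := mul_self_nonneg (iv c3 u)
  have := mul_self_nonneg (iv c4 u); have := mul_self_nonneg (iv c5 u); have := mul_self_nonneg (iv c6 u)
  have := mul_self_nonneg x.a; have := mul_self_nonneg x.b; have := mul_self_nonneg x.c
  have := mul_self_nonneg x.e; have := mul_self_nonneg x.T
  have hxm : x ∈ uVals := T.B.xval_mem h hu (by simp only [XVal.sq, ← hx]; linarith)
  obtain ⟨l1, m1⟩ := iv_bound hG c1 n1 hu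
  obtain ⟨l2, m2⟩ := iv_bound hG c2 n2 hu
  obtain ⟨l3, m3⟩ := iv_bound hG c3 n3 hu
  obtain ⟨l4, m4⟩ := iv_bound hG c4 n4 hu
  obtain ⟨l5, m5⟩ := iv_bound hG c5 n5 hu
  have hp : x.num = 220 * iv c4 u := by simp only [XVal.num]; linarith
  have hpd : x.num / 220 = iv c4 u := by omega
  have hv' : x.b - 2 * x.T + iv c1 u = iv c2 u := by linarith
  have hr : x.e - 1 + iv c4 u - iv c3 u = iv c5 u := by linarith
  have hok : okX d x (iv c1 u) (iv c3 u) = true := by
    simp only [okX, hpd, hv', hr, Bool.and_eq_true, decide_eq_true_eq, beq_iff_eq]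
    refine ⟨⟨⟨⟨⟨⟨⟨?_, ?_⟩, ?_⟩, ?_⟩, ?_⟩, ?_⟩, natOK_of eA⟩, natOK_of eB⟩
    · simp only [XVal.sq]; linarith
    · omega
    · omega
    · omega
    · omega
    · omega
  exact okX_spec d hdm x hxm (iv c1 u) (mem_valsFor (by omega) (by push_cast; linarith) (by omega)) (iv c3 u)
    (mem_valsFor (by omega) (by push_cast; linarith) (by omega)) hok

end Table

end CfsgLib.Char.MTwelveOrder
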